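import Cfsg.Agent.Local.JStrad

/-!
The subgroup `Ω₁(Z(J(T)))` for `T` maximal among the straddling 2-subgroups
(Kurzweil–Stellmacher 12.3).
-/

set_option autoImplicit false
set_option linter.unusedSectionVars false

namespace Cfsg.Lib.Local.JC

open Subgroup Cfsg.Lib.Trans Cfsg.Lib.Trans.TJ Cfsg.Lib.Solv
open scoped commutatorElement

variable {G : Type*} [Group G] [Finite G]

theorem twoLocal_cj {L : Subgroup G} (h : IsTwoLocal L) (g : G) : IsTwoLocal (cj g L) := by
  obtain ⟨R, hR, hR1, rfl⟩ := h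
  exact ⟨cj g R, isPGroup_cj hR g, fun h1 => hR1 (cj_eq_bot.mp h1), cj_normalizer g R⟩

theorem strad_cj {M U : Subgroup G} (h : U ∈ straddlingTwoSubgroups M) {g : G} (hg : g ∈ M) :
    cj g U ∈ straddlingTwoSubgroups M := by
  obtain ⟨h1, h2, h3, L, h4, h5, h6⟩ := h
  exact ⟨isPGroup_cj h1 g, fun h => h2 (cj_eq_bot.mp h), cj_le_of_mem_of_le hg h3, cj g L,
    twoLocal_cj h4 g, cj_mono g h5, fun h => h6 (by
      simpa only [cj_inv_cj] using cj_le_of_mem_of_le (inv_mem hg) h)⟩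

theorem sylow_mem_max {M : Subgroup G} {S : Sylow 2 G}
    (h : (S : Subgroup G) ∈ straddlingTwoSubgroups M) :
    (S : Subgroup G) ∈ maxStraddlingTwoSubgroups M := by
  refine ⟨h, fun U hU => ?_⟩
  obtain ⟨g, -, hg⟩ := (isSylowIn_top S).exists_cj_le hU.1 le_top
  obtain ⟨A, hA⟩ := exists_maxEA 2 U
  obtain ⟨B, hB⟩ := exists_maxEA 2 (S : Subgroup G)
  have hA' : MaxEA 2 (cj g U) (cj g A) := hA.map (MulAut.conj g).injective
  have h1 := hB.card_le (hA'.le.trans hg) hA'.ea
  rw [maxOrder_eq hA, maxOrder_eq hB, ← card_cj g A]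
  refine ⟨h1, fun e => ⟨?_, fun _ => ?_⟩⟩
  · rw [← card_cj g, cj_J]
    exact Subgroup.card_le_of_le
      (J_le_J_of_maxEA_le (hB.of_card_le (hA'.le.trans hg) hA'.ea e.ge) hA'.le hg)
  · rw [← card_cj g]
    exact Subgroup.card_le_of_le hg

theorem exists_mem_max {M : Subgroup G} (h : (straddlingTwoSubgroups M).Nonempty) :
    ∃ T, T ∈ maxStraddlingTwoSubgroups M := by
  obtain ⟨T, hT, hmax⟩ := Set.exists_max_image _ (fun T : Subgroup G =>
    toLex (maxElemAbelianOrder T, toLex (Nat.card (J T), Nat.card T))) (Set.toFinite _) h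
  refine ⟨T, hT, fun U hU => ?_⟩
  have := hmax U hU
  simp only [Prod.Lex.toLex_le_toLex] at this
  simp only [J] at this
  omega

theorem ZN.not_le_centralizer (z : ZN G) {S : Sylow 2 G} {T K : Subgroup G} (hK : PreJC T K)
    (hTS : T ≤ S) : ¬ K ≤ centralizer (omegaCenterOf (S : Subgroup G) : Set G) := fun h1 => by
  refine hK.idx3.not_isPGroup (S.isPGroup'.to_le ?_)
  rw [← hK.comm]
  exact (commutator_mono le_rfl ((J_le T).trans hTS)).trans
    (commutator_le_right_of_le_normalizer (h1.trans (z.zn S)))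

theorem ZN.normalizer_oc_le (z : ZN G) (S : Sylow 2 G) :
    normalizer (omegaCenterOf (S : Subgroup G) : Set G) ≤ normalizer ((S : Subgroup G) : Set G) := by
  have h1 : pCoreOf 2 (centralizer (omegaCenterOf (S : Subgroup G) : Set G)) = S :=
    le_antisymm (pCoreOf_le_sylowIn (isSylowIn_of_le S (le_centralizer_oc _)))
      (le_pCoreOf (le_centralizer_oc _) (z.zn S) S.isPGroup')
  have := (Trans.normalizer_le_normalizer_centralizer (omegaCenterOf (S : Subgroup G))).trans
    (normalizer_le_normalizer_pCoreOf (p := 2) _)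
  rwa [h1] at this

theorem mem_centralizer_singleton_of {K : Subgroup G} {z : G} (h : z ∈ centralizer (K : Set G)) :
    K ≤ centralizer {z} := fun k hk => mem_centralizer_singleton_iff.mpr (h k hk)

namespace Top

variable {T K L : Subgroup G}

theorem jc (t : Top T K L) : IsJComponent T K := t.pre.isJC t.lh.syl t.le

theorem pg (t : Top T K L) : IsPGroup 2 T := t.lh.syl.isPGroup

theorem cent_le (t : Top T K L) {z : G} (hz : z ∈ omegaCenterOf (J T)) (hz1 : z ≠ 1)
    (hK : z ∈ centralizer (K : Set G)) : centralizer {z} ≤ L :=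
  (centralizer_le_normalizer_zpowers z).trans (t.max _ (isTwoLocal_normalizer
      (PG.isPGroup_zpowers (k := 1) (by rw [pow_one, pow_two, oc_sq hz])) (mt zpowers_eq_bot.mp hz1))
    ((mem_centralizer_singleton_of hK).trans (centralizer_le_normalizer_zpowers z))
    ((mem_centralizer_singleton_of (oc_le_centralizer _ hz)).trans
      (centralizer_le_normalizer_zpowers z)))

theorem normalizer_le (t : Top T K L) : normalizer (L : Set G) ≤ L :=
  (normalizer_le_normalizer_pCoreOf L).trans (t.isMax.2 _ (isTwoLocal_normalizer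
    (isPGroup_pCoreOf L) (core_ne_bot_of_twoLocal t.loc)) (le_normalizer_pCoreOf L)).le

theorem mem_of_cj_le (t : Top T K L) {g : G} (hg : g ∈ normalizer (J T : Set G))
    (h : cj g K ≤ L) : g ∈ L := by
  refine inv_mem_iff.mp (t.normalizer_le (mem_normalizer_of_cj_le (t.max _ (twoLocal_cj t.loc _)
    (cj_le_iff_le_cj_inv.mp h) ?_)))
  rw [← cj_le_iff_le_cj_inv, cj_eq_of_mem_normalizer hg]
  exact (J_le T).trans t.lh.syl.le

theorem cj (t : Top T K L) {g : G} (hg : g ∈ normalizer (T : Set G)) :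
    Top T (cj g K) (cj g L) := by
  have e := cj_eq_of_mem_normalizer hg
  have eJ := cj_eq_of_mem_normalizer (normalizer_le_normalizer_J (p := 2) T hg)
  refine ⟨jc_pre (jc_cj_of_mem t.jc t.pg (normalizer_le_normalizer_J T hg)), twoLocal_cj t.loc g,
    ⟨e ▸ t.lh.syl.cj g, ?_⟩, cj_mono g t.le, fun L' h1 h2 h3 => ?_⟩
  · rw [← cj_pCoreOf, ← cj_centralizer]
    exact cj_mono g t.lh.cent
  · rw [← cj_inv_le_iff_le_cj]
    refine t.max _ (twoLocal_cj h1 _) (cj_le_iff_le_cj_inv.mp h2) (cj_le_iff_le_cj_inv.mp ?_)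
    rwa [eJ]

theorem normalizer_oc_le (z : ZN G) (t : Top T K L)
    (h : centralizer (omegaCenterOf (J T) : Set G) ≤ L) :
    normalizer (omegaCenterOf (J T) : Set G) ≤ normalizer (J T : Set G) := by
  set C := centralizer (omegaCenterOf (J T) : Set G) with hC
  have hTC : T ≤ normalizer (C : Set G) :=
    PG.le_normalizer_centralizer ((le_normalizer_J T).trans (normalizer_le_normalizer_oc _))
  have hL1 : C ⊔ T ≤ L := sup_le h t.lh.syl.le
  have h1 : pCoreOf 2 L ≤ pCoreOf 2 (C ⊔ T) :=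
    pCoreOf_le_of_le (t.lh.core_le.trans le_sup_right) hL1
  have h2 : LH T (C ⊔ T) :=
    ⟨t.lh.syl.mono le_sup_right hL1, (centralizer_le h1).trans (t.lh.cent.trans h1)⟩
  have h3 : C ≤ normalizer (J T : Set G) := by
    refine le_sup_left.trans ((h2.le_sup_normalizer z).trans (sup_le (sSup_le ?_) le_rfl))
    rintro K' ⟨hK', hle⟩
    exfalso
    obtain ⟨u, hu, hu1, hu0, -⟩ := jc_zero (hK'.isJC h2.syl hle) t.pg
    obtain ⟨k, hk, hkP, -⟩ := hK'.idx3.exists_odd
    have h4 : K' ≤ C := hK'.idx3.res ▸ resOf_le_of_le_sup t.pg hTC hle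
    exact hu1 (hK'.idx3.fpf_w hu hk hkP (h4 hk u hu0).symm)
  have hJC : J T ≤ C := le_centralizer_oc _
  have h4 : J (pCoreOf 2 C) = J T := J_eq_of_sylowIn t.lh.syl (isPGroup_pCoreOf C)
    ((pCoreOf_le C).trans h) (le_pCoreOf hJC h3 (t.pg.to_le (J_le T)))
  rw [← h4]
  nth_rewrite 1 [h4]
  exact ((Trans.normalizer_le_normalizer_centralizer _).trans (normalizer_le_normalizer_pCoreOf C)).trans
    (normalizer_le_normalizer_J _)

end Top

theorem four_of_two {T K K' : Subgroup G} (hT : IsPGroup 2 T) (hK : IsJComponent T K)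
    (hK' : IsJComponent T K') (hdis : ∀ x ∈ omegaCenterOf (J T), x ∈ centralizer (K : Set G) →
      x ∈ centralizer (K' : Set G) → x = 1) {z : G} (hz : z ∈ omegaCenterOf (J T)) (hz1 : z ≠ 1)
    (hzK : z ∈ centralizer (K : Set G)) : Nat.card (omegaCenterOf (J T)) = 4 := by
  obtain ⟨u, hu, hu1, hu0, -, -, hall⟩ := jc_zero hK hT
  obtain ⟨u', -, -, hu0', -, -, hall'⟩ := jc_zero hK' hT
  have h1 : ∀ x ∈ omegaCenterOf (J T), x ∈ centralizer (K : Set G) → x = 1 ∨ x = z := by
    intro x hx hxK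
    by_cases hx1 : x = 1
    · exact Or.inl hx1
    right
    have h2 := (hall' x hx).resolve_left fun h2 => hx1 (hdis x hx hxK h2)
    have h3 := (hall' z hz).resolve_left fun h3 => hz1 (hdis z hz hzK h3)
    have h4 := mul_mem h2 (inv_mem h3)
    rw [mul_inv_rev, mul_assoc, mul_inv_cancel_left] at h4
    exact mul_inv_eq_one.mp (hdis _ (mul_mem hx (inv_mem hz)) (mul_mem hxK (inv_mem hzK)) h4)
  obtain ⟨k, hk, hkP, -⟩ := (jc_pre hK).idx3.exists_odd
  have hzu : z ≠ u := by
    rintro rfl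
    exact hu1 ((jc_pre hK).idx3.fpf_w hu hk hkP (hzK k hk))
  have hc := ea_comm (ea_oc _) hz hu0
  rw [← card_four (oc_sq hz) (oc_sq hu0) hc hz1 hu1 hzu]
  congr 2
  refine le_antisymm (fun x hx => (mem_four (oc_sq hz) (oc_sq hu0) hc).mpr ?_) (four_le hz hu0)
  rcases hall x hx with h2 | h2
  · exact (h1 x hx h2).elim Or.inl fun h => Or.inr (Or.inl h)
  · rcases h1 _ (mul_mem hx hu0) h2 with h3 | h3
    · rw [eq_inv_of_mul_eq_one_left h3, inv_eq_of_sq (oc_sq hu0)]
      exact Or.inr (Or.inr (Or.inl rfl))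
    · rw [← h3, mul_assoc, oc_sq hu0, mul_one]
      exact Or.inr (Or.inr (Or.inr rfl))

theorem Top.three_cases (z : ZN G) (hO : pCore 2 G = ⊥) {S : Sylow 2 G} {T K L : Subgroup G}
    (t : Top T K L) (hTS : T ≤ S)
    (hx : T = S → normalizer (J T : Set G) ≤ L → T ∈ straddlingTwoSubgroups L) :
    (omegaCenterOf (S : Subgroup G) = omegaCenterOf (J T) ∧ Nat.card (omegaCenterOf (J T)) = 2) ∨
    (omegaCenterOf (S : Subgroup G) = omegaCenterOf (J T) ∧ Nat.card (omegaCenterOf (J T)) = 4 ∧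
      T = S) ∨
    (omegaCenterOf T = omegaCenterOf (J T) ∧ Nat.card (omegaCenterOf (J T)) = 4 ∧
      (L ⊓ centralizer (omegaCenterOf (J T) : Set G)).relIndex
        (normalizer (omegaCenterOf (J T) : Set G)) = 2) := by
  set Z := omegaCenterOf (S : Subgroup G) with hZ
  set Z0 := omegaCenterOf (J T) with hZ0
  have hZZ : Z ≤ Z0 := (t.lh.oc_le_oc' hTS).trans (oc_le_oc_J T)
  obtain ⟨z1, hz1Z, hz1K⟩ : ∃ z1 ∈ Z, z1 ∉ centralizer (K : Set G) :=
    SetLike.not_le_iff_exists.mp fun h => z.not_le_centralizer t.pre hTS (le_centralizer_iff.mp h)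
  have hz11 : z1 ≠ 1 := by
    rintro rfl
    exact hz1K (one_mem _)
  have hSL : (S : Subgroup G) ⊓ L = T := t.lh.syl.eq_inf S.isPGroup' hTS
  by_cases hZK : ∀ x ∈ Z0, x ∈ centralizer (K : Set G) → x = 1
  · obtain ⟨u, -, hu1, hu0, -, -, hall⟩ := jc_zero t.jc t.pg
    have h1 : ∀ x ∈ Z0, x = 1 ∨ x = u := fun x hx => (hall x hx).imp (hZK x hx) fun h => by
      rw [eq_inv_of_mul_eq_one_left (hZK _ (mul_mem hx hu0) h), inv_eq_of_sq (oc_sq hu0)]
    have h2 : Z0 = zpowers u := le_antisymm (fun x hx => (mem_zpowers_two (oc_sq hu0)).mpr (h1 x hx))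
      (zpowers_le.mpr hu0)
    refine Or.inl ⟨le_antisymm hZZ ?_, by rw [h2, card_zpowers_two (oc_sq hu0) hu1]⟩
    rw [h2, ← (h1 z1 (hZZ hz1Z)).resolve_left hz11]
    exact zpowers_le.mpr hz1Z
  right
  push Not at hZK
  obtain ⟨x, hx0, hxK, hx1⟩ := hZK
  have hCx : centralizer {x} ≤ L := t.cent_le hx0 hx1 hxK
  have hC0 : centralizer (Z0 : Set G) ≤ L := (centralizer_le (Set.singleton_subset_iff.mpr hx0)).trans hCx
  have hxz : x ≠ z1 := by
    rintro rfl
    exact hz1K hxK
  have hZle : Nat.card Z0 = 4 → ¬ Z0 ≤ Z → ∀ y ∈ Z, y = 1 ∨ y = z1 := by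
    intro h4 hn y hy
    by_contra hc
    push Not at hc
    exact hn ((four_eq_of_card (ea_oc _) h4 (hZZ hy) (hZZ hz1Z) hc.1 hz11 hc.2).ge.trans
      (four_le hy hz1Z))
  have hcent : Nat.card Z0 = 4 → ¬ Z0 ≤ Z → ∀ K', PreJC T K' → z1 ∉ centralizer (K' : Set G) := by
    intro h4 hn K' hK' h
    refine z.not_le_centralizer hK' hTS (le_centralizer_iff.mp fun y hy => ?_)
    rcases hZle h4 hn y hy with rfl | rfl
    · exact one_mem _
    · exact h
  by_cases hN : normalizer (Z0 : Set G) ≤ L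
  · have hNJ : normalizer (J T : Set G) ≤ L := (normalizer_le_normalizer_oc _).trans hN
    have hTS' : T = S := by
      refine hTS.lt_or_eq.resolve_left fun h => (lt_inf_normalizer S.isPGroup' h).not_ge ?_
      exact (inf_le_inf_left _ ((normalizer_le_normalizer_J T).trans hNJ)).trans hSL.le
    have hs : Setup S L T := ⟨z, hO, t.loc, hTS' ▸ hNJ, by
      have := hx hTS' hNJ
      rw [hTS'] at this ⊢
      exact sylow_mem_max this⟩
    obtain ⟨K', hK'⟩ := hs.exists_outside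
    have hdis : ∀ y ∈ Z0, y ∈ centralizer (K : Set G) → y ∈ centralizer (K' : Set G) → y = 1 :=
      fun y hy h1 h2 => by_contra fun h3 =>
        hK'.2.1 ((mem_centralizer_singleton_of h2).trans (t.cent_le hy h3 h1))
    have h4 := four_of_two t.pg t.jc hK'.1.1 hdis hx0 hx1 hxK
    refine Or.inl ⟨le_antisymm hZZ (by_contra fun hn => ?_), h4, hTS'⟩
    obtain ⟨s, hs, hsC⟩ : ∃ s ∈ T, s ∉ centralizer (Z0 : Set G) := by
      refine SetLike.not_le_iff_exists.mp fun h => hn fun y hy => mem_oc.mpr ⟨?_, ?_, oc_sq hy⟩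
      · exact hTS (J_le T (oc_le _ hy))
      · rw [← hTS']
        exact le_centralizer_iff.mp h hy
    have h5 := ((conj_four (ea_oc _) h4 (hZZ hz1Z) hx0 hz11 hx1 hxz.symm
      (((le_normalizer_J T).trans (normalizer_le_normalizer_oc _)) hs)
      (by rw [oc_le_centralizer _ hz1Z s (hTS hs), mul_inv_cancel_right])).resolve_left hsC).1
    obtain ⟨u', -, -, hu0', -, -, hall'⟩ := jc_zero hK'.1.1 t.pg
    obtain ⟨y, hy, hy1, hyK⟩ : ∃ y ∈ Z0, y ≠ 1 ∧ y ∈ centralizer (K' : Set G) := by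
      have h6 := (hall' x hx0).resolve_left fun h => hx1 (hdis x hx0 hxK h)
      have h7 := (hall' z1 (hZZ hz1Z)).resolve_left (hcent h4 hn K' (jc_pre hK'.1.1))
      refine ⟨x * z1⁻¹, mul_mem hx0 (inv_mem (hZZ hz1Z)), fun h => hxz (mul_inv_eq_one.mp h), ?_⟩
      have := mul_mem h6 (inv_mem h7)
      rwa [mul_inv_rev, mul_assoc, mul_inv_cancel_left] at this
    rcases (mem_iff_of_card (ea_oc _) h4 (hZZ hz1Z) hx0 hz11 hx1 hxz.symm).mp hy with
      h | h | h | h
    · exact hy1 h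
    · exact hcent h4 hn K' (jc_pre hK'.1.1) (h ▸ hyK)
    · exact hx1 (hdis x hx0 hxK (h ▸ hyK))
    · rw [h, ← h5] at hyK
      refine hK'.2.1 fun k hk => ?_
      have h6 : s⁻¹ * k * s ∈ L := hCx (mem_centralizer_singleton_iff.mpr (by
        calc s⁻¹ * k * s * x = s⁻¹ * (k * (s * x * s⁻¹)) * s := by group
          _ = _ := by rw [hyK k hk]; group))
      have h7 := t.lh.syl.le hs
      exact (mul_mem_cancel_left (inv_mem h7)).mp ((mul_mem_cancel_right h7).mp h6)
  · obtain ⟨g, hg, hgL⟩ := SetLike.not_le_iff_exists.mp hN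
    have hgJ := t.normalizer_oc_le z hC0 hg
    have h4 := four_of_two t.pg t.jc (jc_cj_of_mem t.jc t.pg hgJ) (fun y hy h1 h2 => by_contra
      fun h3 => hgL (t.mem_of_cj_le hgJ
        ((mem_centralizer_singleton_of h2).trans (t.cent_le hy h3 h1)))) hx0 hx1 hxK
    by_cases hn : Z0 ≤ Z
    · refine Or.inl ⟨le_antisymm hZZ hn, h4, ?_⟩
      rw [← hSL, inf_eq_left]
      exact ((le_centralizer_oc _).trans (centralizer_le hn)).trans hC0
    right
    have hNC : ∀ y : G, y * x * y⁻¹ ≠ z1 := by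
      intro y hy
      have h1 : Trans.cj y⁻¹ (S : Subgroup G) ≤ L := fun s hs => hCx
        (mem_centralizer_singleton_iff.mpr (by
          have := oc_le_centralizer _ hz1Z _ (mem_cj_inv.mp hs)
          rw [← hy] at this
          calc s * x = y⁻¹ * (y * s * y⁻¹ * (y * x * y⁻¹)) * y := by group
            _ = _ := by rw [this]; group))
      obtain ⟨l, hl, hl'⟩ := t.lh.syl.exists_cj_le (isPGroup_cj S.isPGroup' y⁻¹) h1
      rw [cj_cj] at hl'
      have h2 := mem_normalizer_conj (normalizer_le_normalizer_oc _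
        (mem_normalizer_of_cj_le (hl'.trans hTS))) hz1Z
      have h3 : l * y⁻¹ * z1 * (l * y⁻¹)⁻¹ = l * x * l⁻¹ := by rw [← hy]; group
      rw [h3] at h2
      refine hcent h4 hn _ (t.lh.preJC_cj z t.pre t.le hl) ?_
      rw [← (hZle h4 hn _ h2).resolve_left fun h => hx1 (by simpa using h), ← cj_centralizer]
      exact conj_mem_cj.mpr hxK
    have hmem := fun y => mem_iff_of_card (x := y) (ea_oc _) h4 (hZZ hz1Z) hx0 hz11 hx1 hxz.symm
    have hgx : g * x * g⁻¹ = z1 * x := by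
      rcases (hmem _).mp (mem_normalizer_conj hg hx0) with h | h | h | h
      · exact absurd (by simpa using h) hx1
      · exact absurd h (hNC g)
      · exact absurd (hCx (mem_centralizer_singleton_iff.mpr (mul_inv_eq_iff_eq_mul.mp h))) hgL
      · exact h
    have hfix : ∀ n ∈ normalizer (Z0 : Set G), n * z1 * n⁻¹ = z1 := by
      intro n hn'
      rcases (hmem _).mp (mem_normalizer_conj hn' (hZZ hz1Z)) with h | h | h | h
      · exact absurd (by simpa using h) hz11
      · exact h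
      · exact absurd (by rw [← h]; group) (hNC n⁻¹)
      · rw [← hgx] at h
        refine absurd ?_ (hNC (n⁻¹ * g))
        calc n⁻¹ * g * x * (n⁻¹ * g)⁻¹ = n⁻¹ * (g * x * g⁻¹) * n := by group
          _ = z1 := by rw [← h]; group
    have hcases : ∀ n ∈ normalizer (Z0 : Set G), n ∈ centralizer (Z0 : Set G) ∨
        g⁻¹ * n ∈ centralizer (Z0 : Set G) := by
      intro n hn'
      refine (conj_four (ea_oc _) h4 (hZZ hz1Z) hx0 hz11 hx1 hxz.symm hn' (hfix n hn')).imp id
        fun h => ?_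
      have h1 := mul_mem (inv_mem hg) hn'
      refine (conj_four (ea_oc _) h4 (hZZ hz1Z) hx0 hz11 hx1 hxz.symm h1
        (hfix _ h1)).resolve_right fun h2 => hz11 ?_
      have h3 : g⁻¹ * n * x * (g⁻¹ * n)⁻¹ = x := by
        calc g⁻¹ * n * x * (g⁻¹ * n)⁻¹ = g⁻¹ * (n * x * n⁻¹) * g := by group
          _ = x := by rw [h.1, ← hgx]; group
      have h5 := h2.1
      rwa [h3, right_eq_mul] at h5
    refine ⟨le_antisymm (oc_le_oc_J T) fun y hy => mem_oc.mpr ⟨J_le T (oc_le _ hy), ?_, oc_sq hy⟩,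
      h4, ?_⟩
    · refine le_centralizer_iff.mp (fun s hs => ?_ : T ≤ centralizer (Z0 : Set G)) hy
      refine (hcases s (((le_normalizer_J T).trans (normalizer_le_normalizer_oc _)) hs)).resolve_right
        fun h => hgL ?_
      exact inv_mem_iff.mp ((mul_mem_cancel_right (t.lh.syl.le hs)).mp (hC0 h))
    · rw [inf_eq_right.mpr hC0]
      exact relIndex_eq_two_iff_exists_notMem_and'.mpr ⟨g⁻¹, inv_mem hg,
        fun h => hgL (inv_mem_iff.mp (hC0 h)), fun n hn' => (hcases n hn').symm⟩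

end Cfsg.Lib.Local.JC
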