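import Cfsg.Agent.Solv.PGroupNormal
import Cfsg.Agent.FT.Norm

/-! Sims' method: a subgroup `P` and an element `g` with `P ∩ P^g` of prime index. -/

set_option autoImplicit false
set_option linter.unusedSectionVars false

namespace Cfsg.Lib.Local.Sims

open Subgroup Pointwise Cfsg.Lib.Solv Cfsg.Lib.FT
open scoped commutatorElement

variable {G : Type*} [Group G] {P : Subgroup G} {g : G} {p t : ℕ}

/-- conjugation by `g ^ m` on the right -/
def sh (g : G) (m : ℤ) (z : G) : G := (g ^ m)⁻¹ * z * g ^ m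

theorem sh_sh (m n : ℤ) (z : G) : sh g m (sh g n z) = sh g (n + m) z := by
  simp only [sh, zpow_add]; group

theorem sh_zero (z : G) : sh g 0 z = z := by simp [sh]

theorem sh_mul (m : ℤ) (y z : G) : sh g m (y * z) = sh g m y * sh g m z := by
  simp only [sh]; group

theorem sh_comm (m : ℤ) (y z : G) : sh g m ⁅y, z⁆ = ⁅sh g m y, sh g m z⁆ := by
  simp only [sh, commutatorElement_def]; group

theorem sh_eq_one {m : ℤ} {z : G} : sh g m z = 1 ↔ z = 1 := by
  simp only [sh]
  rw [mul_assoc, inv_mul_eq_one, eq_comm, mul_eq_right]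

/-- the conjugates of `P` -/
def Pk (P : Subgroup G) (g : G) (k : ℤ) : Subgroup G := (g ^ k)⁻¹ •ᶜ P

theorem mem_Pk {k : ℤ} {z : G} : z ∈ Pk P g k ↔ sh g (-k) z ∈ P := by
  rw [Pk, mem_conj_smul]; simp [sh]

theorem Pk_zero : Pk P g 0 = P := by ext z; rw [mem_Pk, neg_zero, sh_zero]

theorem sh_mem_Pk {k m : ℤ} {z : G} : sh g m z ∈ Pk P g (k + m) ↔ z ∈ Pk P g k := by
  rw [mem_Pk, mem_Pk, sh_sh, show m + -(k + m) = -k by ring]

/-- intersections of consecutive conjugates -/
def I (P : Subgroup G) (g : G) (a b : ℤ) : Subgroup G := ⨅ k ∈ Set.Icc a b, Pk P g k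

theorem mem_I {a b : ℤ} {z : G} : z ∈ I P g a b ↔ ∀ k, a ≤ k → k ≤ b → z ∈ Pk P g k := by
  simp [I, mem_iInf]

theorem I_self (a : ℤ) : I P g a a = Pk P g a := by
  ext z; rw [mem_I]
  exact ⟨fun h => h a le_rfl le_rfl, fun h k h1 h2 => le_antisymm h1 h2 ▸ h⟩

theorem I_anti {a b c d : ℤ} (h1 : c ≤ a) (h2 : b ≤ d) : I P g c d ≤ I P g a b := fun _ hz =>
  mem_I.2 fun k k1 k2 => mem_I.1 hz k (h1.trans k1) (k2.trans h2)

theorem I_le_Pk {a b k : ℤ} (h1 : a ≤ k) (h2 : k ≤ b) : I P g a b ≤ Pk P g k := fun _ hz =>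
  mem_I.1 hz k h1 h2

theorem mem_I_left {a b : ℤ} {z : G} (h : z ∈ I P g a b) (h' : z ∈ Pk P g (a - 1)) :
    z ∈ I P g (a - 1) b := mem_I.2 fun k k1 k2 => by
  rcases k1.eq_or_lt with rfl | h3
  · exact h'
  · exact mem_I.1 h k (by omega) k2

theorem mem_I_right {a b : ℤ} {z : G} (h : z ∈ I P g a b) (h' : z ∈ Pk P g (b + 1)) :
    z ∈ I P g a (b + 1) := mem_I.2 fun k k1 k2 => by
  rcases k2.eq_or_lt with rfl | h3
  · exact h'
  · exact mem_I.1 h k k1 (by omega)

theorem mem_I_both {a b : ℤ} {z : G} (hab : a ≤ b + 1) (h : z ∈ I P g (a - 1) b)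
    (h' : z ∈ I P g a (b + 1)) : z ∈ I P g (a - 1) (b + 1) :=
  mem_I_left h' (mem_I.1 h _ le_rfl (by omega))

theorem sh_mem_I {a b m : ℤ} {z : G} : sh g m z ∈ I P g (a + m) (b + m) ↔ z ∈ I P g a b := by
  rw [mem_I, mem_I]
  constructor
  · intro h k k1 k2
    exact sh_mem_Pk.1 (h (k + m) (by omega) (by omega))
  · intro h k k1 k2
    have := sh_mem_Pk (m := m).2 (h (k - m) (by omega) (by omega))
    rwa [sub_add_cancel] at this

theorem I_shift (a b m : ℤ) : I P g (a + m) (b + m) = (g ^ m)⁻¹ •ᶜ I P g a b := by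
  ext z
  rw [mem_conj_smul, ← sh_mem_I (a := a) (m := m)]
  simp [sh, mul_assoc]

theorem card_I_shift (a b m : ℤ) :
    Nat.card (I P g (a + m) (b + m)) = Nat.card (I P g a b) := by
  rw [I_shift, card_conj_smul]

theorem card_I_eq {a b c d : ℤ} (h : b - a = d - c) :
    Nat.card (I P g a b) = Nat.card (I P g c d) := by
  rw [← card_I_shift c d (a - c), show c + (a - c) = a by ring, show d + (a - c) = b by omega]

/-- The hypothesis of Sims' method. -/
structure Hyp (p : ℕ) (P : Subgroup G) (g : G) : Prop where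
  prime : p.Prime
  norm : Pk P g 1 ≤ 𝐍 (I P g 0 1)
  idx : (I P g 0 1).relIndex (Pk P g 1) = p
  core : ∀ Q : Subgroup G, Q ≤ P → P ≤ 𝐍 Q → g ∈ 𝐍 Q → Q = ⊥

namespace Hyp

variable (h : Hyp p P g)
include h

theorem norm_left {a b : ℤ} (hab : a ≤ b) : I P g a b ≤ 𝐍 (I P g (a - 1) b) := by
  have h1 : I P g a a ≤ 𝐍 (I P g (a - 1) a) := by
    have := conj_smul_mono (g ^ (a - 1))⁻¹ h.norm
    rwa [← I_self, ← normJ, ← I_shift, ← I_shift, zero_add, add_sub_cancel] at this
  rw [normsP] at h1 ⊢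
  intro y hy z hz
  have h2 := I_anti (show a - 1 ≤ a by omega) le_rfl hz
  refine mem_I_left (mul_mem (mul_mem hy h2) (inv_mem hy)) ?_
  exact I_le_Pk le_rfl (by omega) (h1 y (I_anti le_rfl hab hy) z (I_anti le_rfl hab hz))

theorem relIndex_left {a b : ℤ} (hab : a ≤ b) :
    (I P g (a - 1) b).relIndex (I P g a b) ∣ p := by
  have h1 : (I P g (a - 1) a).relIndex (I P g a a) = p := by
    have := relIndex_conj_smul (g ^ (a - 1))⁻¹ (I P g 0 1) (Pk P g 1)
    rwa [h.idx, ← I_self, ← I_shift, ← I_shift, zero_add, add_sub_cancel] at this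
  have h2 : I P g (a - 1) b = I P g (a - 1) a ⊓ I P g a b := by
    refine le_antisymm (le_inf (I_anti le_rfl hab) (I_anti (by omega) le_rfl)) fun z hz => ?_
    exact mem_I_left hz.2 (I_le_Pk le_rfl (by omega) hz.1)
  have h3 := normal_subgroupOf (h.norm_left (le_refl a))
  rw [h2, inf_relIndex_right, ← h1,
    ← relIndex_subgroupOf (K := I P g a b) (I_anti le_rfl hab)]
  exact relIndex_dvd_index_of_normal _ _

theorem card_left [Finite G] {a b : ℤ} (hab : a ≤ b) :
    Nat.card (I P g a b) = Nat.card (I P g (a - 1) b) ∨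
      Nat.card (I P g a b) = p * Nat.card (I P g (a - 1) b) := by
  have h1 := card_mul_relIndex_of_le (I_anti (P := P) (g := g) (show a - 1 ≤ a by omega) (le_refl b))
  rcases (Nat.dvd_prime h.prime).1 (h.relIndex_left hab) with h2 | h2
  · left; rw [← h1, h2, mul_one]
  · right; rw [← h1, h2, mul_comm]

end Hyp

/-- The chain of intersections has length `t`. -/
structure Len (p : ℕ) (P : Subgroup G) (g : G) (t : ℕ) : Prop where
  prime : p.Prime
  step : ∀ a b : ℤ, a ≤ b → b < a + t → Nat.card (I P g a b) = p * Nat.card (I P g (a - 1) b)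
  pos : 1 ≤ t

namespace Len

variable [Finite G] (h : Len p P g t)
include h

theorem step' {a b : ℤ} (h1 : a ≤ b) (h2 : b < a + t) :
    Nat.card (I P g a b) = p * Nat.card (I P g a (b + 1)) := by
  rw [h.step a b h1 h2, card_I_eq (c := a) (d := b + 1) (by ring)]

theorem le_of_left {a b : ℤ} (h1 : a ≤ b) (h2 : b < a + t) {C : Subgroup G}
    (hC : I P g (a - 1) b ≤ C) {w : G} (hw : w ∈ I P g a b) (hw' : w ∉ Pk P g (a - 1))
    (hwC : w ∈ C) : I P g a b ≤ C := by
  rcases PG.eq_or_eq_of_card_eq_prime_mul h.prime (h.step a b h1 h2) (L := C ⊓ I P g a b)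
    (le_inf hC (I_anti (by omega) le_rfl)) inf_le_right with e | e
  · exact absurd (I_le_Pk le_rfl (by omega) (e.le ⟨hwC, hw⟩)) hw'
  · exact e ▸ inf_le_left

theorem le_of_right {a b : ℤ} (h1 : a ≤ b) (h2 : b < a + t) {C : Subgroup G}
    (hC : I P g a (b + 1) ≤ C) {w : G} (hw : w ∈ I P g a b) (hw' : w ∉ Pk P g (b + 1))
    (hwC : w ∈ C) : I P g a b ≤ C := by
  rcases PG.eq_or_eq_of_card_eq_prime_mul h.prime (h.step' h1 h2) (L := C ⊓ I P g a b)
    (le_inf hC (I_anti le_rfl (by omega))) inf_le_right with e | e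
  · exact absurd (I_le_Pk (by omega) le_rfl (e.le ⟨hwC, hw⟩)) hw'
  · exact e ▸ inf_le_left

theorem exists_not_left {a b : ℤ} (h1 : a ≤ b) (h2 : b < a + t) :
    ∃ w ∈ I P g a b, w ∉ Pk P g (a - 1) := by
  by_contra hc
  push Not at hc
  have h3 := card_le_of_le (fun w hw => mem_I_left hw (hc w hw) : I P g a b ≤ I P g (a - 1) b)
  rw [h.step a b h1 h2] at h3
  have h4 : 0 < Nat.card (I P g (a - 1) b) := Nat.card_pos
  have := h.prime.two_le
  nlinarith

theorem le_of_forall {C : Subgroup G} {a b : ℤ} (h1 : a ≤ b) (h2 : b < a + t)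
    (hC : ∀ k, b - t + 1 ≤ k → k ≤ a → I P g k (k + t - 1) ≤ C) : I P g a b ≤ C := by
  obtain ⟨d, hd⟩ : ∃ d : ℕ, b + d + 1 = a + t := ⟨(a + t - b - 1).toNat, by omega⟩
  induction d generalizing a b with
  | zero =>
    have := hC a (by omega) le_rfl
    rwa [show a + t - 1 = b by omega] at this
  | succ d ih =>
    obtain ⟨w, hw, hw'⟩ := h.exists_not_left (a := a) (b := b + 1) (by omega) (by omega)
    refine h.le_of_left h1 h2 (ih (by omega) (by omega) (fun k k1 k2 => hC k k1 (by omega))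
      (by omega)) (I_anti le_rfl (by omega) hw) hw' ?_
    exact ih (a := a) (b := b + 1) (by omega) (by omega) (fun k k1 k2 => hC k (by omega) k2)
      (by omega) hw

end Len

/-- The full description: generators `x k` of the smallest nontrivial intersections. -/
structure Frame (p : ℕ) (P : Subgroup G) (g : G) (t : ℕ) (x : ℤ → G) : Prop
    extends Len p P g t where
  bot : I P g 0 t = ⊥
  mem : ∀ k, x k ∈ I P g k (k + t - 1)
  ne : ∀ k, x k ≠ 1
  shift : ∀ k m, sh g m (x k) = x (k + m)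

theorem Hyp.exists_frame [Finite G] (h : Hyp p P g) : ∃ t x, Frame p P g t x := by
  classical
  have hp := h.prime.two_le
  have hex : ∃ j : ℕ, Nat.card (I P g 0 j) = Nat.card (I P g (0 - 1) j) := by
    by_contra hc
    push Not at hc
    have h1 : ∀ j : ℕ, Nat.card (I P g 0 j) + j ≤ Nat.card (I P g 0 0) := by
      intro j
      induction j with
      | zero => simp
      | succ j ih =>
        have h2 := (h.card_left (a := 0) (b := j) (by omega)).resolve_left (hc j)
        rw [card_I_eq (a := 0 - 1) (c := 0) (d := (j + 1 : ℕ)) (by push_cast; ring)] at h2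
        have h4 : 0 < Nat.card (I P g 0 (j + 1 : ℕ)) := Nat.card_pos
        nlinarith
    have := h1 (Nat.card (I P g 0 0) + 1)
    omega
  let t := Nat.find hex
  have hL : Len p P g t := by
    refine ⟨h.prime, fun a b h1 h2 => (h.card_left h1).resolve_left fun e => ?_, ?_⟩
    · refine Nat.find_min hex (m := (b - a).toNat) (by omega) ?_
      rw [card_I_eq (c := a) (d := b) (by omega), e]
      exact card_I_eq (by omega)
    · rw [Nat.one_le_iff_ne_zero]
      intro e
      have h1 : Nat.card (I P g 0 t) = Nat.card (I P g (0 - 1) t) := Nat.find_spec hex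
      have h2 := card_mul_relIndex_of_le (I_le_Pk (P := P) (g := g) (a := 0) (b := 1) (k := 1)
        (by omega) le_rfl)
      rw [h.idx, ← I_self, card_I_eq (a := 1) (c := 0) (d := t) (by omega), h1,
        card_I_eq (a := 0) (c := 0 - 1) (d := t) (by omega)] at h2
      have h4 : 0 < Nat.card (I P g (0 - 1) t) := Nat.card_pos
      nlinarith
  have h1 : ∀ a : ℤ, I P g (a - 1) (a + t) = I P g a (a + t) := fun a =>
    eq_of_le_of_card_le (I_anti (by omega) le_rfl) (by
      rw [card_I_eq (c := 0) (d := t) (by omega), Nat.find_spec hex]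
      exact (card_I_eq (by omega)).le)
  have h2 : ∀ a : ℤ, I P g (a - 1) (a - 1 + t) = I P g a (a + t) := fun a => by
    rw [← h1 a]
    refine (eq_of_le_of_card_le (I_anti le_rfl (by omega)) ?_).symm
    rw [h1 a]; exact (card_I_eq (by omega)).le
  have h3 : ∀ a : ℤ, I P g a (a + t) = I P g 0 (0 + t) := fun a => by
    induction a with
    | zero => rfl
    | succ a ih => rw [← h2, add_sub_cancel_right, ih]
    | pred a ih => rw [h2, ih]
  have hb : I P g 0 t = ⊥ := by
    have hpos := hL.pos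
    refine h.core _ ((I_le_Pk le_rfl (by omega)).trans Pk_zero.le) ?_ ?_
    · refine ((Pk_zero (g := g)).symm.trans (I_self 0).symm).le.trans ?_
      refine hL.le_of_forall le_rfl (by omega) fun k _ _ => ?_
      have := h.norm_left (a := k) (b := k + t - 1) (by omega)
      rwa [show k + t - 1 = k - 1 + t by ring, h3, zero_add, ← show k + t - 1 = k - 1 + t by ring]
        at this
    · have := I_shift (P := P) (g := g) 0 t (-1)
      rw [zero_add, add_comm, h3, zero_add] at this
      rw [normP]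
      simpa using this.symm
  obtain ⟨w, hw, hw'⟩ := hL.exists_not_left (a := 0) (b := t - 1) (by have := hL.pos; omega)
    (by omega)
  refine ⟨t, fun k => sh g k w, hL, hb, fun k => ?_, fun k e => hw' ?_, fun k m => sh_sh _ _ _⟩
  · have := (sh_mem_I (m := k)).2 hw
    rwa [zero_add, show (t : ℤ) - 1 + k = k + t - 1 by ring] at this
  · rw [sh_eq_one.1 e]; exact one_mem _

namespace Frame

variable [Finite G] {x : ℤ → G} (h : Frame p P g t x)
include h

theorem eq_bot {a b : ℤ} (hab : a + t ≤ b) : I P g a b = ⊥ := by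
  have h1 := I_shift (P := P) (g := g) 0 t a
  rw [h.bot, conjs1g, zero_add] at h1
  exact le_bot_iff.1 ((I_anti le_rfl (by omega)).trans h1.le)

theorem card_I {a b : ℤ} {j : ℕ} (hab : a ≤ b) (hj : b + j = a + t) :
    Nat.card (I P g a b) = p ^ j := by
  induction j generalizing b with
  | zero => rw [h.eq_bot (by omega), card_bot, pow_zero]
  | succ j ih => rw [h.step' hab (by omega), ih (by omega) (by omega), pow_succ']

theorem card_Pk (a : ℤ) : Nat.card (Pk P g a) = p ^ t := by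
  rw [← I_self, h.card_I le_rfl rfl]

theorem card_P : Nat.card P = p ^ t := by rw [← h.card_Pk 0, Pk_zero]

theorem mem_I_of {a b k : ℤ} (h1 : k ≤ a) (h2 : b < k + t) : x k ∈ I P g a b :=
  I_anti h1 (by omega) (h.mem k)

theorem mem_Pk_of {a k : ℤ} (h1 : k ≤ a) (h2 : a < k + t) : x k ∈ Pk P g a :=
  (I_self a).le (h.mem_I_of h1 h2)

theorem not_mem_left (k : ℤ) : x k ∉ Pk P g (k - 1) := fun e =>
  h.ne k (mem_bot.1 ((h.eq_bot (by omega)).le (mem_I_left (h.mem k) e)))

theorem not_mem_right (k : ℤ) : x k ∉ Pk P g (k + t) := fun e =>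
  h.ne k (mem_bot.1 ((h.eq_bot (a := k) (b := k + t - 1 + 1) (by omega)).le
    (mem_I_right (h.mem k) (by rwa [sub_add_cancel]))))

theorem pow_eq_one (k : ℤ) : x k ^ p = 1 := by
  have h1 := h.card_I (a := k) (b := k + t - 1) (j := 1) (by have := h.pos; omega) (by omega)
  rw [← orderOf_dvd_iff_pow_eq_one, ← pow_one p, ← h1]
  exact order_dvdG (h.mem k)

theorem I_le {C : Subgroup G} {a b : ℤ} (h1 : a ≤ b)
    (hC : ∀ k, b < k + t → k ≤ a → x k ∈ C) : I P g a b ≤ C := by
  by_cases h2 : b < a + t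
  · refine h.le_of_forall h1 h2 fun k k1 k2 => ?_
    refine h.le_of_left (by have := h.pos; omega) (by omega) ?_ (h.mem k) (h.not_mem_left k)
      (hC k (by omega) k2)
    rw [h.eq_bot (by omega)]; exact bot_le
  · rw [h.eq_bot (by omega)]; exact bot_le

theorem comm_of_step {A B : Subgroup G} (a : ℤ) (hB : B = I P g a a) (hA : A ≤ B)
    (hc : Nat.card B = p * Nat.card A) : ⁅B, B⁆ ≤ A := by
  have := Fact.mk h.prime
  have hB' : IsPGroup p B := IsPGroup.of_card (hB ▸ h.card_I le_rfl rfl)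
  have hlt : A < B := lt_of_le_of_ne hA fun e => by
    rw [e] at hc
    have h4 : 0 < Nat.card B := Nat.card_pos
    have := h.prime.two_le
    nlinarith
  obtain ⟨M, m1, m2, m3, m4⟩ := PG.exists_le_card_eq_prime_mul hB' hlt
  obtain rfl : A = M := eq_of_le_of_card_le m1
    (Nat.eq_of_mul_eq_mul_left h.prime.pos (m4.symm.trans hc)).le
  exact (PG.commutator_le_of_card_eq_prime_mul hB' hB' m3 (normG B) hA hc).1

theorem comm_mem {a b : ℤ} (hab : a ≤ b) {y z : G} (hy : y ∈ I P g a b) (hz : z ∈ I P g a b) :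
    ⁅y, z⁆ ∈ I P g (a - 1) (b + 1) := by
  have hp := h.pos
  have h0 : ⁅y, z⁆ ∈ I P g a b := der_sub _ (commutator_mem_commutator hy hz)
  refine mem_I_both (by omega) (mem_I_left h0 ?_) (mem_I_right h0 ?_)
  · exact I_le_Pk le_rfl (by omega) (h.comm_of_step a rfl (I_anti (by omega) le_rfl)
      (h.step a a le_rfl (by omega))
      (commutator_mem_commutator (I_anti le_rfl hab hy) (I_anti le_rfl hab hz)))
  · exact I_le_Pk (by omega) le_rfl (h.comm_of_step b rfl (I_anti le_rfl (by omega))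
      (h.step' le_rfl (by omega))
      (commutator_mem_commutator (I_anti hab le_rfl hy) (I_anti hab le_rfl hz)))

theorem comm_x {i j : ℤ} (h1 : i ≤ j) (h2 : j < i + t) :
    ⁅x i, x j⁆ ∈ I P g (j - 1) (i + t) ∧ ⁅x j, x i⁆ ∈ I P g (j - 1) (i + t) := by
  have := h.comm_mem (a := j) (b := i + t - 1) (by omega) (h.mem_I_of h1 (by omega))
    (h.mem_I_of le_rfl (by omega))
  rw [sub_add_cancel] at this
  exact ⟨this, commutatorElement_inv (x i) (x j) ▸ inv_mem this⟩

theorem commute_shift {i j : ℤ} (m : ℤ) (hc : Commute (x i) (x j)) :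
    Commute (x (i + m)) (x (j + m)) := by
  rw [← commutatorElement_eq_one_iff_commute] at hc ⊢
  rw [← h.shift, ← h.shift, ← sh_comm, hc, sh_eq_one]

/-- `x i` and `x j` commute if `|i - j| < u`. -/
def Near (x : ℤ → G) (u : ℕ) : Prop := ∀ i j : ℤ, i < j + u → j < i + u → Commute (x i) (x j)

theorem exists_near : ∃ u : ℕ, 1 ≤ u ∧ u ≤ t ∧ Near x u ∧ (u = t ∨ ¬ Commute (x 0) (x u)) := by
  classical
  have hex : ∃ u : ℕ, u = t ∨ ¬ Commute (x 0) (x u) := ⟨t, Or.inl rfl⟩
  have h1 : ∀ i j : ℤ, i ≤ j → j < i + Nat.find hex → Commute (x i) (x j) := by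
    intro i j h1 h2
    have := h.commute_shift i (not_not.1
      (not_or.1 (Nat.find_min hex (m := (j - i).toNat) (by omega))).2)
    rwa [zero_add, show ((j - i).toNat : ℤ) + i = j by omega] at this
  refine ⟨Nat.find hex, ?_, Nat.find_min' hex (Or.inl rfl), fun i j h2 h3 => ?_,
    Nat.find_spec hex⟩
  · rw [Nat.one_le_iff_ne_zero]
    intro e
    rcases e ▸ Nat.find_spec hex with h2 | h2
    · have := h.pos; omega
    · exact h2 (Commute.refl _)
  · rcases le_total i j with h4 | h4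
    · exact h1 i j h4 h3
    · exact (h1 j i h4 h2).symm

variable {u : ℕ} (hu : Near x u)
include hu

theorem I_le_cent1 {a b k : ℤ} (hab : a ≤ b) (h1 : a < k + u) (h2 : k + t ≤ b + u) :
    I P g a b ≤ 𝐂₁ (x k) :=
  h.I_le hab fun j j1 j2 => mem_cent1_iff_commute.2 (hu j k (by omega) (by omega))

theorem I_le_cent {a b c d : ℤ} (hab : a ≤ b) (hcd : c ≤ d) (h1 : a + t ≤ d + u)
    (h2 : c + t ≤ b + u) : I P g a b ≤ 𝐂 (I P g c d) :=
  h.I_le hab fun j j1 j2 => le_cent1_iff.1 (h.I_le_cent1 hu hcd (by omega) (by omega))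

theorem not_commute (hn : ¬ Commute (x 0) (x u)) (k : ℤ) : ¬ Commute (x k) (x (k + u)) := by
  intro e
  have := h.commute_shift (-k) e
  rw [add_neg_cancel, add_neg_cancel_comm] at this
  exact hn this

/-- An element of `I a b` commuting with `x (b - t + 1 + u)` lies in the next conjugate. -/
theorem mem_right (hn : ¬ Commute (x 0) (x u)) {a b k : ℤ} (hab : a ≤ b) (hk : k + t = b + 1 + u)
    (ha : a < k + u) {w : G} (hw : w ∈ I P g a b) (hc : w ∈ 𝐂₁ (x k)) : w ∈ I P g a (b + 1) := by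
  by_cases h2 : b < a + t
  · refine mem_I_right hw (by_contra fun e => h.not_commute hu hn (k - u) ?_)
    rw [sub_add_cancel]
    exact mem_cent1_iff_commute.1 (h.le_of_right hab h2
      (h.I_le_cent1 hu (by omega) ha (by omega)) hw e hc (h.mem_I_of (by omega) (by omega)))
  · rw [h.eq_bot (by omega), mem_bot] at hw
    exact hw ▸ one_mem _

theorem mem_left (hn : ¬ Commute (x 0) (x u)) {a b k : ℤ} (hab : a ≤ b) (hk : k + u = a)
    (hb : k + t ≤ b + u) {w : G} (hw : w ∈ I P g a b) (hc : w ∈ 𝐂₁ (x k)) :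
    w ∈ I P g (a - 1) b := by
  by_cases h2 : b < a + t
  · refine mem_I_left hw (by_contra fun e => h.not_commute hu hn k ?_)
    rw [hk]
    exact (mem_cent1_iff_commute.1 (h.le_of_left hab h2
      (h.I_le_cent1 hu (by omega) (by omega) hb) hw e hc (h.mem_I_of le_rfl h2))).symm
  · rw [h.eq_bot (by omega), mem_bot] at hw
    exact hw ▸ one_mem _

theorem comm_mem_right (hn : ¬ Commute (x 0) (x u)) (hut : u < t) (m : ℕ) (hm : m + 1 + u ≤ t) :
    ⁅x 0, x u⁆ ∈ I P g (u - 1) (t + m) := by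
  induction m with
  | zero => simpa using (h.comm_x (i := 0) (j := u) (by omega) (by omega)).1
  | succ m ih =>
    have hw := ih (by omega)
    by_cases hmu : m + 1 < u
    swap
    · rw [h.eq_bot (by omega), mem_bot] at hw
      exact hw ▸ one_mem _
    rw [Nat.cast_succ, ← add_assoc]
    refine h.mem_right hu hn (k := m + 1 + u) (by omega) (by omega) (by omega) hw ?_
    have hc := (h.comm_x (i := 0) (j := m + 1 + u) (by omega) (by omega)).2
    have h1 := mem_cent1.1 (h.I_le_cent1 hu (k := u) (by omega) (by omega) (by omega) hc)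
    have h2 := mem_cent.1 (h.I_le_cent hu (by omega) (by omega) (by omega) (by omega) hc) _ hw
    have h3 := (hu (m + 1 + u) u (by omega) (by omega)).eq
    rw [mem_cent1]
    generalize x (m + 1 + u) = y at *
    generalize x 0 = a at *
    generalize x u = b at *
    have e1 : y * ⁅a, b⁆ * y⁻¹ = ⁅y, a⁆ * ⁅a, b⁆ * (b * ⁅y, a⁆⁻¹ * b⁻¹) := by
      calc y * ⁅a, b⁆ * y⁻¹ = y * a * y⁻¹ * (y * b) * (a⁻¹ * y⁻¹) * (y * b⁻¹ * y⁻¹) := by
            simp only [commutatorElement_def]; group
        _ = y * a * y⁻¹ * (b * y) * (a⁻¹ * y⁻¹) * b⁻¹ := by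
            rw [h3, (Commute.inv_right (show Commute y b from h3)).eq, mul_inv_cancel_right]
        _ = _ := by simp only [commutatorElement_def]; group
    rw [← (Commute.inv_left (show Commute _ b from h1)).eq, mul_inv_cancel_right, ← h2,
      mul_inv_cancel_right, mul_inv_eq_iff_eq_mul] at e1
    exact e1.symm

theorem comm_mem_left (hn : ¬ Commute (x 0) (x u)) (hut : u < t) (m : ℕ) (hm : m + 1 + u ≤ t) :
    ⁅x 0, x u⁆ ∈ I P g (u - 1 - m) t := by
  induction m with
  | zero => simpa using (h.comm_x (i := 0) (j := u) (by omega) (by omega)).1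
  | succ m ih =>
    have hw := ih (by omega)
    by_cases hmu : m + 1 < u
    swap
    · rw [h.eq_bot (by omega), mem_bot] at hw
      exact hw ▸ one_mem _
    rw [Nat.cast_succ, ← sub_sub]
    refine h.mem_left hu hn (k := -1 - m) (by omega) (by omega) (by omega) hw ?_
    have hc := (h.comm_x (i := -1 - m) (j := u) (by omega) (by omega)).1
    have h1 := mem_cent1.1 (h.I_le_cent1 hu (k := 0) (by omega) (by omega) (by omega) hc)
    have h2 := mem_cent.1 (h.I_le_cent hu (by omega) (by omega) (by omega) (by omega) hc) _ hw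
    have h3 := (hu (-1 - m) 0 (by omega) (by omega)).eq
    rw [mem_cent1]
    generalize x (-1 - m) = y at *
    generalize x 0 = a at *
    generalize x u = b at *
    have e1 : y * ⁅a, b⁆ * y⁻¹ = a * ⁅y, b⁆ * a⁻¹ * ⁅a, b⁆ * ⁅y, b⁆⁻¹ := by
      calc y * ⁅a, b⁆ * y⁻¹ = (y * a) * b * y⁻¹ * (y * a⁻¹) * b⁻¹ * y⁻¹ := by
            simp only [commutatorElement_def]; group
        _ = (a * y) * b * y⁻¹ * (a⁻¹ * y) * b⁻¹ * y⁻¹ := by
            rw [h3, (Commute.inv_right (show Commute y a from h3)).eq]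
        _ = _ := by simp only [commutatorElement_def]; group
    rw [← h1, mul_inv_cancel_right, ← h2, mul_inv_cancel_right, mul_inv_eq_iff_eq_mul] at e1
    exact e1.symm

theorem comm_mem_both (hn : ¬ Commute (x 0) (x u)) (hut : u < t) :
    ⁅x 0, x u⁆ ∈ I P g (2 * u - t) (2 * t - u - 1) := by
  have h1 := h.comm_mem_right hu hn hut (t - u - 1) (by omega)
  have h2 := h.comm_mem_left hu hn hut (t - u - 1) (by omega)
  refine mem_I.2 fun k k1 k2 => ?_
  by_cases hk : k ≤ t
  · exact mem_I.1 h2 k (by omega) hk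
  · exact mem_I.1 h1 k (by omega) (by omega)

theorem two_mul_le (hn : ¬ Commute (x 0) (x u)) (hut : u < t) : 2 * t ≤ 3 * u := by
  by_contra hc
  have := h.comm_mem_both hu hn hut
  rw [h.eq_bot (by omega), mem_bot, commutatorElement_eq_one_iff_commute] at this
  exact hn this

theorem two_mul_le' (hut : u ≤ t) {n : ℕ}
    (hZ : ∀ z ∈ P, (∀ k : ℤ, 0 ≤ k → k ≤ n → z ∈ 𝐂 (Pk P g k)) → z ∈ Pk P g n → z = 1) :
    2 * u ≤ t + n := by
  by_contra hc
  refine h.ne (u - t) (hZ _ ?_ (fun k k1 k2 => le_cent1_iff.1 ?_)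
    (h.mem_Pk_of (by omega) (by omega)))
  · exact Pk_zero (P := P) (g := g) ▸ h.mem_Pk_of (by omega) (by omega)
  · exact (I_self k).ge.trans (h.I_le_cent1 hu le_rfl (by omega) (by omega))

end Frame

end Cfsg.Lib.Local.Sims
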