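import Cfsg.Agent.Local.CubicOne
import Cfsg.Agent.FT.BG1.Coprime

/-! Extensions of an elementary abelian 2-group by a dihedral group of twice odd order. -/

set_option autoImplicit false
set_option linter.unusedSectionVars false

namespace Cfsg.Lib.Local.Sims

open Subgroup Pointwise Cfsg.Lib.Solv Cfsg.Lib.FT DihedralGroup

variable {K : Type*} [Group K] {n : ℕ} {φ : K →* DihedralGroup n} {a b : K} {i : ZMod n}

theorem mem_of_coprime_zpow {H : Subgroup K} {g : K} {j k : ℤ} (h : IsCoprime j k)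
    (ha : g ^ j ∈ H) (hb : g ^ k ∈ H) : g ∈ H := by
  obtain ⟨u, v, huv⟩ := h
  have h2 : g = (g ^ j) ^ u * (g ^ k) ^ v := by
    rw [← zpow_mul, ← zpow_mul, ← zpow_add, mul_comm j, mul_comm k, huv, zpow_one]
  rw [h2]
  exact H.mul_mem (H.zpow_mem ha _) (H.zpow_mem hb _)

theorem exists_rot_of {d g : K} {k : ZMod n} (hd : φ d = r 1) (hg : φ g = r k) :
    ∃ j : ℤ, ∃ q ∈ φ.ker, g = d ^ j * q := by
  obtain ⟨j, rfl⟩ := ZMod.intCast_surjective k
  refine ⟨j, (d ^ j)⁻¹ * g, ?_, by group⟩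
  rw [MonoidHom.mem_ker, map_mul, map_inv, map_zpow, hd, r_one_zpow, hg, inv_mul_cancel]

/-- `K / ker φ` is dihedral of twice odd order and `ker φ` is an elementary abelian 2-group. -/
structure Dih (φ : K →* DihedralGroup n) (a b : K) (i : ZMod n) : Prop where
  odd : Odd n
  surj : Function.Surjective φ
  sq : ∀ x ∈ φ.ker, x * x = 1
  ha : φ a = sr i
  hb : φ b = sr (i + 1)

namespace Dih

variable [Finite K] (h : Dih φ a b i)
include h

theorem comm {x y : K} (hx : x ∈ φ.ker) (hy : y ∈ φ.ker) : x * y = y * x := by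
  have h1 := h.sq _ (mul_mem hx hy)
  have h2 := h.sq _ hx
  have h3 := h.sq _ hy
  calc x * y = x * (x * y * (x * y)) * y := by rw [h1, mul_one]
    _ = (x * x) * (y * x) * (y * y) := by group
    _ = y * x := by rw [h2, h3, one_mul, mul_one]

theorem two : IsPGroup 2 φ.ker := fun x => ⟨1, Subtype.ext (by
  rw [pow_one, pow_two]; exact h.sq x x.2)⟩

theorem map_d : φ (a * b) = r 1 := by rw [map_mul, h.ha, h.hb, sr_mul_sr, add_sub_cancel_left]

theorem exists_rot {g : K} {k : ZMod n} (hg : φ g = r k) :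
    ∃ j : ℤ, ∃ q ∈ φ.ker, g = (a * b) ^ j * q := exists_rot_of h.map_d hg

theorem pow_mem : (a * b) ^ (n : ℤ) ∈ 𝐂 φ.ker := by
  refine mem_cent.2 fun x hx => h.comm hx ?_
  rw [MonoidHom.mem_ker, map_zpow, h.map_d, zpow_natCast, r_one_pow_n]

theorem commute_of_sq {x : K} (hx : x ∈ φ.ker) (h2 : (a * b) ^ (2 : ℤ) ∈ 𝐂₁ x) :
    a * b ∈ 𝐂₁ x := by
  refine mem_of_coprime_zpow ?_ h2 (cent_le_cent1 hx h.pow_mem)
  rw [Int.isCoprime_iff_gcd_eq_one]
  exact (Nat.coprime_two_left.2 h.odd)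

theorem core {m : ℕ} (hm : ∀ k : ℤ, (a * b) ^ k ∈ 𝐂 φ.ker ↔ (m : ℤ) ∣ k) :
    Nat.card (K ⧸ oddCore K) = 2 * m * Nat.card φ.ker ∧ φ.ker ⊓ oddCore K = ⊥ ∧
      ∀ k : ℤ, (m : ℤ) ∣ k → (a * b) ^ k ∈ φ.ker ⊔ oddCore K := by
  have hn0 : n ≠ 0 := by rintro rfl; exact absurd h.odd (by decide)
  have := NeZero.mk hn0
  have hmn : m ∣ n := Int.natCast_dvd_natCast.1 ((hm n).1 h.pow_mem)
  have hO : oddCore K = piCoreOf ({2}ᶜ : Set ℕ) ⊤ := by
    rw [pcore_top]; exact pPrimeCore_eq_piCore 2 K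
  have hOp : IsPiSubgroup ({2}ᶜ : Set ℕ) (oddCore K) := hO ▸ pcore_pgroup _ _
  have hQp : IsPiSubgroup {2} φ.ker := pgroup_iff.2 h.two
  have hQO : φ.ker ⊓ oddCore K = ⊥ := pgroup_TI hQp hOp
  set D : Subgroup K := (zpowers (r (m : ZMod n))).comap φ with hD
  have hmem : ∀ g, g ∈ D ↔ ∃ j : ℤ, (m : ℤ) ∣ j ∧ ∃ q ∈ φ.ker, g = (a * b) ^ j * q := by
    intro g
    constructor
    · rintro ⟨j, hj⟩
      refine ⟨m * j, dvd_mul_right _ _, ((a * b) ^ (m * j))⁻¹ * g, ?_, by group⟩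
      rw [MonoidHom.mem_ker, map_mul, map_inv, map_zpow, h.map_d, ← hj, zpow_mul, zpow_natCast,
        r_one_pow, inv_mul_cancel]
    · rintro ⟨_, ⟨j, rfl⟩, q, hq, rfl⟩
      refine ⟨j, ?_⟩
      rw [map_mul, MonoidHom.mem_ker.1 hq, mul_one, map_zpow, h.map_d, zpow_mul, zpow_natCast,
        r_one_pow]
  have hDn : D.Normal := by
    refine Normal.comap ⟨?_⟩ φ
    rintro _ ⟨j, rfl⟩ g
    rw [← conj_zpow]
    refine zpow_mem ?_ j
    rcases g with k | k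
    · rw [r_mul_r, inv_r, r_mul_r, add_neg_cancel_comm]; exact mem_zpowers _
    · rw [sr_mul_r, inv_sr, sr_mul_sr, sub_add_cancel_left, ← inv_r]
      exact inv_mem (mem_zpowers _)
  have hDa : IsMulCommutative D := abelian_of_forall fun x hx y hy => by
    obtain ⟨j, hj, q, hq, rfl⟩ := (hmem x).1 hx
    obtain ⟨k, hk, q', hq', rfl⟩ := (hmem y).1 hy
    have h1 := mem_cent.1 ((hm j).2 hj) q' hq'
    have h2 := mem_cent.1 ((hm k).2 hk) q hq
    calc (a * b) ^ j * q * ((a * b) ^ k * q') = (a * b) ^ j * (q * (a * b) ^ k) * q' := by group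
      _ = (a * b) ^ k * (a * b) ^ j * (q * q') := by rw [h2]; group
      _ = (a * b) ^ k * ((a * b) ^ j * q') * q := by rw [h.comm hq hq']; group
      _ = _ := by rw [← h1]; group
  have hOD : oddCore K ≤ D := by
    intro g hg
    have h1 : g ∈ 𝐂 φ.ker := TI_cents (normalizer_eq_top φ.ker ▸ le_top)
      (normalizer_eq_top (oddCore K) ▸ le_top) ((inf_comm _ _).trans hQO) hg
    rcases h2 : φ g with k | k
    · obtain ⟨j, q, hq, rfl⟩ := h.exists_rot h2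
      refine (hmem _).2 ⟨j, (hm j).1 ?_, q, hq, rfl⟩
      exact (mul_mem_cancel_right (mem_cent.2 fun x hx => h.comm hx hq)).1 h1
    · have h3 := (orderOf_map_dvd φ g).trans (order_dvdG hg)
      rw [h2, orderOf_sr] at h3
      exact absurd h3 ((p'groupE Nat.prime_two).1 hOp)
  have hQD : φ.ker ≤ D := fun x hx => by
    rw [hD, mem_comap, MonoidHom.mem_ker.1 hx]; exact one_mem _
  have hO2 : piCoreOf ({2}ᶜ : Set ℕ) D = oddCore K := by
    rw [← pcore_setI_normal _ (normal_top_iff.2 hDn), ← hO, inf_eq_left.2 hOD]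
  have hH1 : IsPiHallOf ({2}ᶜ : Set ℕ) (oddCore K) D :=
    hO2 ▸ nilpotent_pcore_Hall _ (abelian_nil hDa)
  have hord : orderOf (r (m : ZMod n)) * m = n := by
    rw [← r_one_pow, orderOf_pow_of_dvd (fun e => hn0 (by simpa [e] using hmn))
      (by rwa [orderOf_r_one]), orderOf_r_one, Nat.div_mul_cancel hmn]
  have hrel : φ.ker.relIndex D = orderOf (r (m : ZMod n)) := by
    rw [relIndex_ker, hD, map_comap_eq_self_of_surjective h.surj, Nat.card_zpowers]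
  have hH2 : IsPiHallOf {2} φ.ker D := by
    refine pHall_of hQD hQp ((p'natE Nat.prime_two).2 fun e => ?_)
    rw [hrel] at e
    exact (Nat.not_even_iff_odd.2 h.odd) (even_iff_two_dvd.2 (hord ▸ e.mul_right m))
  have hsup := Hall_sup_eq hH2 hH1
  refine ⟨?_, hQO, fun k hk => hsup ▸ (hmem _).2 ⟨k, hk, 1, one_mem _, (mul_one _).symm⟩⟩
  have c1 := card_sup_of_disjoint_of_le_normalizer (N := φ.ker) (H := oddCore K)
    (normalizer_eq_top φ.ker ▸ le_top) hQO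
  have c2 := card_mul_relIndex_of_le hQD
  rw [hsup, ← c2, hrel] at c1
  have c3 := Nat.eq_of_mul_eq_mul_left Nat.card_pos c1
  have c4 := card_eq_card_quotient_mul_card_subgroup (oddCore K)
  have c5 := card_eq_card_quotient_mul_card_subgroup φ.ker
  rw [Nat.card_congr (QuotientGroup.quotientKerEquivOfSurjective φ h.surj).toEquiv, nat_card,
    c4] at c5
  rw [c3] at hord
  refine Nat.eq_of_mul_eq_mul_right (Nat.card_pos (α := oddCore K)) ?_
  rw [c5]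
  generalize Nat.card φ.ker = c
  rw [← hord]; ring

theorem exists_mk_eq {g : K} (hg : g ∈ φ.ker ⊔ oddCore K) :
    ∃ q ∈ φ.ker, (g : K ⧸ oddCore K) = q := by
  obtain ⟨q, hq, o, ho, rfl⟩ := (mem_sup_of_le_normalizer (normalizer_eq_top φ.ker ▸ le_top)).1 hg
  exact ⟨q, hq, by rw [QuotientGroup.mk_mul, (QuotientGroup.eq_one_iff o).2 ho, mul_one]⟩

theorem four (h2 : Nat.card φ.ker = 2) (haa : a * a = 1) :
    Nonempty (K ⧸ oddCore K ≃* Multiplicative (ZMod 2) × Multiplicative (ZMod 2)) := by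
  have hc : ∀ g : K, g ∈ 𝐂 φ.ker := fun g => mem_cent.2 fun x hx => by
    obtain ⟨y, hy1, hy2⟩ := (Nat.card_eq_two_iff' (1 : φ.ker)).1 h2
    by_cases e : x = 1
    · rw [e, mul_one, one_mul]
    · have h1 := hy2 ⟨x, hx⟩ (fun e' => e (congrArg Subtype.val e'))
      have h3 := hy2 ⟨g * x * g⁻¹, (MonoidHom.normal_ker φ).conj_mem x hx g⟩
        (fun e' => e (conjg_eq1.1 (congrArg Subtype.val e')))
      exact (mul_inv_eq_iff_eq_mul.1 (congrArg Subtype.val (h3.trans h1.symm))).symm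
  obtain ⟨c1, -, c3⟩ := h.core (m := 1) fun k => ⟨fun _ => by simp, fun _ => hc _⟩
  have hr : ∀ g k, φ g = r k → ∃ q ∈ φ.ker, (g : K ⧸ oddCore K) = q := by
    intro g k hg
    obtain ⟨j, q, hq, rfl⟩ := h.exists_rot hg
    exact h.exists_mk_eq (mul_mem (c3 j (by simp)) (mem_sup_left hq))
  have : IsKleinFour (K ⧸ oddCore K) := by
    refine ⟨by rw [c1, h2], ?_⟩
    have : Nontrivial (K ⧸ oddCore K) := Finite.one_lt_card_iff_nontrivial.1 (by rw [c1, h2]; omega)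
    refine (Monoid.exponent_eq_prime_iff Nat.prime_two).2 fun x hx => ?_
    refine orderOf_two_of_mul_self ?_ hx
    obtain ⟨g, rfl⟩ := QuotientGroup.mk_surjective x
    rcases h3 : φ g with k | k
    · obtain ⟨q, hq, e⟩ := hr g k h3
      rw [e, ← QuotientGroup.mk_mul, h.sq q hq, QuotientGroup.mk_one]
    · obtain ⟨q, hq, e⟩ := hr (a * g) _ (by rw [map_mul, h.ha, h3, sr_mul_sr])
      have e2 : (g : K ⧸ oddCore K) = (a * q : K) := by
        rw [QuotientGroup.mk_mul, ← e, ← QuotientGroup.mk_mul, ← mul_assoc, haa, one_mul]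
      rw [e2, ← QuotientGroup.mk_mul, mul_assoc, ← mul_assoc q, mem_cent.1 (hc a) q hq, mul_assoc,
        h.sq q hq, mul_one, haa, QuotientGroup.mk_one]
  have : IsKleinFour (Multiplicative (ZMod 2) × Multiplicative (ZMod 2)) :=
    inferInstanceAs (IsKleinFour (Multiplicative (ZMod 2 × ZMod 2)))
  exact IsKleinFour.nonempty_mulEquiv

theorem three {e₁ e₂ z : K} (h1 : e₁ ∈ φ.ker) (h2 : e₂ ∈ φ.ker) (hz : z ∈ φ.ker)
    (ne12 : e₁ ≠ e₂) (ne1 : e₁ ≠ z) (ne2 : e₂ ≠ z)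
    (a1 : a * e₁ * a⁻¹ = e₁) (a2 : a * e₂ * a⁻¹ = e₁ * e₂ * z) (az : a * z * a⁻¹ = z)
    (b1 : b * e₁ * b⁻¹ = e₁ * e₂ * z) (b2 : b * e₂ * b⁻¹ = e₂) (bz : b * z * b⁻¹ = z)
    (hQ : ∀ w ∈ φ.ker, w ∈ zpowers z ∨ e₁ * w ∈ zpowers z ∨ e₂ * w ∈ zpowers z ∨
      e₁ * e₂ * w ∈ zpowers z) :
    Nat.card (K ⧸ oddCore K) = 6 * Nat.card φ.ker ∧ φ.ker ⊓ oddCore K = ⊥ ∧
      ∀ g : K ⧸ oddCore K, orderOf g = 6 → z ≠ 1 ∧ g ^ 3 = z := by
  have s1 := h.sq _ h1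
  have s2 := h.sq _ h2
  have sz := h.sq _ hz
  have c12 := h.comm h1 h2
  have c1z := h.comm h1 hz
  have c2z := h.comm h2 hz
  set d := a * b with hd
  have dz : d * z * d⁻¹ = z := by
    calc d * z * d⁻¹ = a * (b * z * b⁻¹) * a⁻¹ := by rw [hd]; group
      _ = z := by rw [bz, az]
  have d1 : d * e₁ * d⁻¹ = e₂ := by
    calc d * e₁ * d⁻¹ = a * (b * e₁ * b⁻¹) * a⁻¹ := by rw [hd]; group
      _ = (a * e₁ * a⁻¹) * (a * e₂ * a⁻¹) * (a * z * a⁻¹) := by rw [b1]; group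
      _ = (e₁ * e₁) * e₂ * (z * z) := by rw [a1, a2, az]; group
      _ = e₂ := by rw [s1, sz, one_mul, mul_one]
  have d2 : d * e₂ * d⁻¹ = e₁ * e₂ * z := by
    calc d * e₂ * d⁻¹ = a * (b * e₂ * b⁻¹) * a⁻¹ := by rw [hd]; group
      _ = _ := by rw [b2, a2]
  have d3 : d * (e₁ * e₂ * z) * d⁻¹ = e₁ := by
    calc d * (e₁ * e₂ * z) * d⁻¹ = (d * e₁ * d⁻¹) * (d * e₂ * d⁻¹) * (d * z * d⁻¹) := by group
      _ = (e₂ * e₁) * e₂ * (z * z) := by rw [d1, d2, dz]; group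
      _ = e₁ := by rw [← c12, sz, mul_one, mul_assoc, s2, mul_one]
  have hzd : zpowers z ≤ 𝐂₁ d := zpowers_le.2 (mem_cent1.2 (mul_inv_eq_iff_eq_mul.1 dz).symm)
  have hd3 : d ^ (3 : ℤ) = d * d * d := by rw [zpow_ofNat, pow_three']
  have t1 : e₁ ∈ 𝐂₁ (d ^ (3 : ℤ)) := by
    rw [mem_cent1, eq_comm, ← mul_inv_eq_iff_eq_mul]
    calc d ^ (3 : ℤ) * e₁ * (d ^ (3 : ℤ))⁻¹ = d * (d * (d * e₁ * d⁻¹) * d⁻¹) * d⁻¹ := by
          rw [hd3]; group
      _ = e₁ := by rw [d1, d2, d3]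
  have t2 : e₂ ∈ 𝐂₁ (d ^ (3 : ℤ)) := by
    rw [mem_cent1, eq_comm, ← mul_inv_eq_iff_eq_mul]
    calc d ^ (3 : ℤ) * e₂ * (d ^ (3 : ℤ))⁻¹ = d * (d * (d * e₂ * d⁻¹) * d⁻¹) * d⁻¹ := by
          rw [hd3]; group
      _ = e₂ := by rw [d2, d3, d1]
  have t3 : d ^ (3 : ℤ) ∈ 𝐂 φ.ker := by
    refine le_cent1_iff.1 fun w hw => ?_
    have h4 := hzd.trans (cent1_le_cent1_of_mem_zpowers (zpow_mem_zpowers d 3))
    rcases hQ w hw with e | e | e | e
    · exact h4 e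
    · exact (mul_mem_cancel_left t1).1 (h4 e)
    · exact (mul_mem_cancel_left t2).1 (h4 e)
    · exact (mul_mem_cancel_left (mul_mem t1 t2)).1 (h4 e)
  have hfix : ∀ w ∈ φ.ker, w ∈ 𝐂₁ d → w ∈ zpowers z := by
    intro w hw hwd
    have key : ∀ e : K, e * w ∈ zpowers z → d * e * d⁻¹ = e := fun e he =>
      mul_inv_eq_iff_eq_mul.2 (mem_cent1.1 ((mul_mem_cancel_right hwd).1 (hzd he))).symm
    rcases hQ w hw with e | e | e | e
    · exact e
    · exact absurd ((key _ e).symm.trans d1) ne12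
    · have := d2.symm.trans (key _ e)
      rw [c12, mul_assoc, mul_eq_left] at this
      exact absurd (mul_left_cancel (s1.trans this.symm)) ne1
    · have := key _ e
      rw [show d * (e₁ * e₂) * d⁻¹ = (d * e₁ * d⁻¹) * (d * e₂ * d⁻¹) by group, d1, d2, c12,
        mul_assoc, mul_right_inj, c1z, ← mul_assoc, mul_eq_right] at this
      exact absurd (mul_left_cancel (s2.trans this.symm)) ne2
  have hcop : ∀ k : ℤ, ¬ (3 : ℤ) ∣ k → IsCoprime k 3 := fun k hk =>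
    (Int.prime_three.coprime_iff_not_dvd.2 hk).symm
  obtain ⟨c1, c2, c3⟩ := h.core (m := 3) fun k => ⟨fun hk => by
    by_contra hk'
    have := mem_cent.1 (mem_of_coprime_zpow (hcop k hk') hk t3) e₁ h1
    exact ne12 ((mul_inv_eq_iff_eq_mul.2 this.symm).symm.trans d1), by
    rintro ⟨j, rfl⟩
    rw [zpow_mul]
    exact zpow_mem t3 j⟩
  refine ⟨c1, c2, fun x hx => ?_⟩
  obtain ⟨g, rfl⟩ := QuotientGroup.mk_surjective x
  have hno : ∀ k : ℕ, (g : K ⧸ oddCore K) ^ k = 1 → 6 ∣ k := fun k hk =>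
    hx ▸ orderOf_dvd_of_pow_eq_one hk
  rcases h3 : φ g with k | k
  swap
  · have h4 := h.sq (g * g) (by rw [MonoidHom.mem_ker, map_mul, h3, sr_mul_self])
    have := hno 4 (by
      rw [← QuotientGroup.mk_pow, show g ^ 4 = g * g * (g * g) by rw [← pow_two, ← pow_two, ← pow_mul], h4, QuotientGroup.mk_one])
    omega
  obtain ⟨j, q, hq, hg⟩ := h.exists_rot h3
  have hj : ¬ (3 : ℤ) ∣ j := fun hj => by
    obtain ⟨q', hq', e⟩ := h.exists_mk_eq (hg ▸ mul_mem (c3 j hj) (mem_sup_left hq))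
    have := hno 2 (by rw [e, pow_two, ← QuotientGroup.mk_mul, h.sq q' hq', QuotientGroup.mk_one])
    omega
  have h5 : g ^ 3 ∈ φ.ker ⊔ oddCore K := by
    have : ((a * b) ^ (3 * j))⁻¹ * g ^ 3 ∈ φ.ker := by
      rw [MonoidHom.mem_ker, map_mul, map_inv, map_pow, hg, map_mul, MonoidHom.mem_ker.1 hq,
        mul_one, map_zpow, map_zpow]
      group
    exact (mul_mem_cancel_left (inv_mem (c3 _ (dvd_mul_right 3 j)))).1 (mem_sup_left this)
  obtain ⟨w, hw, e⟩ := h.exists_mk_eq h5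
  rw [QuotientGroup.mk_pow] at e
  have hw1 : w ≠ 1 := fun e' => by
    have := hno 3 (by rw [e, e', QuotientGroup.mk_one])
    omega
  have hwg : w ∈ 𝐂₁ g := by
    have h6 : g * w * g⁻¹ * w⁻¹ ∈ φ.ker ⊓ oddCore K := by
      refine mem_inf.2 ⟨mul_mem ((MonoidHom.normal_ker φ).conj_mem w hw g) (inv_mem hw), ?_⟩
      refine (QuotientGroup.eq_one_iff _).1 ?_
      simp only [QuotientGroup.mk_mul, QuotientGroup.mk_inv, ← e]
      group
    rw [c2, mem_bot, mul_inv_eq_one, mul_inv_eq_iff_eq_mul] at h6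
    exact mem_cent1.2 h6.symm
  have hwz : w ∈ zpowers z := by
    refine hfix w hw (cent1C.1 (mem_of_coprime_zpow (hcop j hj) ?_ (cent_le_cent1 hw t3)))
    have := cent1C.1 hwg
    rw [hg] at this
    exact (mul_mem_cancel_right (mem_cent1.2 (h.comm hq hw))).1 this
  obtain ⟨l, rfl⟩ := hwz
  have hzz : ∀ l : ℤ, z ^ (2 * l) = 1 := fun l => by rw [zpow_mul, zpow_two, sz, one_zpow]
  rcases Int.even_or_odd' l with ⟨l, rfl | rfl⟩
  · exact absurd (hzz l) hw1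
  · simp only [zpow_add, hzz, one_mul, zpow_one] at hw1 e
    exact ⟨hw1, e⟩

theorem equiv_S4 {e₁ e₂ : K} (h1 : e₁ ∈ φ.ker) (h2 : e₂ ∈ φ.ker) (hc : Nat.card φ.ker = 4)
    (ne12 : e₁ ≠ e₂) (ne1 : e₁ ≠ 1) (ne2 : e₂ ≠ 1)
    (a1 : a * e₁ * a⁻¹ = e₁) (a2 : a * e₂ * a⁻¹ = e₁ * e₂)
    (b1 : b * e₁ * b⁻¹ = e₁ * e₂) (b2 : b * e₂ * b⁻¹ = e₂)
    (hQ : ∀ w ∈ φ.ker, w = 1 ∨ e₁ * w = 1 ∨ e₂ * w = 1 ∨ e₁ * e₂ * w = 1) :
    Nonempty (K ⧸ oddCore K ≃* Equiv.Perm (Fin 4)) := by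
  obtain ⟨c1, -, c3⟩ := h.three h1 h2 (one_mem _) ne12 ne1 ne2 a1 (by rw [a2, mul_one]) (by simp)
    (by rw [b1, mul_one]) b2 (by simp) (by simpa using hQ)
  exact Cfsg.Agent.S1012.result (by rw [c1, hc]) fun g hg => (c3 g hg).1 rfl

theorem equiv_S4_C2 {e₁ e₂ z : K} (h1 : e₁ ∈ φ.ker) (h2 : e₂ ∈ φ.ker) (hz : z ∈ φ.ker)
    (hc : Nat.card φ.ker = 8) (haa : a * a = 1) (hz1 : z ≠ 1) (he1 : e₁ ≠ 1) (he2 : e₂ ≠ 1)
    (ne12 : e₁ ≠ e₂) (ne1 : e₁ ≠ z) (ne2 : e₂ ≠ z)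
    (a1 : a * e₁ * a⁻¹ = e₁) (a2 : a * e₂ * a⁻¹ = e₁ * e₂ * z) (az : a * z * a⁻¹ = z)
    (b1 : b * e₁ * b⁻¹ = e₁ * e₂ * z) (b2 : b * e₂ * b⁻¹ = e₂) (bz : b * z * b⁻¹ = z)
    (hQ : ∀ w ∈ φ.ker, w ∈ zpowers z ∨ e₁ * w ∈ zpowers z ∨ e₂ * w ∈ zpowers z ∨
      e₁ * e₂ * w ∈ zpowers z) :
    Nonempty (K ⧸ oddCore K ≃* Equiv.Perm (Fin 4) × Multiplicative (ZMod 2)) := by
  obtain ⟨c1, c2, c3⟩ := h.three h1 h2 hz ne12 ne1 ne2 a1 a2 az b1 b2 bz hQ
  have s1 := h.sq _ h1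
  have s2 := h.sq _ h2
  have sz := h.sq _ hz
  have hinj : ∀ q ∈ φ.ker, (q : K ⧸ oddCore K) = 1 → q = 1 := fun q hq e =>
    mem_bot.1 (c2.le ⟨hq, (QuotientGroup.eq_one_iff q).1 e⟩)
  have hcen : ∀ g : K, g * z = z * g := by
    have ha : a ∈ 𝐂₁ z := mem_cent1.2 (mul_inv_eq_iff_eq_mul.1 az)
    have hb : b ∈ 𝐂₁ z := mem_cent1.2 (mul_inv_eq_iff_eq_mul.1 bz)
    have hr : ∀ g k, φ g = r k → g ∈ 𝐂₁ z := fun g k hg => by
      obtain ⟨j, q, hq, rfl⟩ := h.exists_rot hg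
      exact mul_mem (zpow_mem (mul_mem ha hb) j) (mem_cent1.2 (h.comm hq hz))
    intro g
    rcases h3 : φ g with k | k
    · exact mem_cent1.1 (hr g k h3)
    · exact mem_cent1.1 ((mul_mem_cancel_left ha).1
        (hr (a * g) _ (by rw [map_mul, h.ha, h3, sr_mul_sr])))
  have hsq : (a * e₂) ^ 2 = e₁ * z := by
    calc (a * e₂) ^ 2 = a * e₂ * a⁻¹ * (a * a) * e₂ := by rw [pow_two]; group
      _ = e₁ * (e₂ * z) * e₂ := by rw [a2, haa]; group
      _ = e₁ * z * (e₂ * e₂) := by rw [h.comm h2 hz]; group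
      _ = e₁ * z := by rw [s2, mul_one]
  have hne : e₁ * z ≠ 1 := fun e => ne1 (mul_right_cancel (e.trans sz.symm))
  set A := (a : K ⧸ oddCore K) with hA
  set E := (e₂ : K ⧸ oddCore K) with hE
  have tt : A * A = 1 := by rw [hA, ← QuotientGroup.mk_mul, haa, QuotientGroup.mk_one]
  have ss : E * E = 1 := by rw [hE, ← QuotientGroup.mk_mul, s2, QuotientGroup.mk_one]
  have hts : (A * E) ^ 2 = (e₁ * z : K) := by
    rw [hA, hE, ← QuotientGroup.mk_mul, ← QuotientGroup.mk_pow, hsq]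
  have hne' : (A * E) ^ 2 ≠ 1 := fun e => hne (hinj _ (mul_mem h1 hz) (hts ▸ e))
  have hr2 : ((e₁ * z : K) : K ⧸ oddCore K) * (e₁ * z : K) = 1 := by
    rw [← QuotientGroup.mk_mul, h.sq _ (mul_mem h1 hz), QuotientGroup.mk_one]
  have hord : orderOf (A * E) = 4 := by
    have : Fact (Nat.Prime 2) := Nat.fact_prime_two
    refine orderOf_eq_prime_pow (p := 2) (n := 1) (by rwa [pow_one]) ?_
    rw [show 2 ^ (1 + 1) = 2 * 2 by rfl, pow_mul, hts, pow_two, hr2]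
  have ot : orderOf A = 2 := orderOf_two_of_mul_self tt fun e => hne' (by
    rw [e, one_mul, pow_two, ss])
  have os : orderOf E = 2 := orderOf_two_of_mul_self ss fun e => he2 (hinj _ h2 e)
  have hZc : ∀ g : K ⧸ oddCore K, g * z = z * g := fun g => by
    obtain ⟨g, rfl⟩ := QuotientGroup.mk_surjective g
    rw [← QuotientGroup.mk_mul, hcen, QuotientGroup.mk_mul]
  have hZ2 : (z : K ⧸ oddCore K) * z = 1 := by
    rw [← QuotientGroup.mk_mul, sz, QuotientGroup.mk_one]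
  have hZ1 : (z : K ⧸ oddCore K) ≠ 1 := fun e => hz1 (hinj _ hz e)
  obtain ⟨e⟩ := Amal.nonempty_equiv_C2_S4 (by rw [c1, hc]) hZc hZ1 hZ2 (closure {A, E}) (by
    obtain ⟨e⟩ := dih_closure_mulEquiv ot os
    rw [Nat.card_congr e.toEquiv, DihedralGroup.nat_card, hord]) (by
    intro hmem
    obtain ⟨k, hk | hk⟩ := dih_mem_closure_form tt ss hmem
    · have e1 : (A * E) ^ (2 * k) = 1 := by rw [mul_comm, zpow_mul, ← hk, zpow_two, hZ2]
      have e2 := orderOf_dvd_iff_zpow_eq_one.mpr e1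
      rw [hord] at e2
      obtain ⟨j, rfl⟩ : 2 ∣ k := by omega
      rw [zpow_mul, zpow_ofNat, hts] at hk
      rcases Int.even_or_odd' j with ⟨i, rfl | rfl⟩
      · rw [zpow_mul, zpow_two, hr2, one_zpow] at hk
        exact hZ1 hk
      · rw [zpow_add, zpow_mul, zpow_two, hr2, one_zpow, one_mul, zpow_one, QuotientGroup.mk_mul,
          eq_comm, mul_eq_right] at hk
        exact he1 (hinj _ h1 hk)
    · have e2 : z * (A * E) * (z : K ⧸ oddCore K)⁻¹ = (A * E)⁻¹ := by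
        rw [hk, ← dih_inverts tt ss]
        generalize A * E = ρ
        group
      rw [← hZc, mul_inv_cancel_right] at e2
      apply hne'
      rw [pow_two]
      nth_rewrite 2 [e2]
      exact mul_inv_cancel _) (fun g hg => (c3 g hg).2)
  exact ⟨e.trans MulEquiv.prodComm⟩

end Dih

end Cfsg.Lib.Local.Sims
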