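import Cfsg.Agent.Local.AmalgamCharP

/-! The subgroups `V_δ^{(n)}` of an amalgam pair of characteristic `p`. -/

set_option autoImplicit false

namespace Cfsg.Lib.Local.Amal

open Subgroup MulAction
open Cfsg.Lib.Trans hiding IsSylowIn exists_isSylowIn_ge exists_isSylowIn
open Cfsg.Lib.Block (IsSylowIn isSylowIn_map exists_isSylowIn_ge exists_isSylowIn)

variable {X : Type*} [Group X] {p : ℕ} {M₁ M₂ : Subgroup X}

theorem vertexZ_le_vIter {n : ℕ} {δ μ : CosetVertex M₁ M₂} (h : (cosetGraph M₁ M₂).dist δ μ ≤ n) :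
    vertexZ p μ ≤ vertexVIter p M₁ M₂ n δ :=
  le_iSup (fun μ : {μ : CosetVertex M₁ M₂ // (cosetGraph M₁ M₂).dist δ μ ≤ n} =>
    vertexZ p (μ : CosetVertex M₁ M₂)) ⟨μ, h⟩

theorem vIter_le_iff {n : ℕ} {δ : CosetVertex M₁ M₂} {K : Subgroup X} :
    vertexVIter p M₁ M₂ n δ ≤ K ↔ ∀ μ, (cosetGraph M₁ M₂).dist δ μ ≤ n → vertexZ p μ ≤ K :=
  ⟨fun h _ hμ => (vertexZ_le_vIter hμ).trans h, fun h => iSup_le fun μ => h μ.1 μ.2⟩

theorem vIter_smul (hgen : M₁ ⊔ M₂ = ⊤) (g : X) (n : ℕ) (δ : CosetVertex M₁ M₂) :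
    vertexVIter p M₁ M₂ n (g • δ) = cj g (vertexVIter p M₁ M₂ n δ) := by
  have hc := cosetGraph_connected hgen
  have hi := cosetGraph_adjInvariant M₁ M₂
  apply le_antisymm
  · rw [vIter_le_iff]
    intro μ hμ
    have : μ = g • (g⁻¹ • μ) := (smul_inv_smul g μ).symm
    rw [this, hi.dist_smul hc] at hμ
    rw [this, vertexZ_smul]
    exact cj_mono g (vertexZ_le_vIter hμ)
  · rw [cj_le_iff_le_cj_inv, vIter_le_iff]
    intro μ hμ
    rw [← cj_le_iff_le_cj_inv, ← vertexZ_smul]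
    exact vertexZ_le_vIter (by rwa [hi.dist_smul hc])

theorem stab_le_normalizer_vIter (hgen : M₁ ⊔ M₂ = ⊤) (n : ℕ) (δ : CosetVertex M₁ M₂) :
    stabilizer X δ ≤ normalizer (vertexVIter p M₁ M₂ n δ : Set X) := by
  intro g hg
  rw [← cj_eq_self_iff, ← vIter_smul hgen, show g • δ = δ from hg]

theorem vIter_le_succ (hgen : M₁ ⊔ M₂ = ⊤) (n : ℕ) {δ μ : CosetVertex M₁ M₂}
    (h : (cosetGraph M₁ M₂).Adj δ μ) :
    vertexVIter p M₁ M₂ n μ ≤ vertexVIter p M₁ M₂ (n + 1) δ := by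
  rw [vIter_le_iff]
  intro ν hν
  exact vertexZ_le_vIter ((dist_le_succ_of_adj (cosetGraph_connected hgen) h ν).trans (by omega))

theorem vIter_succ_le [Fact p.Prime] (h : IsCharPAmalgamPair p M₁ M₂) (n : ℕ)
    {δ : CosetVertex M₁ M₂} {K : Subgroup X}
    (hK : ∀ μ, (cosetGraph M₁ M₂).Adj δ μ → vertexVIter p M₁ M₂ n μ ≤ K) :
    vertexVIter p M₁ M₂ (n + 1) δ ≤ K := by
  have hc := cosetGraph_connected h.1.1
  rw [vIter_le_iff]
  intro ν hν
  rcases hd : (cosetGraph M₁ M₂).dist δ ν with _ | m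
  · rw [hc.dist_eq_zero_iff] at hd
    subst hd
    rw [scc_le_iff]
    intro T hT
    obtain ⟨μ, hμ, hT'⟩ := exists_edge_of_sylowIn h hT
    exact (omZ_le_scc (sylowIn_of_edge h hμ hT').2).trans
      ((vertexZ_le_vIter (by simp)).trans (hK μ hμ))
  · obtain ⟨μ, hμ, hd'⟩ := exists_adj_dist hc hd
    exact (vertexZ_le_vIter (by omega)).trans (hK μ hμ)

theorem vIter_ne_bot [Fact p.Prime] (h : IsCharPAmalgamPair p M₁ M₂) (n : ℕ)
    (δ : CosetVertex M₁ M₂) : vertexVIter p M₁ M₂ n δ ≠ ⊥ := fun h1 =>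
  vertexZ_ne_bot h δ (eq_bot_iff.mpr ((vertexZ_le_vIter (by simp)).trans h1.le))

/-- If `U, V ≤ Q` are normalised by the finite `p`-group `Q` and `V ≤ U [V, Q]` then `V ≤ U`. -/
theorem le_of_le_sup_commutator [Fact p.Prime] {U V Q : Subgroup X} [Finite Q] (hQ : IsPGroup p Q)
    (hU : U ≤ Q) (hV : V ≤ Q) (hn : Q ≤ normalizer (U : Set X)) (h : V ≤ U ⊔ ⁅V, Q⁆) : V ≤ U := by
  have : (U.subgroupOf Q).Normal := (normal_subgroupOf_iff_le_normalizer hU).mpr hn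
  have hnil : Group.IsNilpotent (Q ⧸ U.subgroupOf Q) := by
    have := hQ.isNilpotent
    infer_instance
  have h1 : V.subgroupOf Q ≤ U.subgroupOf Q ⊔ ⁅V.subgroupOf Q, ⊤⁆ := by
    rw [← map_le_map_iff_of_injective Q.subtype_injective, Subgroup.map_sup, map_commutator,
      map_subgroupOf_eq_of_le hU, map_subgroupOf_eq_of_le hV, ← MonoidHom.range_eq_map,
      range_subtype]
    exact h
  have h2 := map_mono (f := QuotientGroup.mk' (U.subgroupOf Q)) h1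
  rw [Subgroup.map_sup, map_commutator, QuotientGroup.map_mk'_self, bot_sup_eq,
    map_top_of_surjective _ (QuotientGroup.mk'_surjective _)] at h2
  have h3 := Solv.eq_bot_of_le_commutator_of_isNilpotent
    (N := (⊤ : Subgroup (Q ⧸ U.subgroupOf Q))) inferInstance le_top h2
  rw [Subgroup.map_eq_bot_iff, QuotientGroup.ker_mk'] at h3
  have h4 := map_mono (f := Q.subtype) h3
  rwa [map_subgroupOf_eq_of_le hU, map_subgroupOf_eq_of_le hV] at h4

end Cfsg.Lib.Local.Amal
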