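import Cfsg.Agent.Class.DicksonPGL
import Cfsg.Agent.Solv.ElemAb

/-!
Groups of order prime to `p` acting on an elementary abelian group of order `p ^ 2`: the tame case
of Dickson's theorem, read modulo scalars.
-/

set_option autoImplicit false

namespace Cfsg.Lib.TameGL2

open Cfsg.Lib.Class Cfsg.Lib.Solv Matrix MulAction
open scoped MatrixGroups

section PGL

variable {F : Type*} [Field F] [Finite F] (p : ℕ) [hp : Fact p.Prime] [CharP F p]

theorem tame_cases (H : Subgroup PGL(2, F)) (hH : ¬ p ∣ Nat.card H) :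
    (∀ g ∈ H, ∀ h ∈ H, ∀ x : P1 F, g • x = x → h • x = x → g * h = h * g) ∧
    ((∃ x y : P1 (Kb F), x ≠ y ∧ ∀ h ∈ H, bar (h ^ 2) • x = x ∧ bar (h ^ 2) • y = y) ∨
      (∀ g ∈ H, g ^ 2 = 1 ∨ g ^ 3 = 1 ∨ g ^ 5 = 1) ∨
      (Nat.card H = 24 ∧ ∀ g ∈ H, g ^ 3 = 1 ∨ g ^ 4 = 1)) := by
  let : MulAction H (P1 (Kb F)) := MulAction.compHom _ (bar.comp H.subtype)
  have hsm : ∀ (h : H) (x : P1 (Kb F)), h • x = bar h.1 • x := fun _ _ => rfl
  let L : LineAction H (P1 (Kb F)) (Kb F) := (pgl2LineAction (Kb F)).comap (bar.comp H.subtype)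
    (bar_injective.comp H.subtype_injective) hsm
  have hU : ∀ x : P1 (Kb F), L.U x = ⊥ := by
    intro x
    rw [eq_bot_iff]
    intro h hh
    rw [L.mem_U_iff] at hh
    rcases hh with rfl | ⟨h1, h2⟩
    · exact Subgroup.one_mem _
    · have h3 : h ^ p = 1 := by
        refine Subtype.ext (bar_eq_one_iff.1 ?_)
        rw [Subgroup.coe_pow, map_pow]
        exact (pgl2_pow_char_eq_one_iff p h1).2 (Or.inr h2)
      by_contra h4
      exact hH (orderOf_eq_prime h3 h4 ▸ orderOf_dvd_natCard h)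
  have lift : ∀ {k : ℕ} {g : H}, g ^ k = 1 → g.1 ^ k = 1 := fun h => congrArg Subtype.val h
  refine ⟨fun g hg h hh x h1 h2 => ?_, ?_⟩
  · have := L.isCyclic_stabilizer (barPt x) (hU _)
    have hc := (IsCyclic.isMulCommutative (α := stabilizer H (barPt x))).is_comm.comm
      ⟨⟨g, hg⟩, (bar_smul_barPt_eq_iff g x x).2 h1⟩ ⟨⟨h, hh⟩, (bar_smul_barPt_eq_iff h x x).2 h2⟩
    exact congrArg (fun z => z.1.1) hc
  rcases L.classification with ⟨x, hx⟩ | ⟨x, y, hxy, hH⟩ | ⟨-, hH⟩ | ⟨-, ⟨x, hx⟩, -⟩ |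
    ⟨x, hx3, -⟩
  · have := L.isCyclic_stabilizer x (hU x)
    obtain ⟨⟨s, hs⟩, hgen⟩ := IsCyclic.exists_generator (α := stabilizer H x)
    have hgen' : ∀ h : H, h ∈ Subgroup.zpowers s := fun h => by
      obtain ⟨k, hk⟩ := hgen ⟨h, hx _⟩
      exact ⟨k, congrArg (fun z => z.1) hk⟩
    by_cases hs1 : s = 1
    · refine Or.inr (Or.inl fun g hg => Or.inl ?_)
      have := hgen' ⟨g, hg⟩
      rw [hs1, Subgroup.zpowers_one_eq_bot, Subgroup.mem_bot] at this
      rw [show g = 1 from congrArg Subtype.val this, one_pow]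
    · obtain ⟨y, hy, hsy⟩ := L.exists_fix_of_not_mem_U (hx s) (by rw [hU]; exact hs1)
      refine Or.inl ⟨x, y, hy.symm, fun h hh => ⟨hx ⟨_, H.pow_mem hh 2⟩, ?_⟩⟩
      exact (Subgroup.zpowers_le_of_mem (show s ∈ stabilizer _ y from hsy))
        (hgen' ⟨_, H.pow_mem hh 2⟩)
  · refine Or.inl ⟨x, y, hxy, fun h hh => ?_⟩
    rw [pow_two, map_mul, mul_smul, mul_smul]
    rcases hH ⟨h, hh⟩ with ⟨h1, h2⟩ | ⟨h1, h2⟩ <;> rw [hsm] at h1 h2 <;> dsimp only at h1 h2
    · rw [h1, h1, h2, h2]; exact ⟨rfl, rfl⟩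
    · rw [h1, h2, h1]; exact ⟨rfl, rfl⟩
  · rcases hH with h | h | h
    · exact Or.inr (Or.inl fun g hg => (h.2 ⟨g, hg⟩).imp lift fun a => Or.inl (lift a))
    · exact Or.inr (Or.inr ⟨h.1, fun g hg => (h.2 ⟨g, hg⟩).imp lift lift⟩)
    · exact Or.inr (Or.inl fun g hg => (h.2 ⟨g, hg⟩).imp lift fun a => a.imp lift lift)
  · rw [hU, Subgroup.card_bot] at hx
    omega
  · rw [hU, Subgroup.card_bot] at hx3
    omega

theorem three_points (H : Subgroup PGL(2, F)) (hH : ¬ p ∣ Nat.card H) (x : Fin 3 → P1 F)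
    (hx : Function.Injective x) (h : ∀ i, ∃ g ∈ H, g • x i = x i ∧ g ^ 2 ≠ 1) :
    (∀ g ∈ H, g ^ 2 = 1 ∨ g ^ 3 = 1 ∨ g ^ 5 = 1) ∨
      (Nat.card H = 24 ∧ ∀ g ∈ H, g ^ 3 = 1 ∨ g ^ 4 = 1) := by
  rcases (tame_cases p H hH).2 with ⟨a, b, hab, h1⟩ | h1
  swap
  · exact h1
  exfalso
  have key : ∀ i, barPt (x i) = a ∨ barPt (x i) = b := by
    intro i
    obtain ⟨g, hg, h2, h3⟩ := h i
    by_contra! hcon
    refine h3 (bar_eq_one_iff.1 (pgl2_eq_one_of_three hab hcon.1.symm hcon.2.symm (h1 g hg).1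
      (h1 g hg).2 ?_))
    rw [bar_smul_barPt_eq_iff, pow_two, mul_smul, h2, h2]
  have inj : ∀ i j, barPt (x i) = barPt (x j) → i = j := fun i j e => hx (barPt_injective e)
  rcases key 0 with h0 | h0 <;> rcases key 1 with h1 | h1 <;> rcases key 2 with h2 | h2
  all_goals first
    | exact absurd (inj _ _ (h0.trans h1.symm)) (by decide)
    | exact absurd (inj _ _ (h0.trans h2.symm)) (by decide)
    | exact absurd (inj _ _ (h1.trans h2.symm)) (by decide)

theorem all_points (H : Subgroup PGL(2, F)) (hH : ¬ p ∣ Nat.card H)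
    (h : ∀ x : P1 F, ∃ g ∈ H, g • x = x ∧ g ^ 2 ≠ 1 ∧ g ^ 3 ≠ 1 ∧ g ^ 5 ≠ 1) :
    3 ∣ Nat.card F + 1 := by
  have hinj : Function.Injective ![P1.inf F, P1.pt 0, P1.pt 1] := by
    intro i j hij
    fin_cases i <;> fin_cases j <;>
      first
        | rfl
        | exact absurd hij (P1.inf_ne_pt _)
        | exact absurd hij (P1.pt_ne_inf _)
        | exact absurd hij pt_zero_ne_pt_one
        | exact absurd hij pt_zero_ne_pt_one.symm
  rcases three_points p H hH _ hinj (fun i => (h _).imp fun g hg => ⟨hg.1, hg.2.1, hg.2.2.1⟩)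
    with h1 | ⟨h1, h2⟩
  · obtain ⟨g, hg, -, a, b, c⟩ := h (P1.inf F)
    rcases h1 g hg with e | e | e <;> contradiction
  by_contra h3
  have : Fact (Nat.Prime 3) := ⟨by norm_num⟩
  obtain ⟨t, ht⟩ := exists_prime_orderOf_dvd_card' (G := H) 3 (by rw [h1]; norm_num)
  have ht' : orderOf (t : PGL(2, F)) = 3 := by rw [Subgroup.orderOf_coe, ht]
  have hP : IsPGroup 3 (Subgroup.zpowers (t : PGL(2, F))) :=
    IsPGroup.of_card (n := 1) (by rw [Nat.card_zpowers, ht', pow_one])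
  have : Finite (P1 F) := Nat.finite_of_card_ne_zero (by rw [P1.card_eq]; omega)
  obtain ⟨x, hx⟩ := hP.nonempty_fixed_point_of_prime_not_dvd_card (P1 F)
    (by rw [P1.card_eq]; exact h3)
  have hx' : (t : PGL(2, F)) • x = x := hx ⟨_, Subgroup.mem_zpowers _⟩
  obtain ⟨g, hg, hgx, -, b, -⟩ := h x
  have hc : Commute (t : PGL(2, F)) g := (tame_cases p H hH).1 _ t.2 g hg x hx' hgx
  have ht3 : (t : PGL(2, F)) ^ 3 = 1 := ht' ▸ pow_orderOf_eq_one _
  have hg4 := (h2 g hg).resolve_left b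
  rcases h2 _ (H.mul_mem t.2 hg) with e | e
  · rw [hc.mul_pow, ht3, one_mul] at e
    exact b e
  · rw [hc.mul_pow, hg4, mul_one, pow_succ, ht3, one_mul] at e
    rw [e, orderOf_one] at ht'
    omega

end PGL

section Vec

variable {p : ℕ} [hp : Fact p.Prime] {V : Type*} [Group V] [ElemAb p V]

/-- Coordinates with respect to a basis. -/
theorem exists_coord (b : Module.Basis (Fin 2) (ZMod p) (Vec p V)) :
    ∃ e : MulAut V ≃* GL (Fin 2) (ZMod p), ∀ (σ : MulAut V) (v : V),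
      (e σ : Matrix (Fin 2) (Fin 2) (ZMod p)) *ᵥ b.equivFun (Vec.ofMul p v) =
        b.equivFun (Vec.ofMul p (σ v)) := by
  refine ⟨(Vec.autEquiv p V).trans ((LinearMap.GeneralLinearGroup.generalLinearEquiv _ _).symm.trans
    (Matrix.GeneralLinearGroup.toLin' b).symm), fun σ v => ?_⟩
  set M := ((Vec.autEquiv p V).trans
    ((LinearMap.GeneralLinearGroup.generalLinearEquiv _ _).symm.trans
    (Matrix.GeneralLinearGroup.toLin' b).symm)) σ with hM
  have h1 := Matrix.GeneralLinearGroup.toLin'_apply b M (Vec.ofMul p v)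
  have h2 : Matrix.GeneralLinearGroup.toLin' b M =
      (LinearMap.GeneralLinearGroup.generalLinearEquiv _ _).symm (Vec.autEquiv p V σ) := by
    rw [hM]; simp
  rw [h2] at h1
  have h3 : Vec.ofMul p (σ v) = Fintype.linearCombination (ZMod p) b
      ((M : Matrix (Fin 2) (Fin 2) (ZMod p)) *ᵥ (b.repr (Vec.ofMul p v))) := h1
  rw [h3, Fintype.linearCombination_apply, ← Module.Basis.equivFun_symm_apply,
    LinearEquiv.apply_symm_apply, Module.Basis.equivFun_apply]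

/-- `σ` is a power map. -/
def Scal (σ : MulAut V) : Prop := ∃ c : ℕ, ∀ v, σ v = v ^ c

/-- The projective model of the action of `Aut V` on the subgroups of order `p`. -/
theorem exists_proj [Finite V] (hV : Nat.card V = p ^ 2) :
    ∃ (π : MulAut V →* PGL(2, ZMod p)) (pt : ∀ v : V, v ≠ 1 → P1 (ZMod p)),
      (∀ σ, π σ = 1 → Scal σ) ∧
      (∀ v hv w hw, pt v hv = pt w hw ↔ w ∈ Subgroup.zpowers v) ∧
      (∀ σ v hv hw, π σ • pt v hv = pt (σ v) hw) ∧ ∀ x, ∃ v hv, pt v hv = x := by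
  let b := Module.finBasisOfFinrankEq (ZMod p) (Vec p V) (Vec.finrank_eq_of_card hV)
  obtain ⟨e, he⟩ := exists_coord b
  have hne : ∀ v : V, v ≠ 1 → b.equivFun (Vec.ofMul p v) ≠ 0 := fun v hv h =>
    hv (Vec.ofMul_eq_zero.1 ((LinearEquiv.map_eq_zero_iff _).1 h))
  refine ⟨ProjGenLinGroup.mk.comp e.toMonoidHom,
    fun v hv => Projectivization.mk _ _ (hne v hv), fun σ hσ => ?_, fun v hv w hw => ?_,
    fun σ v hv hw => ?_, fun x => ?_⟩
  · have h1 : ProjGenLinGroup.mk (e σ) = 1 := hσ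
    rw [mk_eq_mob, mob_eq_one_iff] at h1
    refine ⟨((e σ).1 0 0).val, fun v => ?_⟩
    apply (Vec.ofMul p).injective
    apply b.equivFun.injective
    rw [← he, ← Vec.smul_ofMul, map_smul]
    ext i
    fin_cases i <;> simp [mulVec, dotProduct, Fin.sum_univ_two, h1.1, h1.2.1, h1.2.2]
  · rw [eq_comm, Projectivization.mk_eq_mk_iff']
    constructor
    · rintro ⟨a, ha⟩
      rw [← map_smul, Vec.smul_ofMul] at ha
      rw [← (Vec.ofMul p).injective (b.equivFun.injective ha)]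
      exact Subgroup.pow_mem _ (Subgroup.mem_zpowers v) _
    · rintro ⟨k, rfl⟩
      exact ⟨(k : ZMod p), by
        rw [← map_smul, Int.cast_smul_eq_zsmul]; rfl⟩
  · have : (ProjGenLinGroup.mk.comp e.toMonoidHom) σ = ProjGenLinGroup.mk (e σ) := rfl
    rw [this, mk_eq_mob, mob_smul_mk]
    congr 1
    rw [← he]
    ext i
    fin_cases i <;> simp [mulVec, dotProduct, Fin.sum_univ_two]
  · induction x using Projectivization.ind with
    | h v hv =>
      refine ⟨Vec.toMul (b.equivFun.symm v), fun h => hv ?_, by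
        simp only [Vec.ofMul_toMul, LinearEquiv.apply_symm_apply]⟩
      rwa [Vec.toMul_eq_one, LinearEquiv.map_eq_zero_iff] at h

variable [Finite V] {W : Type*} [Group W]

omit hp [ElemAb p V] [Finite V] in
theorem not_dvd_range (φ : W →* MulAut V) (hW : ¬ p ∣ Nat.card φ.range)
    (π : MulAut V →* PGL(2, ZMod p)) : ¬ p ∣ Nat.card (π.comp φ).range := by
  rw [← MonoidHom.map_range]
  exact fun h => hW (h.trans (Subgroup.card_map_dvd _ _))

/-- Three lines fixed by elements whose squares are not scalar. -/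
theorem three_lines (hV : Nat.card V = p ^ 2) (φ : W →* MulAut V) (hW : ¬ p ∣ Nat.card φ.range)
    (v : Fin 3 → V) (hv : ∀ i, v i ≠ 1) (hinj : ∀ i j, v j ∈ Subgroup.zpowers (v i) → i = j)
    (h : ∀ i, ∃ w, φ w (v i) ∈ Subgroup.zpowers (v i) ∧ ¬ Scal (φ w ^ 2)) (w : W) :
    Scal (φ w ^ 2) ∨ Scal (φ w ^ 3) ∨ Scal (φ w ^ 4) ∨ Scal (φ w ^ 5) := by
  obtain ⟨π, pt, h1, h2, h3, -⟩ := exists_proj (p := p) hV
  have hne : ∀ (σ : MulAut V) (v : V), v ≠ 1 → σ v ≠ 1 := fun σ v hv h =>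
    hv ((map_eq_one_iff σ σ.injective).1 h)
  have key := three_points p (π.comp φ).range (not_dvd_range φ hW π) (fun i => pt (v i) (hv i))
    (fun i j e => hinj i j ((h2 _ _ _ _).1 e)) (fun i => by
      obtain ⟨w, a, b⟩ := h i
      refine ⟨_, ⟨w, rfl⟩, ?_, fun e => b (h1 _ (by rw [map_pow]; exact e))⟩
      exact (h3 (φ w) _ _ (hne _ _ (hv i))).trans ((h2 _ _ _ _).2 a).symm)
  have l : ∀ k, (π.comp φ) w ^ k = 1 → Scal (φ w ^ k) := fun k e =>
    h1 _ (by rw [map_pow]; exact e)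
  rcases key with key | ⟨-, key⟩
  · rcases key _ ⟨w, rfl⟩ with e | e | e
    · exact Or.inl (l _ e)
    · exact Or.inr (Or.inl (l _ e))
    · exact Or.inr (Or.inr (Or.inr (l _ e)))
  · rcases key _ ⟨w, rfl⟩ with e | e
    · exact Or.inr (Or.inl (l _ e))
    · exact Or.inr (Or.inr (Or.inl (l _ e)))

theorem all_lines (hV : Nat.card V = p ^ 2) (φ : W →* MulAut V) (hW : ¬ p ∣ Nat.card φ.range)
    (h : ∀ v : V, v ≠ 1 → ∃ w, φ w v ∈ Subgroup.zpowers v ∧ ¬ Scal (φ w ^ 2) ∧ ¬ Scal (φ w ^ 3) ∧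
      ¬ Scal (φ w ^ 5)) : 3 ∣ p + 1 := by
  obtain ⟨π, pt, h1, h2, h3, h4⟩ := exists_proj (p := p) hV
  have hne : ∀ (σ : MulAut V) (v : V), v ≠ 1 → σ v ≠ 1 := fun σ v hv h =>
    hv ((map_eq_one_iff σ σ.injective).1 h)
  have key := all_points p (π.comp φ).range (not_dvd_range φ hW π) (fun x => by
    obtain ⟨v, hv, rfl⟩ := h4 x
    obtain ⟨w, a, b, c, d⟩ := h v hv
    have l : ∀ k, (π.comp φ) w ^ k = 1 → Scal (φ w ^ k) := fun k e =>
      h1 _ (by rw [map_pow]; exact e)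
    exact ⟨_, ⟨w, rfl⟩, (h3 (φ w) _ _ (hne _ _ hv)).trans ((h2 _ _ _ _).2 a).symm,
      fun e => b (l _ e), fun e => c (l _ e), fun e => d (l _ e)⟩)
  rwa [Nat.card_zmod] at key

end Vec

end Cfsg.Lib.TameGL2
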