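import Cfsg.Agent.Local.BaerSuzuki
import Cfsg.Agent.Char.Burnside

/-!
Group-theoretic and ring-theoretic lemmas for the `P(G,V)`-theorem.
-/

set_option autoImplicit false

open Subgroup

namespace Cfsg.Lib.PGV

section Grp
variable {G : Type*} [Group G]

/-- `K` normalises `M`. -/
def Nz (K M : Subgroup G) : Prop := ∀ x ∈ K, ∀ m ∈ M, x * m * x⁻¹ ∈ M

/-- `K` is perfect. -/
def Pf (K : Subgroup G) : Prop :=
  ∀ M : Subgroup G, (∀ x ∈ K, ∀ y ∈ K, x * y * x⁻¹ * y⁻¹ ∈ M) → K ≤ M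

/-- `K` is perfect and its proper normal subgroups are central. -/
structure QS (K : Subgroup G) : Prop where
  pf : Pf K
  simp : ∀ M : Subgroup G, Nz K M → K ≤ M ∨ ∀ x ∈ K, x ∈ M → ∀ y ∈ K, x * y = y * x

variable {K M : Subgroup G}

theorem Pf.le_of_comm (h : Pf K) (hM : Nz K M)
    (ht : ∀ x ∈ K, ∃ t, (∀ y ∈ K, y * t = t * y) ∧ x * t ∈ M) : K ≤ M := by
  refine h M fun y hy x hx => ?_
  obtain ⟨t, h1, h2⟩ := ht x hx
  have h3 := M.mul_mem (hM y hy _ h2) (M.inv_mem h2)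
  have h4 : y * (x * t) * y⁻¹ * (x * t)⁻¹ = y * x * y⁻¹ * x⁻¹ := by
    have : t * y⁻¹ = y⁻¹ * t := (h1 _ (K.inv_mem hy)).symm
    calc y * (x * t) * y⁻¹ * (x * t)⁻¹ = y * x * (t * y⁻¹) * t⁻¹ * x⁻¹ := by group
      _ = _ := by rw [this]; group
  rwa [h4] at h3

theorem QS.le_of_comm_mem (h : QS K) {b : G} (hb : ∀ x ∈ K, b * x * b⁻¹ ∈ K)
    (hbK : ¬ ∀ x ∈ K, b * x = x * b) (hM : Nz K M)
    (hc : ∀ x ∈ K, x * b * x⁻¹ * b⁻¹ ∈ M) : K ≤ M := by
  refine (h.simp M hM).resolve_right fun hz => hbK fun x hx => ?_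
  have key : ∀ y ∈ K, ∃ z, (∀ w ∈ K, z * w = w * z) ∧ z ∈ K ∧ b * y * b⁻¹ = y * z := by
    intro y hy
    have hK : y⁻¹ * b * y⁻¹⁻¹ * b⁻¹ ∈ K := by
      have := K.mul_mem (K.inv_mem hy) (hb y hy)
      simpa [mul_assoc] using this
    exact ⟨_, hz _ hK (hc _ (K.inv_mem hy)), hK, by group⟩
  have := h.pf (centralizer {b}) (fun x hx y hy => by
    obtain ⟨z, hz1, hz2, hz3⟩ := key x hx
    obtain ⟨w, hw1, -, hw3⟩ := key y hy
    rw [mem_centralizer_singleton_iff]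
    have e1 : b * (x * y * x⁻¹ * y⁻¹) * b⁻¹ =
        (b * x * b⁻¹) * (b * y * b⁻¹) * (b * x * b⁻¹)⁻¹ * (b * y * b⁻¹)⁻¹ := by group
    have e2 : z * y = y * z := hz1 y hy
    have e3 : w * z = z * w := hw1 z hz2
    have e4 : w * x⁻¹ = x⁻¹ * w := hw1 _ (K.inv_mem hx)
    have e5 : (x * z) * (y * w) * (x * z)⁻¹ * (y * w)⁻¹ = x * y * x⁻¹ * y⁻¹ := by
      calc (x * z) * (y * w) * (x * z)⁻¹ * (y * w)⁻¹
          = x * (z * y) * w * z⁻¹ * x⁻¹ * w⁻¹ * y⁻¹ := by group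
        _ = x * y * (z * w) * z⁻¹ * x⁻¹ * w⁻¹ * y⁻¹ := by rw [e2]; group
        _ = x * y * (w * x⁻¹) * w⁻¹ * y⁻¹ := by rw [← e3]; group
        _ = _ := by rw [e4]; group
    rw [hz3, hw3, e5] at e1
    calc x * y * x⁻¹ * y⁻¹ * b = (b * (x * y * x⁻¹ * y⁻¹) * b⁻¹) * b := by rw [e1]
      _ = _ := by group) hx
  exact (mem_centralizer_singleton_iff.mp this).symm

theorem Pf.le_of_pow [Finite G] (h : Pf K) (hM : Nz K M) {p q : ℕ} (hp : p.Prime) (hq : q.Prime)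
    (hx : ∀ x ∈ K, ∃ i j : ℕ, x ^ (p ^ i * q ^ j) ∈ M) : K ≤ M := by
  have hn : (M.subgroupOf K).Normal := ⟨fun m hm x => hM x x.2 m hm⟩
  have hsol : Group.IsSolvable (K ⧸ M.subgroupOf K) := by
    refine Char.isSolvable_of_prime_dvd_card hp hq _ fun r hr hd => ?_
    have := Fact.mk hr
    obtain ⟨y, hy⟩ := exists_prime_orderOf_dvd_card' r hd
    obtain ⟨x, rfl⟩ := QuotientGroup.mk_surjective y
    obtain ⟨i, j, hij⟩ := hx x x.2
    have h1 : (QuotientGroup.mk x : K ⧸ M.subgroupOf K) ^ (p ^ i * q ^ j) = 1 := by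
      rw [← QuotientGroup.mk_pow, QuotientGroup.eq_one_iff]
      exact hij
    have h2 : r ∣ p ^ i * q ^ j := hy ▸ orderOf_dvd_of_pow_eq_one h1
    rcases (Nat.Prime.dvd_mul hr).mp h2 with h3 | h3
    · exact Or.inl ((Nat.prime_dvd_prime_iff_eq hr hp).mp (hr.dvd_of_dvd_pow h3))
    · exact Or.inr ((Nat.prime_dvd_prime_iff_eq hr hq).mp (hr.dvd_of_dvd_pow h3))
  have hsub : Subsingleton (K ⧸ M.subgroupOf K) := by
    by_contra hnt
    rw [not_subsingleton_iff_nontrivial] at hnt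
    refine (Group.IsSolvable.commutator_lt_top_of_nontrivial (K ⧸ M.subgroupOf K)).ne ?_
    rw [eq_top_iff]
    rintro y -
    obtain ⟨x, rfl⟩ := QuotientGroup.mk_surjective y
    have := h (((_root_.commutator (K ⧸ M.subgroupOf K)).comap (QuotientGroup.mk' _)).map K.subtype)
      (fun a ha b hb => ⟨⟨a, ha⟩ * ⟨b, hb⟩ * ⟨a, ha⟩⁻¹ * ⟨b, hb⟩⁻¹, by
        rw [SetLike.mem_coe, mem_comap, map_mul, map_mul, map_mul, map_inv, map_inv]
        exact commutator_mem_commutator (mem_top _) (mem_top _), rfl⟩) x.2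
    obtain ⟨x', hx', he⟩ := this
    have : x' = x := Subtype.ext he
    subst this
    exact hx'
  intro x hx
  have : (QuotientGroup.mk ⟨x, hx⟩ : K ⧸ M.subgroupOf K) = 1 := Subsingleton.elim _ _
  exact (QuotientGroup.eq_one_iff (N := M.subgroupOf K) (⟨x, hx⟩ : K)).mp this

theorem isPGroup_closure_pair {H : Type*} [Group H] {s t : H} (hs : s * s = 1) (ht : t * t = 1)
    {k : ℕ} (h : (s * t) ^ 2 ^ k = 1) : IsPGroup 2 (closure ({s, t} : Set H)) := by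
  have h1 : IsPGroup 2 (zpowers (s * t)) := by
    rintro ⟨_, n, rfl⟩
    exact ⟨k, Subtype.ext (by
      change ((s * t) ^ n) ^ 2 ^ k = 1
      rw [← zpow_natCast, ← zpow_mul, mul_comm, zpow_mul, zpow_natCast, h, one_zpow])⟩
  have h2 : IsPGroup 2 (zpowers s) := by
    rintro ⟨_, n, rfl⟩
    exact ⟨1, Subtype.ext (by
      change (s ^ n) ^ 2 ^ 1 = 1
      rw [← zpow_natCast, ← zpow_mul, mul_comm, zpow_mul, zpow_natCast, pow_one, pow_two, hs,
        one_zpow])⟩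
  have hsi : s⁻¹ = s := inv_eq_of_mul_eq_one_right hs
  have hti : t⁻¹ = t := inv_eq_of_mul_eq_one_right ht
  have hc : s * (s * t) * s⁻¹ = (s * t)⁻¹ := by
    rw [mul_inv_rev, hsi, hti, ← mul_assoc, hs, one_mul]
  have h3 : zpowers s ≤ normalizer (zpowers (s * t) : Set H) := by
    rw [zpowers_le, mem_normalizer_iff]
    have key : ∀ y ∈ zpowers (s * t), s * y * s⁻¹ ∈ zpowers (s * t) := by
      rintro _ ⟨n, rfl⟩
      change s * (s * t) ^ n * s⁻¹ ∈ _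
      rw [← conj_zpow, hc]
      exact zpow_mem (inv_mem (mem_zpowers _)) n
    refine fun y => ⟨key y, fun hy => ?_⟩
    have := key _ hy
    rwa [show s * (s * y * s⁻¹) * s⁻¹ = y by
      rw [hsi, ← mul_assoc, ← mul_assoc, hs, one_mul, mul_assoc, hs, mul_one]] at this
  refine (IsPGroup.to_sup_of_normal_right' h2 h1 h3).to_le ?_
  rw [closure_le]
  rintro x (rfl | rfl)
  · exact mem_sup_left (mem_zpowers _)
  · have := mul_mem (mem_sup_left (T := zpowers (s * x)) (mem_zpowers s))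
      (mem_sup_right (mem_zpowers (s * x)))
    rwa [← mul_assoc, hs, one_mul] at this

/-- An involution acting non-trivially on `K` inverts a non-central element of odd order. -/
theorem QS.exists_inverted [Finite G] (h : QS K) {b : G} (hb2 : b * b = 1)
    (hb : b ∈ normalizer (K : Set G)) (hbK : ¬ ∀ x ∈ K, b * x = x * b)
    (hK : ¬ ∀ x ∈ K, ∀ y ∈ K, x * y = y * x) :
    ∃ c ∈ K, Odd (orderOf c) ∧ b * c * b⁻¹ = c⁻¹ ∧ ¬ ∀ y ∈ K, c * y = y * c := by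
  by_contra hno
  push Not at hno
  have hbi : b⁻¹ = b := inv_eq_of_mul_eq_one_right hb2
  have hb' : ∀ x ∈ K, b * x * b⁻¹ ∈ K := fun x hx => (mem_normalizer_iff.mp hb x).mp hx
  have hcK : ∀ x ∈ K, x * b * x⁻¹ * b⁻¹ ∈ K := fun x hx => by
    have := K.mul_mem hx (hb' _ (K.inv_mem hx))
    simpa [mul_assoc] using this
  -- a 2-power of every commutator is central in `K`
  have hpow : ∀ x ∈ K, ∃ k : ℕ, ∀ y ∈ K,
      (x * b * x⁻¹ * b⁻¹) ^ 2 ^ k * y = y * (x * b * x⁻¹ * b⁻¹) ^ 2 ^ k := by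
    intro x hx
    set c := x * b * x⁻¹ * b⁻¹ with hc
    obtain ⟨k, m, hm, hkm⟩ := Nat.exists_eq_two_pow_mul_odd (orderOf_pos c).ne'
    refine ⟨k, hno _ (K.pow_mem (hcK x hx) _) ?_ ?_⟩
    · rw [orderOf_pow_of_dvd (by positivity) ⟨m, hkm⟩, hkm, Nat.mul_div_cancel_left _ (by positivity)]
      exact hm
    · rw [← conj_pow, ← inv_pow]
      congr 1
      rw [hc, hbi]
      calc b * (x * b * x⁻¹ * b) * b = b * x * b * x⁻¹ * (b * b) := by group
        _ = b⁻¹⁻¹ * x * b⁻¹ * x⁻¹ := by rw [hb2, hbi, hbi, mul_one]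
        _ = (x * b * x⁻¹ * b⁻¹)⁻¹ := by group
        _ = _ := by rw [hbi]
  let ψ := K.normalizerMonoidHom
  let ι : K →* MulAut K := MulAut.conj
  have hψ : ∀ x : K, ψ ⟨x, le_normalizer x.2⟩ = ι x := fun x => by ext y; rfl
  let β : MulAut K := ψ ⟨b, hb⟩
  have hβ : β * β = 1 := by
    rw [← map_mul, ← map_one ψ]
    exact congrArg ψ (Subtype.ext hb2)
  let H : Subgroup (MulAut K) := ι.range ⊔ zpowers β
  have hrn : ι.range.Normal := ⟨by
    rintro _ ⟨x, rfl⟩ σ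
    exact ⟨σ x, by ext y; simp [ι]⟩⟩
  let β' : H := ⟨β, mem_sup_right (mem_zpowers _)⟩
  have hP : IsPGroup 2 (normalClosure ({β'} : Set H)) := by
    refine Local.baer_suzuki_elem β' fun g => ?_
    have hβ' : β' * β' = 1 := Subtype.ext hβ
    obtain ⟨_, ⟨x, rfl⟩, _, ⟨n, rfl⟩, hg⟩ := mem_sup_of_normal_left.mp g.2
    obtain ⟨k, hk⟩ := hpow x x.2
    rw [Set.pair_comm]
    refine isPGroup_closure_pair (k := k) (by
      calc g * β' * g⁻¹ * (g * β' * g⁻¹) = g * (β' * β') * g⁻¹ := by group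
        _ = 1 := by rw [hβ']; group) hβ' (Subtype.ext ?_)
    have e1 : (g : MulAut K) * β * (g : MulAut K)⁻¹ * β =
        ι ⟨x * b * x⁻¹ * b⁻¹, hcK x x.2⟩ := by
      rw [← hψ]
      have e2 : (⟨_, le_normalizer (hcK x x.2)⟩ : normalizer (K : Set G)) =
          ⟨x, le_normalizer x.2⟩ * ⟨b, hb⟩ * ⟨x, le_normalizer x.2⟩⁻¹ * ⟨b, hb⟩⁻¹ := rfl
      change _ = ψ ⟨_, le_normalizer (hcK x x.2)⟩
      rw [e2, map_mul, map_mul, map_mul, map_inv, map_inv, hψ, ← hg]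
      change ι x * β ^ n * β * (ι x * β ^ n)⁻¹ * β = ι x * β * (ι x)⁻¹ * β⁻¹
      rw [inv_eq_of_mul_eq_one_right hβ]
      group
    change ((g : MulAut K) * β * (g : MulAut K)⁻¹ * β) ^ 2 ^ k = 1
    rw [e1, ← map_pow]
    ext y
    have := hk y y.2
    simp only [ι, MulAut.conj_apply, MulAut.one_apply, Subgroup.coe_mul, SubmonoidClass.coe_pow,
      InvMemClass.coe_inv]
    rw [this, mul_inv_cancel_right]
  let ι' : K →* H := ι.codRestrict H fun x => mem_sup_left ⟨x, rfl⟩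
  have hKM : K ≤ ((normalClosure ({β'} : Set H)).comap ι').map K.subtype := by
    refine h.le_of_comm_mem hb' hbK ?_ fun x hx => ⟨⟨_, hcK x hx⟩, ?_, rfl⟩
    · rintro x hx _ ⟨m, hm, rfl⟩
      refine ⟨⟨x, hx⟩ * m * ⟨x, hx⟩⁻¹, ?_, rfl⟩
      rw [SetLike.mem_coe, mem_comap, map_mul, map_mul, map_inv]
      exact normalClosure_normal.conj_mem _ hm _
    · have e : ι' ⟨_, hcK x hx⟩ = ι' ⟨x, hx⟩ * β' * (ι' ⟨x, hx⟩)⁻¹ * β'⁻¹ := by
        apply Subtype.ext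
        change ι ⟨_, hcK x hx⟩ = ι ⟨x, hx⟩ * ψ ⟨b, hb⟩ * (ι ⟨x, hx⟩)⁻¹ * (ψ ⟨b, hb⟩)⁻¹
        rw [← hψ, ← hψ, ← map_inv, ← map_inv, ← map_mul, ← map_mul, ← map_mul]
        rfl
      rw [SetLike.mem_coe, mem_comap, e]
      have hβm : β' ∈ normalClosure ({β'} : Set H) := subset_normalClosure rfl
      exact mul_mem (normalClosure_normal.conj_mem _ hβm _) (inv_mem hβm)
  have hC : K ≤ centralizer (K : Set G) := by
    refine h.pf.le_of_pow (fun x hx m hm y hy => ?_) Nat.prime_two Nat.prime_two fun x hx => ?_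
    · have h1 : x⁻¹ * y * x * m = m * (x⁻¹ * y * x) :=
        hm _ (K.mul_mem (K.mul_mem (K.inv_mem hx) hy) hx)
      calc y * (x * m * x⁻¹) = x * (x⁻¹ * y * x * m) * x⁻¹ := by group
        _ = _ := by rw [h1]; group
    · obtain ⟨x', hx', he⟩ := hKM hx
      obtain ⟨k, hk⟩ := hP ⟨ι' x', hx'⟩
      refine ⟨k, 0, fun y hy => ?_⟩
      have h1 : ι (x' ^ 2 ^ k) = 1 := by
        rw [map_pow]
        exact congrArg (fun z : normalClosure ({β'} : Set H) => ((z : H) : MulAut K)) hk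
      have h2 := congrArg (fun σ : MulAut K => (σ ⟨y, hy⟩ : G)) h1
      simp only [ι, MulAut.conj_apply, MulAut.one_apply, Subgroup.coe_mul, SubmonoidClass.coe_pow,
        InvMemClass.coe_inv] at h2
      have h3 : (x' : G) = x := he
      rw [h3] at h2
      rw [pow_zero, mul_one]
      calc y * x ^ 2 ^ k = (x ^ 2 ^ k * y * (x ^ 2 ^ k)⁻¹) * x ^ 2 ^ k := by rw [h2]
        _ = _ := by group
  obtain ⟨x, hx, y, hy, hxy⟩ : ∃ x ∈ K, ∃ y ∈ K, x * y ≠ y * x := by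
    by_contra hc
    push Not at hc
    exact hK hc
  exact hxy (hC hy x hx)

end Grp

section Rng
variable {G : Type*} [Group G] {R : Type*} [Ring R] (ρ : G →* R)

/-- Left stabiliser of a ring element. -/
def stabL (T : R) : Subgroup G where
  carrier := {g | ρ g * T = T}
  mul_mem' {a b} ha hb := by
    change ρ (a * b) * T = T
    rw [map_mul, mul_assoc, hb, ha]
  one_mem' := by change ρ 1 * T = T; rw [map_one, one_mul]
  inv_mem' {a} ha := by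
    change ρ a⁻¹ * T = T
    conv_lhs => rw [← ha]
    rw [← mul_assoc, ← map_mul, inv_mul_cancel, map_one, one_mul]

/-- Right stabiliser of a ring element. -/
def stabR (T : R) : Subgroup G where
  carrier := {g | T * ρ g = T}
  mul_mem' {a b} ha hb := by
    change T * ρ (a * b) = T
    rw [map_mul, ← mul_assoc, ha, hb]
  one_mem' := by change T * ρ 1 = T; rw [map_one, mul_one]
  inv_mem' {a} ha := by
    change T * ρ a⁻¹ = T
    conv_lhs => rw [← ha]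
    rw [mul_assoc, ← map_mul, mul_inv_cancel, map_one, mul_one]

/-- Elements whose image commutes with the image of `K`. -/
def cen (K : Subgroup G) : Subgroup G where
  carrier := {g | ∀ y ∈ K, ρ g * ρ y = ρ y * ρ g}
  mul_mem' {a b} ha hb y hy := by
    rw [map_mul, mul_assoc, hb y hy, ← mul_assoc, ha y hy, mul_assoc]
  one_mem' y _ := by rw [map_one, mul_one, one_mul]
  inv_mem' {a} ha y hy := by
    calc ρ a⁻¹ * ρ y = ρ a⁻¹ * (ρ y * ρ a) * ρ a⁻¹ := by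
          rw [mul_assoc, mul_assoc, ← map_mul ρ a, mul_inv_cancel, map_one, mul_one]
      _ = _ := by rw [← ha y hy, ← mul_assoc, ← map_mul, inv_mul_cancel, map_one, one_mul]

/-- `(g - 1)(h - 1) = 0`. -/
def Z (g h : G) : Prop := (ρ g - 1) * (ρ h - 1) = 0

variable {ρ}

theorem mem_stabL {T : R} {g : G} : g ∈ stabL ρ T ↔ ρ g * T = T := Iff.rfl
theorem mem_stabR {T : R} {g : G} : g ∈ stabR ρ T ↔ T * ρ g = T := Iff.rfl

theorem mem_stabL' {T : R} {g : G} : g ∈ stabL ρ T ↔ (ρ g - 1) * T = 0 := by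
  rw [mem_stabL, sub_mul, one_mul, sub_eq_zero]

theorem mem_stabR' {T : R} {g : G} : g ∈ stabR ρ T ↔ T * (ρ g - 1) = 0 := by
  rw [mem_stabR, mul_sub, mul_one, sub_eq_zero]

theorem Z_iff_L {g h : G} : Z ρ g h ↔ g ∈ stabL ρ (ρ h - 1) := mem_stabL'.symm
theorem Z_iff_R {g h : G} : Z ρ g h ↔ h ∈ stabR ρ (ρ g - 1) := mem_stabR'.symm

theorem inv_mul_self (g : G) : ρ g⁻¹ * ρ g = 1 := by rw [← map_mul, inv_mul_cancel, map_one]
theorem mul_inv_self (g : G) : ρ g * ρ g⁻¹ = 1 := by rw [← map_mul, mul_inv_cancel, map_one]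

theorem comm_inv {s : G} {T : R} (h : ρ s * T = T * ρ s) : ρ s⁻¹ * T = T * ρ s⁻¹ := by
  calc ρ s⁻¹ * T = ρ s⁻¹ * (T * ρ s) * ρ s⁻¹ := by
        rw [mul_assoc, mul_assoc, mul_inv_self, mul_one]
    _ = _ := by rw [← h, ← mul_assoc, inv_mul_self, one_mul]

theorem conj_mem_stabL {s m : G} {T : R} (h : ρ s * T = T * ρ s) (hm : m ∈ stabL ρ T) :
    s * m * s⁻¹ ∈ stabL ρ T := by
  rw [mem_stabL, map_mul, map_mul, mul_assoc, comm_inv h, mul_assoc, ← mul_assoc (ρ m), hm,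
    ← mul_assoc, h, mul_assoc, mul_inv_self, mul_one]

theorem conj_mem_stabR {s m : G} {T : R} (h : ρ s * T = T * ρ s) (hm : m ∈ stabR ρ T) :
    s * m * s⁻¹ ∈ stabR ρ T := by
  rw [mem_stabR, map_mul, map_mul, ← mul_assoc, ← mul_assoc, ← h, mul_assoc (ρ s), hm, h,
    mul_assoc, mul_inv_self, mul_one]

theorem comm_sub_one {s g : G} (h : s * g = g * s) : ρ s * (ρ g - 1) = (ρ g - 1) * ρ s := by
  rw [mul_sub, sub_mul, ← map_mul, ← map_mul, h, mul_one, one_mul]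

theorem Z.symm {g h : G} (hc : g * h = h * g) (H : Z ρ g h) : Z ρ h g := by
  unfold Z at *
  rw [sub_mul, comm_sub_one hc.symm, one_mul, ← H, mul_sub, mul_one]

theorem conj_sub_one (s g : G) : ρ (s * g * s⁻¹) - 1 = ρ s * (ρ g - 1) * ρ s⁻¹ := by
  rw [mul_sub, sub_mul, mul_one, mul_inv_self, map_mul, map_mul]

theorem Z.conj {g h : G} (H : Z ρ g h) (s : G) : Z ρ (s * g * s⁻¹) (s * h * s⁻¹) := by
  unfold Z at *
  rw [conj_sub_one, conj_sub_one]
  calc _ = ρ s * (ρ g - 1) * (ρ s⁻¹ * ρ s) * (ρ h - 1) * ρ s⁻¹ := by simp only [mul_assoc]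
    _ = ρ s * ((ρ g - 1) * (ρ h - 1)) * ρ s⁻¹ := by
      rw [inv_mul_self]; simp only [mul_assoc, one_mul]
    _ = 0 := by rw [H, mul_zero, zero_mul]

variable {K : Subgroup G}

theorem nz_cen : Nz K (cen ρ K) := by
  intro x hx m hm y hy
  have h1 := hm _ (K.mul_mem (K.mul_mem (K.inv_mem hx) hy) hx)
  rw [← map_mul, ← map_mul] at h1 ⊢
  calc ρ (x * m * x⁻¹ * y) = ρ x * ρ (m * (x⁻¹ * y * x)) * ρ x⁻¹ := by
        rw [← map_mul, ← map_mul]; congr 1; group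
    _ = _ := by rw [h1, ← map_mul, ← map_mul]; congr 1; group

theorem Pf.eq_one_of_le_cen (h : Pf K) (hc : K ≤ cen ρ K) : ∀ x ∈ K, ρ x = 1 := by
  intro x hx
  have := h (stabL ρ 1) (fun x hx y hy => by
    rw [mem_stabL, mul_one, map_mul, map_mul, map_mul, hc hx y hy, mul_assoc (ρ y), mul_inv_self,
      mul_one, mul_inv_self]) hx
  rwa [mem_stabL, mul_one] at this

theorem Pf.le_stabL (h : Pf K) {T : R} (hT : ∀ x ∈ K, ∀ y ∈ K, (ρ x - 1) * ((ρ y - 1) * T) = 0) :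
    K ≤ stabL ρ T := by
  have key : ∀ x ∈ K, ∀ y ∈ K, ρ x * (ρ y * T) = ρ y * (ρ x * T) := by
    intro x hx y hy
    have h1 := hT x hx y hy
    have h2 := hT y hy x hx
    have h3 : ρ x * (ρ y * T) - ρ y * (ρ x * T) =
        (ρ x - 1) * ((ρ y - 1) * T) - (ρ y - 1) * ((ρ x - 1) * T) := by noncomm_ring
    rw [h1, h2, sub_zero] at h3
    exact sub_eq_zero.mp h3
  refine h _ fun x hx y hy => ?_
  rw [mem_stabL, map_mul, map_mul, map_mul, mul_assoc, mul_assoc,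
    key _ (K.inv_mem hx) _ (K.inv_mem hy), mul_assoc, ← mul_assoc (ρ y), mul_inv_self, one_mul,
    ← mul_assoc, mul_inv_self, one_mul]

theorem Pf.eq_one_of_Z (h : Pf K) (hT : ∀ x ∈ K, ∀ y ∈ K, Z ρ x y) : ∀ x ∈ K, ρ x = 1 := by
  intro x hx
  have := h.le_stabL (ρ := ρ) (T := 1) (fun x hx y hy => by rw [mul_one]; exact hT x hx y hy) hx
  rwa [mem_stabL, mul_one] at this

theorem Z.add_inv {g : G} (h : Z ρ g g) : ρ g + ρ g⁻¹ = 2 := by
  have h1 : ρ g + ρ g⁻¹ - 2 = (ρ g - 1) * (ρ g - 1) * ρ g⁻¹ + (2 - ρ g) * (ρ g * ρ g⁻¹ - 1) := by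
    noncomm_ring
  unfold Z at h
  rw [h, mul_inv_self, sub_self, mul_zero, zero_mul, add_zero] at h1
  exact sub_eq_zero.mp h1

/-- The basic identity for quadratic elements. -/
theorem two_mul_Z {b c d : G} (hcd : c * d = d * c) (h0 : Z ρ b b) (h1 : Z ρ (c * b) (c * b))
    (h2 : Z ρ (d * b) (d * b)) (h3 : Z ρ (c * d * b) (c * d * b)) :
    2 * ((ρ c - 1) * (ρ d⁻¹ - 1)) = 0 := by
  have e0 : ρ b⁻¹ = 2 - ρ b := by rw [← h0.add_inv]; abel
  have e1 := h1.add_inv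
  have e2 := h2.add_inv
  have e3 := h3.add_inv
  have e4 : ρ c⁻¹ * ρ d⁻¹ = ρ d⁻¹ * ρ c⁻¹ := by
    rw [← map_mul, ← map_mul, ← mul_inv_rev, ← mul_inv_rev, hcd]
  simp only [mul_inv_rev, map_mul, e0] at e1 e2 e3
  have : 2 * ((ρ c - 1) * (ρ d⁻¹ - 1)) =
      -(ρ c * ρ d * ρ b + (2 - ρ b) * (ρ d⁻¹ * ρ c⁻¹) - 2) +
        ρ c * (ρ d * ρ b + (2 - ρ b) * ρ d⁻¹ - 2) +
        (ρ c * ρ b + (2 - ρ b) * ρ c⁻¹ - 2) * ρ d⁻¹ +
        (ρ b - 2) * (ρ c⁻¹ * ρ d⁻¹ - ρ d⁻¹ * ρ c⁻¹) := by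
    rw [← one_add_one_eq_two]
    noncomm_ring
  rw [this, e1, e2, e3, e4]
  simp

theorem Z.pow {g : G} (h : Z ρ g g) (n : ℕ) : ρ (g ^ n) = 1 + n * (ρ g - 1) := by
  induction n with
  | zero => simp
  | succ n ih =>
    rw [pow_succ, map_mul, ih]
    have : (1 + (n : R) * (ρ g - 1)) * ρ g =
        1 + ((n : R) + 1) * (ρ g - 1) + n * ((ρ g - 1) * (ρ g - 1)) := by noncomm_ring
    unfold Z at h
    rw [this, h, mul_zero, add_zero, Nat.cast_succ]

end Rng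

end Cfsg.Lib.PGV
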