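import Cfsg.Agent.Local.FrakM
import Cfsg.Agent.Local.BaerSuzuki

/-!
The asymmetric `L`-lemma.
-/

set_option autoImplicit false

namespace Cfsg.Lib.FrakM

open Subgroup Cfsg Cfsg.Lib.Local.MSS Cfsg.Lib.Solv Cfsg.Lib.Trans Cfsg.Lib.Trans.TJ
open Cfsg.Lib.Local (resOf CharP charP_iff charP_top_iff WC Large wc_of_sylow wc_iff
  wc_of_forall_normalizer isPGroup_sup isPGroup_sup' commutator_le_inf_of_le_normalizer
  resOf_le_of_le_sup le_normalizer_of_commutator_le bar unbar)
open scoped Pointwise commutatorElement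

variable {G : Type*} [Group G] {p : ℕ} [Finite G]

theorem le_normalizer_commLe {A C N : Subgroup G} (h1 : A ≤ normalizer (C : Set G))
    (h2 : A ≤ normalizer (N : Set G)) : A ≤ normalizer (commLe C N : Set G) := by
  intro a ha
  refine mem_normalizer_of_conj_mem fun x hx => ⟨mul_mem (mul_mem (h2 ha) hx.1) (inv_mem (h2 ha)),
    fun c hc => ?_⟩
  have h3 := mem_normalizer_conj (h2 ha) (hx.2 _ (mem_normalizer_conj' (h1 ha) hc))
  convert h3 using 1
  simp only [commutatorElement_def]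
  group

variable [hp : Fact p.Prime]

/-- Baer–Suzuki inside a subgroup. -/
theorem le_pCoreOf_of_forall_cj {Y L : Subgroup G} (hYL : Y ≤ L)
    (h : ∀ g ∈ L, IsPGroup p (Y ⊔ cj g Y : Subgroup G)) : Y ≤ pCoreOf p L := by
  have h1 := Local.baer_suzuki_normalClosure (p := p) (Y.subgroupOf L) fun g => by
    have h2 := isPGroup_subgroupOf (h g g.2) L
    rwa [subgroupOf_sup hYL (cj_le_of_mem_of_le g.2 hYL), subgroupOf_cj] at h2
  have h2 := h1.map L.subtype
  rw [map_normalClosure_eq_ncl hYL] at h2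
  exact (le_ncl Y L).trans (le_pCoreOf (ncl_le_of_le hYL) (le_normalizer_ncl Y L) h2)

/-- The setting of the asymmetric `L`-lemma. -/
structure AL (p : ℕ) (S M H L : Subgroup G) : Prop where
  fm : FM p S M
  asym : ¬ IsSymmetricIn (yOf p M)
  frakH : IsInFrakH p M H
  le : L ≤ H
  y_le : yOf p M ≤ L
  not_le : ¬ yOf p M ≤ pCoreOf p L
  min : ∀ L' : Subgroup G, L' ≤ L → yOf p M ≤ L' → ¬ yOf p M ≤ pCoreOf p L' → L' = L

namespace AL

variable {S M H L : Subgroup G}

omit hp in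
theorem sup_core (h : AL p S M H L) : L ⊔ pCoreOf p M = H := by
  have h1 : L ⊔ pCoreOf p M ≤ H := sup_le h.le h.frakH.2.1
  by_contra h2
  exact h.not_le ((le_inf (h.frakH.2.2.2 _ le_sup_right (lt_of_le_of_ne h1 h2)) h.y_le).trans
    (pCoreOf_inf_le le_sup_left))

theorem sup_cj_eq (h : AL p S M H L) {g : G} (hg : g ∈ L)
    (h1 : ¬ IsPGroup p (yOf p M ⊔ cj g (yOf p M) : Subgroup G)) : yOf p M ⊔ cj g (yOf p M) = L := by
  refine h.min _ (sup_le h.y_le (cj_le_of_mem_of_le hg h.y_le)) le_sup_left fun h2 => h1 ?_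
  exact (isPGroup_sup' (isPGroup_pCoreOf _) (isPGroup_cj (yOf_isPGroup M) g)
    (le_sup_right.trans (self_le_normalizer_pCoreOf _))).to_le (sup_le_sup_right h2 _)

theorem exists_gen (h : AL p S M H L) : ∃ g ∈ L, yOf p M ⊔ cj g (yOf p M) = L := by
  by_contra h1
  push Not at h1
  refine h.not_le (le_pCoreOf_of_forall_cj h.y_le fun g hg => ?_)
  by_contra h2
  exact h1 g hg (h.sup_cj_eq hg h2)

omit [Finite G] hp in
theorem charP (h : AL p S M H L) : CharP p H := charP_iff.2 h.frakH.1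

omit [Finite G] hp in
theorem not_isPGroup (h : AL p S M H L) : ¬ IsPGroup p L := fun h1 =>
  h.not_le (h.y_le.trans (le_pCoreOf le_rfl le_normalizer h1))

theorem v_le_core (h : AL p S M H L) : pCoreOf p H ≤ normalizer (pCoreOf p M : Set G) :=
  (h.fm.wc h.asym).pCoreOf_le_normalizer h.frakH.2.1

theorem v_le (h : AL p S M H L) : pCoreOf p H ≤ normalizer (yOf p M : Set G) :=
  h.v_le_core.trans h.fm.normalizer_core_le

omit [Finite G] hp in
theorem cj_v {x : G} (hx : x ∈ H) : cj x (pCoreOf p H) = pCoreOf p H :=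
  cj_eq_of_mem_normalizer (self_le_normalizer_pCoreOf H hx)

theorem v_le_cj (h : AL p S M H L) {x : G} (hx : x ∈ H) :
    pCoreOf p H ≤ normalizer (cj x (yOf p M) : Set G) := by
  rw [← cj_normalizer, ← cj_v hx]
  exact cj_mono x h.v_le

theorem comm_y (h : AL p S M H L) : ⁅pCoreOf p H, yOf p M⁆ ≤ yOf p M ⊓ pCoreOf p H :=
  (commutator_le_inf_of_le_normalizer h.v_le
    ((h.y_le.trans h.le).trans (self_le_normalizer_pCoreOf H))).trans (inf_comm _ _).le

theorem comm_cj (h : AL p S M H L) {x : G} (hx : x ∈ H) :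
    ⁅pCoreOf p H, cj x (yOf p M)⁆ ≤ cj x (yOf p M ⊓ pCoreOf p H) := by
  have := cj_mono x h.comm_y
  rwa [cj_commutator, cj_v hx] at this

theorem comm_le_u (h : AL p S M H L) {g : G} (hg : g ∈ L) (hL : yOf p M ⊔ cj g (yOf p M) = L) :
    ⁅pCoreOf p H, L⁆ ≤ (yOf p M ⊓ pCoreOf p H) ⊔ cj g (yOf p M ⊓ pCoreOf p H) := by
  have h1 : L ≤ normalizer (pCoreOf p H : Set G) := h.le.trans (self_le_normalizer_pCoreOf H)
  conv_lhs => rw [← hL]
  rw [commutator_sup_eq_of_le_normalizer (h.y_le.trans h1) ((cj_le_of_mem_of_le hg h.y_le).trans h1)]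
  exact sup_le_sup h.comm_y (h.comm_cj (h.le hg))

theorem z_le (h : AL p S M H L) : yOf p M ⊓ centralizer (H : Set G) ≤ yOf p M ⊓ pCoreOf p H :=
  le_inf inf_le_left (le_pCoreOf (inf_le_left.trans (h.y_le.trans h.le))
    ((le_centralizer_iff.1 inf_le_right).trans (centralizer_le_normalizer _))
    ((yOf_isPGroup M).to_le inf_le_left))

theorem mem_of_comm (h : AL p S M H L) {g : G} (hg : g ∈ L) (hL : yOf p M ⊔ cj g (yOf p M) = L)
    {u : G} (hu : u ∈ (yOf p M ⊓ pCoreOf p H) ⊔ cj g (yOf p M ⊓ pCoreOf p H))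
    (hc : ∀ y ∈ yOf p M, ⁅u, y⁆ ∈ yOf p M ⊓ centralizer (H : Set G)) :
    u ∈ yOf p M ⊓ pCoreOf p H := by
  set Y := yOf p M with hY
  set V := pCoreOf p H with hV
  set Z := Y ⊓ centralizer (H : Set G) with hZ
  have hgV : cj g (Y ⊓ V) ≤ V := (cj_mono g inf_le_right).trans (cj_v (h.le hg)).le
  obtain ⟨a, ha, b, hb, rfl⟩ := (Solv.mem_sup_of_le_normalizer (hgV.trans
    (le_normalizer_inf h.v_le le_normalizer))).1 hu
  refine mul_mem ha ?_
  have hHZ : H ≤ normalizer (Z : Set G) :=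
    (le_centralizer_iff.1 inf_le_right).trans (centralizer_le_normalizer _)
  have h1 : L ≤ commLe (zpowers b) Z := by
    rw [← hL]
    refine sup_le (le_commLe_iff.2 ⟨(h.y_le.trans h.le).trans hHZ, ?_⟩)
      (le_commLe_iff.2 ⟨((cj_le_of_mem_of_le hg h.y_le).trans h.le).trans hHZ, ?_⟩)
    · rw [commutator_comm, zpowers_eq_closure]
      refine commutator_closure_left_le_of_le_normalizer
        (Set.singleton_subset_iff.2 (hHZ (pCoreOf_le H (hgV hb)))) ?_
      rintro c rfl y hy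
      have h2 := mem_normalizer_conj' (hHZ (pCoreOf_le H ha.2)) (hc y hy)
      convert h2 using 1
      have h3 : a * y⁻¹ * a⁻¹ = y⁻¹ := by
        rw [mul_inv_eq_iff_eq_mul]
        exact (Commute.inv_right (ea_comm (yOf_ea M) ha.1 hy)).eq
      simp only [commutatorElement_def]
      calc _ = a⁻¹ * (a * c * y * (a * c)⁻¹ * (a * y⁻¹ * a⁻¹)) * a := by group
        _ = _ := by rw [h3]
    · exact (commutator_eq_bot_iff_le_centralizer.2 (ea_le_centralizer_of_le (ea_map (yOf_ea M) _)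
        le_rfl ((zpowers_le.2 hb).trans (cj_mono g inf_le_left)))).le.trans bot_le
  have h2 := h.z_le ((h1 (inv_mem hg)).2 b (mem_zpowers b))
  have h3 := mul_mem (inv_mem h2) (mem_cj.1 hb)
  convert h3 using 1
  simp only [commutatorElement_def]
  group

theorem mem_normalizer_y0 (h : AL p S M H L) {g : G} (hg : g ∈ L)
    (hL : yOf p M ⊔ cj g (yOf p M) = L) {x : G} (hx : x ∈ L)
    (hp' : IsPGroup p (yOf p M ⊔ cj x (yOf p M) : Subgroup G)) :
    x ∈ normalizer ((yOf p M ⊓ pCoreOf p H : Subgroup G) : Set G) := by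
  set Y := yOf p M with hY
  set V := pCoreOf p H with hV
  set T := pCoreOf p M with hT
  set Z := Y ⊓ centralizer (H : Set G) with hZ
  set U := (Y ⊓ V) ⊔ cj g (Y ⊓ V) with hU
  have hUV : U ≤ V := sup_le inf_le_right ((cj_mono g inf_le_right).trans (cj_v (h.le hg)).le)
  have hLU : L ≤ normalizer (U : Set G) :=
    Local.le_normalizer_of_commutator_le_of_le (h.comm_le_u hg hL) hUV
  have hHZ' : H ≤ centralizer (Z : Set G) := le_centralizer_iff.1 inf_le_right
  have hHZ : H ≤ normalizer (Z : Set G) := hHZ'.trans (centralizer_le_normalizer _)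
  have hZU : Z < U := lt_of_le_of_ne (h.z_le.trans le_sup_left) fun h1 => h.not_isPGroup
    (h.charP.isPGroup_of_commutator_le h.le ((h.comm_le_u hg hL).trans h1.ge) (h.le.trans hHZ'))
  have hB : Y ⊔ cj x Y ≤ L := sup_le h.y_le (cj_le_of_mem_of_le hx h.y_le)
  obtain ⟨u, huU, huZ, -, -, hu⟩ := PG.exists_step_elt hp' ((isPGroup_pCoreOf H).to_le hUV)
    ((hB.trans h.le).trans hHZ) (hB.trans hLU) hZU
  have h1 : u ∈ Y ⊓ V := h.mem_of_comm hg hL huU fun y hy => hu y (mem_sup_left (mem_sup_left hy))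
  have h2 : x⁻¹ * u * x ∈ Y ⊓ V := h.mem_of_comm hg hL (mem_normalizer_conj' (hLU hx) huU)
    fun y hy => by
      have h3 := mem_normalizer_conj' (hHZ (h.le hx))
        (hu _ (mem_sup_left (mem_sup_right (conj_mem_cj.2 hy : x * y * x⁻¹ ∈ cj x Y))))
      convert h3 using 1
      simp only [commutatorElement_def]
      group
  have hc : ∀ y ∈ Y, T ≤ centralizer ({y} : Set G) := fun y hy =>
    (pCoreOf_le_centralizer_yOf M).trans (centralizer_le (Set.singleton_subset_iff.2 hy))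
  have hTP : T ≤ H ⊓ centralizer ({u} : Set G) := le_inf h.frakH.2.1 (hc u h1.1)
  have hTP' : cj x T ≤ H ⊓ centralizer ({u} : Set G) := by
    refine le_inf (cj_le_of_mem_of_le (h.le hx) h.frakH.2.1) ?_
    have := cj_mono x (hc _ h2.1)
    rwa [cj_centralizer_set, Set.image_singleton, show x * (x⁻¹ * u * x) * x⁻¹ = u by group] at this
  have hP : H ⊓ centralizer ({u} : Set G) < H := lt_of_le_of_ne inf_le_left fun h3 =>
    huZ ⟨h1.1, fun z hz => ((h3.ge hz).2 u rfl).symm⟩
  obtain ⟨c, hc1, hc2⟩ := (h.fm.wc h.asym).exists_cj_eq hTP hTP'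
  have h3 : cj x Y = cj c Y := by rw [hY, h.fm.y_eq, ← omZ_cj, ← omZ_cj, hc2]
  have h4 : cj x Y ≤ centralizer (Y : Set G) := h3 ▸ asym_comm_of_mem h.asym
    (h.frakH.2.2.2 _ hTP hP) (((h.fm.wc h.asym).pCoreOf_le_normalizer hTP).trans
      h.fm.normalizer_core_le) (self_le_normalizer_pCoreOf _ hc1)
  refine mem_normalizer_of_cj_le fun v hv => h.mem_of_comm hg hL ?_ fun y hy => ?_
  · exact ((cj_mono x le_sup_left).trans (cj_eq_of_mem_normalizer (hLU hx)).le) hv
  · rw [commutatorElement_eq_one_iff_mul_comm.2 (h4 (cj_mono x inf_le_left hv) y hy).symm]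
    exact one_mem _

theorem mem_normalizer_y (h : AL p S M H L) {x : G} (hx : x ∈ L)
    (hp' : IsPGroup p (yOf p M ⊔ cj x (yOf p M) : Subgroup G)) :
    x ∈ normalizer (yOf p M : Set G) := by
  obtain ⟨g, hg, hL⟩ := h.exists_gen
  have hx0 := h.mem_normalizer_y0 hg hL hx hp'
  set Y := yOf p M with hY
  set V := pCoreOf p H with hV
  set T := pCoreOf p M with hT
  have hTH : T ≤ H := h.frakH.2.1
  have hHV : H ≤ normalizer (V : Set G) := self_le_normalizer_pCoreOf H
  have hTY : T ≤ centralizer (Y : Set G) := pCoreOf_le_centralizer_yOf M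
  have hTY' : T ≤ normalizer (Y : Set G) := hTY.trans (centralizer_le_normalizer _)
  have hVT : ⁅V, T⁆ ≤ V ⊓ centralizer (Y : Set G) :=
    (commutator_le_inf_of_le_normalizer h.v_le_core (hTH.trans hHV)).trans (inf_le_inf_left _ hTY)
  have hH : Y ⊔ cj g T = H := by
    have h1 : cj g⁻¹ Y ⊔ T = H := by
      rw [← h.sup_core, ← cj_eq_of_mem (inv_mem hg), ← hL, cj_sup, cj_inv_cj, sup_assoc,
        sup_eq_right.2 (yOf_le_pCoreOf M)]
    rw [← cj_eq_of_mem (h.le hg), ← h1, cj_sup, cj_cj_inv]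
  have hV' : ⁅V, H⁆ ≤ (Y ⊓ V) ⊔ cj g (V ⊓ centralizer (Y : Set G)) := by
    conv_lhs => rw [← hH]
    rw [commutator_sup_eq_of_le_normalizer ((h.y_le.trans h.le).trans hHV)
      ((cj_le_of_mem_of_le (h.le hg) hTH).trans hHV)]
    refine sup_le_sup h.comm_y ?_
    have := cj_mono g hVT
    rwa [cj_commutator, cj_v (h.le hg)] at this
  have hVY0 : V ≤ normalizer ((Y ⊓ V : Subgroup G) : Set G) := le_normalizer_inf h.v_le le_normalizer
  set C := (Y ⊓ V) ⊔ ⁅V, H⁆ ⊓ centralizer (Y : Set G) with hC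
  have hC1 : C ≤ (Y ⊓ V) ⊔ V ⊓ centralizer (L : Set G) := by
    refine sup_le le_sup_left fun c hc => ?_
    obtain ⟨y, hy, d, hd, rfl⟩ := (Solv.mem_sup_of_le_normalizer
      (((cj_mono g inf_le_left).trans (cj_v (h.le hg)).le).trans hVY0)).1 (hV' hc.1)
    rw [cj_inf, cj_v (h.le hg), cj_centralizer] at hd
    refine mul_mem (mem_sup_left hy) (mem_sup_right ⟨hd.1, ?_⟩)
    rw [← hL, centralizer_sup']
    have := mul_mem (inv_mem (ea_le_centralizer (yOf_ea M) hy.1)) hc.2
    rw [inv_mul_cancel_left] at this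
    exact ⟨this, hd.2⟩
  have hxz : zpowers x ≤ normalizer ((Y ⊓ V : Subgroup G) : Set G) := zpowers_le.2 hx0
  have hxC : ⁅zpowers x, C⁆ ≤ Y ⊓ V := (commutator_mono le_rfl hC1).trans
    (commutator_sup_right_le_of_le_normalizer le_normalizer (inf_le_left.trans hVY0)
      (commutator_le_right_of_le_normalizer hxz) ((commutator_eq_bot_iff_le_centralizer'.2
        (inf_le_right.trans (centralizer_le (zpowers_le.2 hx)))).le.trans bot_le))
  have hxK : x ∈ commLe C (Y ⊓ V) := le_commLe_iff.2 ⟨hxz, hxC⟩ (mem_zpowers x)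
  have hxC' : x ∈ normalizer (C : Set G) :=
    Local.le_normalizer_of_commutator_le' (hxC.trans le_sup_left) (mem_zpowers x)
  have hTY0 : T ≤ normalizer ((Y ⊓ V : Subgroup G) : Set G) := le_normalizer_inf hTY' (hTH.trans hHV)
  have hTC : T ≤ normalizer (C : Set G) := le_normalizer_sup hTY0 (le_normalizer_inf_centralizer
    (hTH.trans (right_le_normalizer_commutator V H)) hTY')
  have hVTC : ⁅V, T⁆ ≤ C :=
    (le_inf (commutator_mono le_rfl hTH) (hVT.trans inf_le_right)).trans le_sup_right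
  have hJ1 : ⁅V, T ⊔ cj x T⁆ ≤ C := by
    refine commutator_sup_right_le_of_le_normalizer hTC ?_ hVTC ?_
    · rw [← cj_eq_of_mem_normalizer hxC', ← cj_normalizer]
      exact cj_mono x hTC
    · have := cj_mono x hVTC
      rwa [cj_commutator, cj_v (h.le hx), cj_eq_of_mem_normalizer hxC'] at this
  have hTK := le_normalizer_commLe hTC hTY0
  have hJ2 : resOf p (T ⊔ cj x T) ≤ commLe C (Y ⊓ V) := by
    refine resOf_le_of_le_sup (isPGroup_pCoreOf M) hTK (sup_le le_sup_right ?_)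
    exact (Local.cj_le_commutator_sup hxK).trans
      (sup_le_sup_right (commutator_le_left_of_le_normalizer hTK) _)
  have hJ3 : T ⊔ cj x T ≤ centralizer ((Y ⊓ V : Subgroup G) : Set G) := by
    have h1 : T ≤ centralizer ((Y ⊓ V : Subgroup G) : Set G) := hTY.trans (centralizer_le inf_le_left)
    refine sup_le h1 ?_
    rw [← cj_eq_of_mem_normalizer hx0, ← cj_centralizer]
    exact cj_mono x h1
  have hCV : C ≤ V := sup_le inf_le_right (inf_le_left.trans
    (commutator_le_left_of_le_normalizer hHV))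
  have hJ : IsPGroup p (T ⊔ cj x T : Subgroup G) := by
    refine h.charP.isPGroup_of_resOf_le (sup_le hTH (cj_le_of_mem_of_le (h.le hx) hTH)) ?_
    refine resOf_le_centralizer_of_commutator_le ((isPGroup_pCoreOf H).to_le hCV)
      ((commutator_mono le_rfl (resOf_le _)).trans hJ1) ?_
    exact resOf_le_centralizer_of_commutator_le ((isPGroup_pCoreOf H).to_le inf_le_right)
      ((commutator_comm _ _).le.trans (le_commLe_iff.1 hJ2).2) ((resOf_le _).trans hJ3)
  exact h.fm.normalizer_core_le (cj_eq_self_iff.1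
    ((h.fm.wc h.asym).eq_of_le x _ hJ le_sup_left le_sup_right))

theorem sup_cj_eq' (h : AL p S M H L) {g : G} (hg : g ∈ L) (h1 : g ∉ normalizer (yOf p M : Set G)) :
    yOf p M ⊔ cj g (yOf p M) = L :=
  h.sup_cj_eq hg fun h2 => h1 (h.mem_normalizer_y hg h2)

theorem cj_sup_core (h : AL p S M H L) {g : G} (hg : g ∈ L) (h1 : g ∉ normalizer (yOf p M : Set G)) :
    cj g (yOf p M) ⊔ pCoreOf p M = H := by
  rw [← h.sup_core, ← h.sup_cj_eq' hg h1, sup_comm (yOf p M), sup_assoc,
    sup_eq_right.2 (yOf_le_pCoreOf M)]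

theorem uniqMax (h : AL p S M H L) : UniqMax (yOf p M) (L ⊓ normalizer (yOf p M : Set G)) L := by
  refine ⟨le_inf h.y_le le_normalizer, lt_of_le_of_ne inf_le_left fun h1 => h.not_le
    (le_pCoreOf h.y_le (h1.ge.trans inf_le_right) (yOf_isPGroup M)), fun X h1 h2 x hx => ?_⟩
  refine ⟨h2.le hx, by_contra fun h3 => h2.not_ge ?_⟩
  rw [← h.sup_cj_eq' (h2.le hx) h3]
  exact sup_le h1 (cj_le_of_mem_of_le hx h1)

theorem le_ncl' (h : AL p S M H L) : L ≤ ncl (yOf p M) L := by
  obtain ⟨g, hg, hL⟩ := h.exists_gen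
  exact hL.ge.trans (sup_le (le_ncl _ _) (cj_le_ncl _ hg))

theorem charP_l (h : AL p S M H L) : CharP p L := by
  obtain ⟨g, hg, hL⟩ := h.exists_gen
  refine h.charP.of_le_normalizer h.le ?_
  rw [← hL]
  exact le_normalizer_sup h.v_le (h.v_le_cj (h.le hg))

theorem resOf_sup_core (h : AL p S M H L) : resOf p L ⊔ pCoreOf p M = H := by
  have h1 : resOf p L ⊔ yOf p M = L := h.min _ (sup_le (resOf_le L) h.y_le) le_sup_right fun h2 =>
    h.not_le (h2.trans (pCoreOf_le_of_subnormalIn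
      (subnormalIn_of_resOf_le le_sup_left (sup_le (resOf_le L) h.y_le))))
  rw [← h.sup_core]
  conv_rhs => rw [← h1]
  rw [sup_assoc, sup_eq_right.2 (yOf_le_pCoreOf M)]

theorem chief (h : AL p S M H L) {V W : Subgroup G} (hV : V ≤ pCoreOf p H)
    (hVn : H ≤ normalizer (V : Set G)) (hWn : H ≤ normalizer (W : Set G)) (hWV : W < V)
    (hmin : ∀ Z : Subgroup G, H ≤ normalizer (Z : Set G) → W ≤ Z → Z ≤ V → Z = W ∨ Z = V)
    (hc : ¬ ⁅V, H⁆ ≤ W) : ¬ ⁅V, resOf p L⁆ ≤ W := by
  intro h1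
  have hT := h.frakH.2.1
  have hVp := (isPGroup_pCoreOf (p := p) H).to_le hV
  obtain ⟨K, h2, h3, h4, -, h5⟩ := PG.exists_invariant_step_down (isPGroup_pCoreOf M) hVp
    (hT.trans hWn) (hT.trans hVn) hWV
  obtain rfl : K = W := (hmin K (h.resOf_sup_core.ge.trans (sup_le
    (Local.le_normalizer_of_commutator_le_of_le (h1.trans h2) h3.le) h4)) h2 h3.le).resolve_right
    h3.ne
  refine hc ?_
  rw [← h.resOf_sup_core]
  exact commutator_sup_right_le_of_le_normalizer (((resOf_le L).trans h.le).trans hWn) h4 h1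
    (PG.commutator_le_of_card_eq_prime_mul (isPGroup_pCoreOf M) hVp h4 (hT.trans hVn) h3.le h5).1

theorem inf_le_v (h : AL p S M H L) : pCoreOf p L ⊓ yOf p M ≤ pCoreOf p H := by
  obtain ⟨g, hg, hL⟩ := h.exists_gen
  set Y := yOf p M with hY
  set V := pCoreOf p H with hV
  set T := pCoreOf p M with hT
  set Z := Y ⊓ centralizer (H : Set G) with hZ
  set Y₁ := pCoreOf p L ⊓ Y with hY₁
  have hTH : T ≤ H := h.frakH.2.1
  have hHV : H ≤ normalizer (V : Set G) := self_le_normalizer_pCoreOf H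
  have hTY : T ≤ centralizer (Y : Set G) := pCoreOf_le_centralizer_yOf M
  have hHZ' : H ≤ centralizer (Z : Set G) := le_centralizer_iff.1 inf_le_right
  have hHZ : H ≤ normalizer (Z : Set G) := hHZ'.trans (centralizer_le_normalizer _)
  have hA : pCoreOf p L ≤ normalizer (cj g Y : Set G) := by
    rw [← cj_normalizer, ← cj_v hg]
    exact cj_mono g ((h.uniqMax.pCoreOf_le h.le_ncl' (yOf_isPGroup M)).trans inf_le_right)
  have hY₁H : Y₁ ≤ H := (inf_le_right.trans h.y_le).trans h.le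
  have hgV : cj g (Y ⊓ V) ≤ V := (cj_mono g inf_le_right).trans (cj_v (h.le hg)).le
  have h1 : Y ⊓ cj g Y ≤ Z := by
    rw [inf_cj_eq_of_sup_eq hg hL (ea_le_centralizer (yOf_ea M)), hZ, ← h.sup_core, centralizer_sup']
    exact le_inf inf_le_left (le_inf inf_le_right (inf_le_left.trans (le_centralizer_iff.1 hTY)))
  have h2 : ⁅V, L⁆ ≤ V ⊓ commLe Y₁ Z := by
    refine (h.comm_le_u hg hL).trans (sup_le (le_inf inf_le_right (le_commLe_iff.2
      ⟨(inf_le_right.trans (pCoreOf_le H)).trans hHZ, ?_⟩)) (le_inf hgV (le_commLe_iff.2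
      ⟨(hgV.trans (pCoreOf_le H)).trans hHZ, le_trans (le_inf ?_ ?_) h1⟩)))
    · exact (commutator_eq_bot_iff_le_centralizer.2 (ea_le_centralizer_of_le (yOf_ea M)
        inf_le_left inf_le_right)).le.trans bot_le
    · exact (commutator_mono hgV inf_le_right).trans (commutator_le_right_of_le_normalizer h.v_le)
    · exact (commutator_mono (cj_mono g inf_le_left) inf_le_left).trans
        (commutator_le_left_of_le_normalizer hA)
  have h3 : H ≤ normalizer ((V ⊓ commLe Y₁ Z : Subgroup G) : Set G) := by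
    refine h.sup_core.ge.trans (sup_le (Local.le_normalizer_of_commutator_le_of_le h2 inf_le_left)
      (le_normalizer_inf (hTH.trans hHV) (le_normalizer_commLe ?_ (hTH.trans hHZ))))
    exact (hTY.trans (centralizer_le inf_le_right)).trans (centralizer_le_normalizer _)
  have hW : ncl Y₁ H ≤ H := ncl_le_of_le hY₁H
  refine (le_ncl Y₁ H).trans (le_pCoreOf hW (le_normalizer_ncl _ _)
    (h.charP.isPGroup_of_resOf_le hW ?_))
  refine resOf_le_centralizer_of_commutator_le ((isPGroup_pCoreOf H).to_le inf_le_left)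
    ((commutator_mono le_rfl (resOf_le _)).trans (commutator_ncl_le hHV h3 hY₁H
      ((commutator_mono le_rfl (inf_le_right.trans h.y_le)).trans h2))) ?_
  exact resOf_le_centralizer_of_commutator_le ((yOf_isPGroup M).to_le inf_le_left)
    ((commutator_mono le_rfl (resOf_le _)).trans (commutator_ncl_le h3 hHZ hY₁H
      (le_commLe_iff.1 inf_le_right).2)) (((resOf_le _).trans hW).trans hHZ')

end AL

end Cfsg.Lib.FrakM
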