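import Cfsg.Agent.Local.FrakLGood
import Cfsg.Agent.Local.FrakL

/-!
Members of the family `𝔏_G(Y_M)`.
-/

set_option autoImplicit false

namespace Cfsg.Lib.FrakM

open Subgroup Cfsg Cfsg.Lib.Local.MSS Cfsg.Lib.Solv Cfsg.Lib.Trans Cfsg.Lib.Trans.TJ
open Cfsg.Lib.Local (resOf isPGroup_sup isPGroup_sup' bar unbar
  commutator_le_inf_of_le_normalizer)
open scoped Pointwise commutatorElement

variable {G : Type*} [Group G] {p : ℕ}

/-- The group theoretic part of the definition of `𝔏`. -/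
structure FL (p : ℕ) (Y L : Subgroup G) : Prop where
  ea : IsElementaryAbelian p Y
  norm : pCoreOf p L ≤ normalizer (Y : Set G)
  le_ncl : pCoreOf p L ≤ ncl (Y ⊓ pCoreOf p L) L
  um : UniqMax Y (L ⊓ normalizer (Y : Set G)) L
  gen : L ≤ ncl Y L

theorem ncl_cj_of_mem (Y : Subgroup G) {L : Subgroup G} {x : G} (hx : x ∈ L) :
    ncl Y L ≤ ncl (cj x Y) L := iSup_le fun l => by
  have := cj_le_ncl (cj x Y) (mul_mem l.2 (inv_mem hx))
  rwa [cj_cj, inv_mul_cancel_right] at this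

/-- The elements normalizing `C` and commuting with `v` modulo `C`. -/
def cMod (C : Subgroup G) (v : G) : Subgroup G where
  carrier := {g | g ∈ normalizer (C : Set G) ∧ g * v * g⁻¹ * v⁻¹ ∈ C}
  one_mem' := ⟨one_mem _, by simp⟩
  mul_mem' := by
    rintro a b ⟨ha, ha'⟩ ⟨hb, hb'⟩
    refine ⟨mul_mem ha hb, ?_⟩
    convert mul_mem (mem_normalizer_conj ha hb') ha' using 1
    group
  inv_mem' := by
    rintro a ⟨ha, ha'⟩
    refine ⟨inv_mem ha, ?_⟩
    convert mem_normalizer_conj' ha (inv_mem ha') using 1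
    group

theorem cMod_swap {C : Subgroup G} {v g : G} (h : g * v * g⁻¹ * v⁻¹ ∈ C) : v * g * v⁻¹ * g⁻¹ ∈ C := by
  convert inv_mem h using 1
  group

theorem mem_cMod_of_comm {C : Subgroup G} {v g : G} (hg : g ∈ normalizer (C : Set G))
    (h : g * v = v * g) : g ∈ cMod C v :=
  ⟨hg, by rw [h, mul_inv_cancel_right, mul_inv_cancel]; exact one_mem _⟩

namespace FL

variable {Y L : Subgroup G}

theorem le (h : FL p Y L) : Y ≤ L := h.um.le_top

protected theorem cj (h : FL p Y L) {x : G} (hx : x ∈ L) : FL p (cj x Y) L := by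
  refine ⟨ea_map h.ea _, ?_, h.le_ncl.trans ?_, ?_, h.gen.trans (ncl_cj_of_mem Y hx)⟩
  · rw [← cj_normalizer, ← AL.cj_v hx]
    exact cj_mono x h.norm
  · have := ncl_cj_of_mem (Y ⊓ pCoreOf p L) hx
    rwa [cj_inf, AL.cj_v hx] at this
  · have := h.um.cj_of_mem hx
    rwa [cj_inf, cj_eq_of_mem hx, cj_normalizer] at this

theorem comm_le (h : FL p Y L) : ⁅pCoreOf p L, Y⁆ ≤ Y ⊓ pCoreOf p L :=
  (commutator_le_inf_of_le_normalizer h.norm
    (h.le.trans (self_le_normalizer_pCoreOf L))).trans (inf_comm _ _).le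

theorem le_of_not_mem (h : FL p Y L) {b : G} (hbL : b ∈ L) (hb : b ∉ normalizer (Y : Set G))
    {K : Subgroup G} (h1 : Y ≤ K) (h2 : b ∈ K) : L ≤ K :=
  (h.um.le_or_le h1).resolve_right fun h3 => hb (h3 ⟨hbL, h2⟩).2

theorem core_le {Y' : Subgroup G} (h : FL p Y L) (h' : FL p Y' L) (hL : L ≤ Y ⊔ Y') :
    pCoreOf p L ≤ (Y ⊓ pCoreOf p L) ⊔ (Y' ⊓ pCoreOf p L) := by
  refine h.le_ncl.trans (ncl_le le_sup_left (Local.le_normalizer_of_commutator_le_of_le ?_
    (sup_le inf_le_right inf_le_right : _ ≤ pCoreOf p L)))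
  refine (commutator_mono le_rfl hL).trans ?_
  rw [commutator_sup_eq_of_le_normalizer (h.le.trans (self_le_normalizer_pCoreOf L))
    (h'.le.trans (self_le_normalizer_pCoreOf L))]
  exact sup_le_sup h.comm_le h'.comm_le

theorem mem_of_comm (h : FL p Y L) {g : G} (hg : g ∈ L) (hL : L ≤ Y ⊔ cj g Y) {a : G} (ha : a ∈ Y)
    (ha' : a ∉ normalizer (cj g Y : Set G)) {C : Subgroup G} (hCY : C ≤ Y)
    (hC : C ≤ centralizer (L : Set G)) {v : G} (hv : v ∈ pCoreOf p L)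
    (hc : a * v * a⁻¹ * v⁻¹ ∈ C) : v ∈ Y := by
  have hLC : L ≤ normalizer (C : Set G) :=
    (le_centralizer_iff.1 hC).trans (centralizer_le_normalizer _)
  obtain ⟨x, hx, b, hb, rfl⟩ := (Solv.mem_sup_of_le_normalizer (inf_le_right.trans
    (le_normalizer_inf h.norm le_normalizer))).1 (h.core_le (h.cj hg) hL hv)
  refine mul_mem hx.1 ?_
  have h1 : L ≤ cMod C b := by
    refine (h.cj hg).le_of_not_mem (h.le ha) ha' (fun y hy => mem_cMod_of_comm
      (hLC ((h.cj hg).le hy)) (ea_comm (h.cj hg).ea hy hb.1)) ⟨hLC (h.le ha), ?_⟩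
    convert mem_normalizer_conj' (hLC (h.le hx.1)) hc using 1
    have h2 : x⁻¹ * a * x = a := by
      rw [mul_assoc, ea_comm h.ea ha hx.1, inv_mul_cancel_left]
    calc _ = x⁻¹ * a * x * b * a⁻¹ * b⁻¹ := by rw [h2]
      _ = _ := by group
  convert mul_mem (inv_mem (hCY (h1 (inv_mem hg)).2)) (mem_cj.1 hb.1) using 1
  group

theorem fpf (h : FL p Y L) {g : G} (hg : g ∈ L) {a b : G} (ha : a ∈ Y) (hb : b ∈ cj g Y)
    (ha' : a ∉ normalizer (cj g Y : Set G)) (hb' : b ∉ normalizer (Y : Set G)) {v : G}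
    (hv : v ∈ pCoreOf p L) (hc : a * b * v * (a * b)⁻¹ * v⁻¹ ∈ Y ⊓ centralizer (L : Set G)) :
    v ∈ Y ⊓ centralizer (L : Set G) := by
  have h' := h.cj hg
  have hL : L ≤ Y ⊔ cj g Y := h.le_of_not_mem (h'.le hb) hb' le_sup_left (mem_sup_right hb)
  have hC := inf_cj_eq_of_sup_eq hg (le_antisymm (sup_le h.le h'.le) hL) (ea_le_centralizer h.ea)
  have h1 : a⁻¹ * v * a⁻¹⁻¹ * v⁻¹ ∈ Y := by
    have := mul_mem (inv_mem ha) (mem_normalizer_conj (h.norm hv) ha)
    convert this using 1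
    group
  have h2 : b * v * b⁻¹ * v⁻¹ ∈ cj g Y := by
    have := mul_mem hb (mem_normalizer_conj (h'.norm hv) (inv_mem hb))
    convert this using 1
    group
  have h3 : b * v * b⁻¹ * v⁻¹ =
      a⁻¹ * (a * b * v * (a * b)⁻¹ * v⁻¹) * a * (a⁻¹ * v * a⁻¹⁻¹ * v⁻¹) := by group
  have h4 : a⁻¹ * (a * b * v * (a * b)⁻¹ * v⁻¹) * a ∈ Y ⊓ centralizer (L : Set G) := by
    rwa [mul_assoc a⁻¹, ← hc.2 a (h.le ha), inv_mul_cancel_left]
  have h5 : b * v * b⁻¹ * v⁻¹ ∈ Y ⊓ centralizer (L : Set G) := by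
    rw [← hC]
    exact ⟨h3 ▸ mul_mem h4.1 h1, h2⟩
  have h6 : a⁻¹ * v * a⁻¹⁻¹ * v⁻¹ ∈ Y ⊓ centralizer (L : Set G) :=
    (mul_mem_cancel_left h4).1 (h3 ▸ h5)
  rw [← hC]
  refine ⟨h.mem_of_comm hg hL (inv_mem ha) (fun h7 => ha' (inv_mem_iff.1 h7)) inf_le_left
    inf_le_right hv h6, h'.mem_of_comm (inv_mem hg) (by rwa [cj_inv_cj, sup_comm]) hb
    (by rwa [cj_inv_cj]) (hC.ge.trans inf_le_right) inf_le_right hv h5⟩

theorem inf_centralizer_cj {x : G} (hx : x ∈ L) :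
    cj x Y ⊓ centralizer (L : Set G) = Y ⊓ centralizer (L : Set G) := by
  ext y
  refine and_congr_left fun hy => ?_
  change y ∈ cj x Y ↔ y ∈ Y
  rw [mem_cj, mul_assoc, ← hy x hx, inv_mul_cancel_left]

variable [Finite G] [hp : Fact p.Prime]

theorem not_le (h : FL p Y L) : ¬ Y ≤ pCoreOf p L := fun h1 =>
  h.um.not_isPGroup h.gen ((isPGroup_pCoreOf L).to_le
    (h.gen.trans (ncl_le h1 (self_le_normalizer_pCoreOf L))))

omit [Finite G] hp in
theorem comm_core (h : FL p Y L) {x : G} (hx : x ∈ L) (hx' : x ∉ normalizer (Y : Set G))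
    [Finite G] {a v : G} (ha : a ∈ pCoreOf p L) (hv : v ∈ pCoreOf p L) :
    a * v * a⁻¹ * v⁻¹ ∈ Y ⊓ centralizer (L : Set G) := by
  have h' := h.cj hx
  have hL := h.um.sup_cj_eq h.gen hx fun h1 => hx' h1.2
  have hC := inf_cj_eq_of_sup_eq hx hL (ea_le_centralizer h.ea)
  have hn : pCoreOf p L ≤ normalizer ((Y ⊓ centralizer (L : Set G) : Subgroup G) : Set G) :=
    (pCoreOf_le L).trans ((le_centralizer_iff.1 inf_le_right).trans (centralizer_le_normalizer _))
  have h1 : ⁅Y ⊓ pCoreOf p L, cj x Y ⊓ pCoreOf p L⁆ ≤ Y ⊓ centralizer (L : Set G) := by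
    rw [← hC]
    exact le_inf ((commutator_mono inf_le_left inf_le_right).trans
      (commutator_le_left_of_le_normalizer h.norm)) ((commutator_mono inf_le_right inf_le_left).trans
      (commutator_le_right_of_le_normalizer h'.norm))
  have h2 := h.core_le h' hL.ge
  have h3 : ⁅pCoreOf p L, pCoreOf p L⁆ ≤ Y ⊓ centralizer (L : Set G) := by
    refine (commutator_mono h2 h2).trans (commutator_sup_left_le_of_le_normalizer
      (inf_le_right.trans hn) (inf_le_right.trans hn) (commutator_sup_right_le_of_le_normalizer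
      (inf_le_right.trans hn) (inf_le_right.trans hn) ?_ h1) (commutator_sup_right_le_of_le_normalizer
      (inf_le_right.trans hn) (inf_le_right.trans hn) ((commutator_comm _ _).le.trans h1) ?_))
    · exact ((commutator_mono inf_le_left inf_le_left).trans (ea_commutator_self h.ea).le).trans bot_le
    · exact ((commutator_mono inf_le_left inf_le_left).trans (ea_commutator_self h'.ea).le).trans bot_le
  exact h3 (commutator_mem_commutator ha hv)

variable [((pCoreOf p L).subgroupOf L).Normal]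

theorem unbar_normalizer (h : FL p Y L) :
    unbar L (pCoreOf p L) (normalizer (bar L (pCoreOf p L) Y : Set _)) ≤ normalizer (Y : Set G) := by
  have h1 : Y ≤ unbar L (pCoreOf p L) (normalizer (bar L (pCoreOf p L) Y : Set _)) :=
    (Local.bar_le_iff h.le).1 le_normalizer
  refine ((h.um.eq_or_le h1 (Local.unbar_le _)).resolve_left fun h2 => h.not_le ?_).trans
    inf_le_right
  have h3 := Local.le_normalizer_unbar_of_bar_le le_rfl ((Local.bar_le_iff le_rfl).2 h2.ge)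
  rw [Local.unbar_bar h.le, inf_eq_right.2 (pCoreOf_le L)] at h3
  exact le_sup_left.trans (le_pCoreOf (sup_le h.le (pCoreOf_le L)) h3 (isPGroup_sup
    (ea_isPGroup h.ea) (isPGroup_pCoreOf L) (h.le.trans (self_le_normalizer_pCoreOf L))))

omit [Finite G] hp in
theorem mk_mem_normalizer {Y : Subgroup G} {x : L} (hx : (x : G) ∈ normalizer (Y : Set G)) :
    (QuotientGroup.mk x : L ⧸ (pCoreOf p L).subgroupOf L) ∈
      normalizer (bar L (pCoreOf p L) Y : Set (L ⧸ (pCoreOf p L).subgroupOf L)) :=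
  Local.bar_le_normalizer (zpowers_le.2 x.2) (zpowers_le.2 hx) (Local.mk_mem_bar (mem_zpowers _))

theorem fixed_le (h : FL p Y L) (hg : Good p (bar L (pCoreOf p L) Y)) {z : G} (hz : z ∈ L)
    (hnp : ¬ ∃ k : ℕ, orderOf z = p ^ k) {v : G} (hv : v ∈ pCoreOf p L)
    (hc : z * v * z⁻¹ * v⁻¹ ∈ Y ⊓ centralizer (L : Set G)) : v ∈ Y ⊓ centralizer (L : Set G) := by
  set C := Y ⊓ centralizer (L : Set G) with hC
  have hLC : L ≤ normalizer (C : Set G) :=
    (le_centralizer_iff.1 inf_le_right).trans (centralizer_le_normalizer _)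
  obtain ⟨_, k, ⟨x, g, a, ha, b, hb, ha', hb', rfl⟩, j, hj⟩ := hg.prod (QuotientGroup.mk ⟨z, hz⟩) (by
    rintro ⟨k, hk⟩
    have h1 := pow_orderOf_eq_one (QuotientGroup.mk ⟨z, hz⟩ : L ⧸ (pCoreOf p L).subgroupOf L)
    rw [hk, ← QuotientGroup.mk_pow, QuotientGroup.eq_one_iff] at h1
    obtain ⟨j, hj⟩ := PG.exists_pow_prime_pow_eq_one (isPGroup_pCoreOf L) h1
    exact not_pow_eq_one hnp (k + j) (by rw [pow_add, pow_mul]; exact hj))
  obtain ⟨⟨x, hx⟩, rfl⟩ := QuotientGroup.mk_surjective x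
  obtain ⟨⟨g, hg⟩, rfl⟩ := QuotientGroup.mk_surjective g
  rw [← Local.bar_cj hx] at ha hb'
  rw [← Local.bar_cj hg] at hb ha'
  obtain ⟨a, ha, rfl⟩ := ha
  obtain ⟨b, hb, rfl⟩ := hb
  have ha1 : (a : G) ∉ normalizer (cj g Y : Set G) := fun h1 => ha' (mk_mem_normalizer h1)
  have hb1 : (b : G) ∉ normalizer (cj x Y : Set G) := fun h1 => hb' (mk_mem_normalizer h1)
  have hgx : cj (g * x⁻¹) (cj x Y) = cj g Y := by rw [cj_cj, inv_mul_cancel_right]
  have key : ∀ w ∈ pCoreOf p L, (a * b : G) ∈ cMod C w → w ∈ C := fun w hw h1 => by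
    rw [hC, ← inf_centralizer_cj hx]
    exact (h.cj hx).fpf (mul_mem hg (inv_mem hx)) ha (by rwa [hgx]) (by rwa [hgx]) hb1 hw
      (by rw [inf_centralizer_cj hx]; exact h1.2)
  have hA : ∀ u ∈ pCoreOf p L, ∀ w ∈ pCoreOf p L, u ∈ cMod C w := fun u hu w hw => by
    refine ⟨hLC (pCoreOf_le L hu), ?_⟩
    rw [hC, ← inf_centralizer_cj hx]
    exact (h.cj hx).comm_core b.2 hb1 hu hw
  set y : G := a * b with hy
  have hyL : y ∈ L := mul_mem a.2 b.2
  have h1 : y ^ p ^ k ∈ cMod C v := by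
    simp only [QuotientGroup.mk'_apply] at hj
    rw [← QuotientGroup.mk_zpow, ← QuotientGroup.mk_mul, ← QuotientGroup.mk_pow,
      QuotientGroup.eq] at hj
    have h2 : (z ^ j)⁻¹ * y ^ p ^ k ∈ pCoreOf p L := hj
    exact (mul_mem_cancel_left (inv_mem (zpow_mem (⟨hLC hz, hc⟩ : z ∈ cMod C v) j))).1 (hA _ h2 v hv)
  by_contra hvC
  set D := pCoreOf p L ⊓ cMod C (y ^ p ^ k) with hD
  have hCA : C ≤ pCoreOf p L := le_pCoreOf (inf_le_left.trans h.le) hLC
    ((ea_isPGroup h.ea).to_le inf_le_left)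
  have hCD : C < D := lt_of_le_of_ne (le_inf hCA fun c hc' => mem_cMod_of_comm (le_normalizer hc')
    (hc'.2 _ (pow_mem hyL _)).symm) fun h2 => hvC (h2.ge ⟨hv, hLC (pCoreOf_le L hv), cMod_swap h1.2⟩)
  have hzL : zpowers y ≤ L := zpowers_le.2 hyL
  have hyD : zpowers y ≤ normalizer (D : Set G) := zpowers_le.2 (mem_normalizer_of_conj_mem
    fun w hw => ⟨mem_normalizer_conj (self_le_normalizer_pCoreOf L hyL) hw.1,
      mul_mem (mul_mem (hLC hyL) hw.2.1) (inv_mem (hLC hyL)), by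
        convert mem_normalizer_conj (hLC hyL) hw.2.2 using 1
        group⟩)
  obtain ⟨T, hT⟩ := exists_isSylowIn (p := p) (zpowers y)
  obtain ⟨w, hw, hwC, -, -, hw'⟩ := PG.exists_step_elt hT.isPGroup
    ((isPGroup_pCoreOf L).to_le inf_le_left) ((hT.le.trans hzL).trans hLC) (hT.le.trans hyD) hCD
  refine hwC (key w hw.1 (le_of_resOf_le_of_isSylowIn (K := cMod C w) hT
    (resOf_le_of_pow_mem ?_) (fun t ht =>
    ⟨hLC (hzL (hT.le ht)), cMod_swap (hw' t (mem_sup_left ht))⟩) (mem_zpowers y)))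
  rintro _ ⟨i, rfl⟩
  refine ⟨k, ?_⟩
  have h2 : y ^ p ^ k ∈ cMod C w := ⟨hLC (pow_mem hyL _), cMod_swap hw.2.2⟩
  convert zpow_mem h2 i using 1
  simp only [← zpow_natCast, ← zpow_mul, mul_comm]

omit [Finite G] hp [((pCoreOf p L).subgroupOf L).Normal] in
theorem ea_bar_iff {E A W : Subgroup G} [(A.subgroupOf E).Normal] (hW : W ≤ E) :
    IsElementaryAbelian p (bar E A W) ↔ ⁅W, W⁆ ≤ A ∧ ∀ w ∈ W, w ^ p ∈ A := by
  rw [← Local.commutator_bar_eq_bot_iff hW hW]
  refine ⟨fun h => ⟨ea_commutator_self h, fun w hw => ?_⟩, fun h => ea_iff.2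
    ⟨fun a ha b hb => (commutator_eq_bot_iff_le_centralizer.1 h.1 hb a ha), ?_⟩⟩
  · have := ea_pow h (Local.mk_mem_bar (x := ⟨w, hW hw⟩) hw)
    rwa [← QuotientGroup.mk_pow, QuotientGroup.eq_one_iff] at this
  · rintro _ ⟨w, hw, rfl⟩
    rw [← map_pow, QuotientGroup.mk'_apply, QuotientGroup.eq_one_iff]
    exact h.2 w hw

theorem unique_normal (h : FL p Y L) (hg : Good p (bar L (pCoreOf p L) Y))
    [((pCoreOf p L).subgroupOf (L ⊓ normalizer (Y : Set G))).Normal]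
    (V : Subgroup (↥(L ⊓ normalizer (Y : Set G)) ⧸
      (pCoreOf p L).subgroupOf (L ⊓ normalizer (Y : Set G)))) [V.Normal]
    (hV : IsElementaryAbelian p V) (h0 : V ≠ ⊥) :
    V = bar (L ⊓ normalizer (Y : Set G)) (pCoreOf p L) Y := by
  have hW := Local.unbar_le V
  have hn := Local.le_normalizer_unbar V
  rw [← Local.bar_unbar V] at hV h0 ⊢
  set W := unbar _ _ V
  have hWL : W ≤ L := hW.trans inf_le_left
  have h1 := hg.irr (bar L (pCoreOf p L) W) ((ea_bar_iff hWL).2 ((ea_bar_iff hW).1 hV))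
    (fun h2 => h0 ((Local.bar_eq_bot_iff hW).2 ((Local.bar_eq_bot_iff hWL).1 h2)))
    (Local.bar_le_normalizer hWL (hW.trans inf_le_right)) (by
      rw [← Local.bar_unbar (normalizer _)]
      exact Local.bar_le_normalizer (Local.unbar_le _)
        ((le_inf (Local.unbar_le _) h.unbar_normalizer).trans hn))
  rw [Local.bar_eq_bar_iff hWL h.le, inf_eq_right.2 (pCoreOf_le L)] at h1
  rwa [Local.bar_eq_bar_iff hW h.um.le, inf_eq_right.2 (le_inf (pCoreOf_le L) h.norm)]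

end FL

variable [Finite G] [hp : Fact p.Prime]

theorem fl_of_frakL {M L : Subgroup G} (hL : IsInFrakL p M L) : FL p (yOf p M) L := by
  obtain ⟨h1, h2, h3, h4, -, h5, -⟩ := hL
  rw [map_normalClosure_eq_ncl (inf_le_left.trans h1)] at h2
  exact ⟨yOf_ea M, h3, h2.le, ⟨le_inf h1 le_normalizer, h5.1, h5.2⟩,
    ((isMinimalOver_subgroupOf_iff h1).1 h4).1⟩

theorem good_of_frakL {M L : Subgroup G} (hL : IsInFrakL p M L)
    [((pCoreOf p L).subgroupOf L).Normal] : Good p (bar L (pCoreOf p L) (yOf p M)) := by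
  have h := fl_of_frakL hL
  have hea : IsElementaryAbelian p (bar L (pCoreOf p L) (yOf p M)) :=
    ea_map (ea_subgroupOf h.ea L) _
  have h0 : bar L (pCoreOf p L) (yOf p M) ≠ ⊥ := fun h1 =>
    h.not_le ((Local.bar_eq_bot_iff h.le).1 h1)
  have hc : Nat.card (bar L (pCoreOf p L) (yOf p M)) =
      (yOf p M ⊓ pCoreOf p L).relIndex (yOf p M) := by
    rw [Local.card_bar h.le, inf_relIndex_left]
  let e₀ := QuotientGroup.quotientMulEquivOfEq (pCoreOf_subgroupOf_self (p := p) L)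
  have two : p = 2 → Nat.card (bar L (pCoreOf p L) (yOf p M)) = 2 →
      Good p (bar L (pCoreOf p L) (yOf p M)) := by
    rintro rfl h2
    obtain ⟨g, hg, hg'⟩ := SetLike.exists_of_lt h.um.lt
    refine good_of_card_two h2 ?_ (g := QuotientGroup.mk ⟨g, hg⟩) ?_
    · rw [pCoreOf_top, Local.pCore_quotient_eq_bot_iff]
      exact fun P h3 h4 h5 => le_pCoreOf h3 h4 (isPGroup_of_resOf_le (isPGroup_pCoreOf L) h5)
    · rw [← Local.bar_cj hg, ← Local.bar_sup h.le (h.cj hg).le, h.um.sup_cj_eq h.gen hg hg',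
        Local.bar_self]
  rcases hL.2.2.2.2.2.2 with ⟨F, _, _, h1, ⟨e⟩⟩ | ⟨h2, F, _, _, m, hm, h1, ⟨e⟩⟩ | ⟨h2, r, hr, hr2, ⟨e⟩⟩
  · refine Good.of_map (e₀.trans e) (good_sl ((ea_isPGroup hea).map _) (fun h2 => h0 ?_) ?_)
    · exact (map_eq_bot_iff_of_injective _ (e₀.trans e).injective).1 h2
    · rw [card_map_of_injective (e₀.trans e).injective, hc, h1]
  · rcases Nat.eq_zero_or_pos m with rfl | hm0
    · exact two h2 (by rw [hc, ← h1, hm]; rfl)
    · subst h2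
      exact good_sz ((Chev.lieSzModel hm0 hm).ofEquiv (e₀.trans e)) hea (by rw [hc, h1])
  · refine two h2 ?_
    subst h2
    obtain ⟨n, hn⟩ := (ea_isPGroup hea).exists_card_eq
    have h3 := card_subgroup_dvd_card (bar L (pCoreOf 2 L) (yOf 2 M))
    rw [Nat.card_congr (e₀.trans e).toEquiv, DihedralGroup.nat_card, hn] at h3
    rw [hn]
    match n, hn, h3 with
    | 0, hn, _ => exact absurd (card_eq_one.1 hn) h0
    | 1, _, _ => rfl
    | n + 2, _, h3 =>
      have h4 : 2 * 2 ∣ 2 * r := (Dvd.intro_left (2 ^ n) (by ring)).trans h3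
      exact absurd ((Nat.prime_dvd_prime_iff_eq Nat.prime_two hr).1
        (Nat.dvd_of_mul_dvd_mul_left two_pos h4)).symm hr2

end Cfsg.Lib.FrakM
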