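import Cfsg.Agent.Local.FrakM
import Cfsg.Agent.Local.Dihedral
import Cfsg.Agent.Chev.SuzukiTorus
import Cfsg.Agent.Class.SL2Count
import Cfsg.Agent.Class.NegOne

/-!
Rank one groups `SL₂(q)`, `Sz(q)` and dihedral groups: the root subgroup is irreducible under its
normalizer, and elements of order not a power of `p` come from products of two root elements.
-/

set_option autoImplicit false

namespace Cfsg.Lib.FrakM

open Subgroup Cfsg Cfsg.Lib.Local.MSS Cfsg.Lib.Solv Cfsg.Lib.Trans Cfsg.Lib.Trans.TJ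
open Cfsg.Lib.Local (resOf isPGroup_sup isPGroup_sup')
open scoped Pointwise commutatorElement

variable {X : Type*} [Group X] {p : ℕ}

/-- `h` is a product of elements of two conjugates of `Y` in general position. -/
def Tw2 (Y : Subgroup X) (h : X) : Prop :=
  ∃ x g : X, ∃ a ∈ cj x Y, ∃ b ∈ cj g Y, a ∉ normalizer (cj g Y : Set X) ∧
    b ∉ normalizer (cj x Y : Set X) ∧ h = a * b

/-- The two properties of root subgroups. -/
structure Good (p : ℕ) (Y : Subgroup X) : Prop where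
  irr : ∀ V : Subgroup X, IsElementaryAbelian p V → V ≠ ⊥ → V ≤ normalizer (Y : Set X) →
    normalizer (Y : Set X) ≤ normalizer (V : Set X) → V = Y
  prod : ∀ h : X, (¬ ∃ k, orderOf h = p ^ k) → ∃ (h' : X) (k : ℕ), Tw2 Y h' ∧ h' ^ p ^ k ∈ zpowers h

theorem mem_normalizer_map_equiv {X' : Type*} [Group X'] (e : X ≃* X') {Y : Subgroup X} {x : X} :
    e x ∈ normalizer (Y.map e.toMonoidHom : Set X') ↔ x ∈ normalizer (Y : Set X) := by
  rw [← cj_eq_self_iff, ← cj_eq_self_iff]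
  exact (Iff.of_eq (congrArg (· = _) (map_cj e.toMonoidHom x Y).symm)).trans
    (map_injective e.injective).eq_iff

theorem Tw2.map {X' : Type*} [Group X'] (e : X ≃* X') {Y : Subgroup X} {h : X} (hh : Tw2 Y h) :
    Tw2 (Y.map e.toMonoidHom) (e h) := by
  obtain ⟨x, g, a, ha, b, hb, h1, h2, rfl⟩ := hh
  have key : ∀ z : X, cj (e z) (Y.map e.toMonoidHom) = (cj z Y).map e.toMonoidHom := fun z =>
    (map_cj e.toMonoidHom z Y).symm
  refine ⟨e x, e g, e a, ?_, e b, ?_, ?_, ?_, map_mul e a b⟩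
  · rw [key]; exact mem_map_of_mem _ ha
  · rw [key]; exact mem_map_of_mem _ hb
  · rwa [key, mem_normalizer_map_equiv]
  · rwa [key, mem_normalizer_map_equiv]

theorem Tw2.conj {Y : Subgroup X} {h : X} (hh : Tw2 Y h) (z : X) : Tw2 Y (z * h * z⁻¹) := by
  obtain ⟨x, g, a, ha, b, hb, h1, h2, rfl⟩ := hh
  refine ⟨z * x, z * g, z * a * z⁻¹, ?_, z * b * z⁻¹, ?_, ?_, ?_, by group⟩
  · rwa [cj_mul, conj_mem_cj]
  · rwa [cj_mul, conj_mem_cj]
  · rwa [cj_mul, ← cj_normalizer, conj_mem_cj]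
  · rwa [cj_mul, ← cj_normalizer, conj_mem_cj]

theorem Good.map {X' : Type*} [Group X'] (e : X ≃* X') {Y : Subgroup X} (h : Good p Y) :
    Good p (Y.map e.toMonoidHom) := by
  refine ⟨fun V h1 h2 h3 h4 => ?_, fun g hg => ?_⟩
  · obtain ⟨W, rfl⟩ : ∃ W : Subgroup X, W.map e.toMonoidHom = V :=
      ⟨V.comap e.toMonoidHom, map_comap_eq_self_of_surjective e.surjective V⟩
    rw [h.irr W ((ea_map_iff e.injective).1 h1) (fun h5 => h2 (by rw [h5, Subgroup.map_bot]))
      (fun x hx => (mem_normalizer_map_equiv e).1 (h3 (mem_map_of_mem _ hx)))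
      fun x hx => (mem_normalizer_map_equiv e).1 (h4 ((mem_normalizer_map_equiv e).2 hx))]
  · obtain ⟨g, rfl⟩ := e.surjective g
    rw [MulEquiv.orderOf_eq] at hg
    obtain ⟨h', k, h1, j, hj⟩ := h.prod g hg
    exact ⟨e h', k, h1.map e, j, by simp only at hj ⊢; rw [← map_zpow, hj, map_pow]⟩

theorem Good.of_map {X' : Type*} [Group X'] (e : X ≃* X') {Y : Subgroup X}
    (h : Good p (Y.map e.toMonoidHom)) : Good p Y := by
  have := h.map e.symm
  rwa [map_map, show e.symm.toMonoidHom.comp e.toMonoidHom = MonoidHom.id X from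
    MonoidHom.ext e.symm_apply_apply, Subgroup.map_id] at this

theorem Good.cj {Y : Subgroup X} (h : Good p Y) (g : X) : Good p (cj g Y) :=
  h.map (MulAut.conj g)

theorem not_pow_eq_one [Fact p.Prime] {h : X} (hh : ¬ ∃ k, orderOf h = p ^ k) (k : ℕ) :
    h ^ p ^ k ≠ 1 := fun h1 => by
  obtain ⟨j, -, hj⟩ := (Nat.dvd_prime_pow Fact.out).1 (orderOf_dvd_of_pow_eq_one h1)
  exact hh ⟨j, hj⟩

/-- The dihedral case. -/
theorem good_of_card_two [Finite X] {Y : Subgroup X} (hY : Nat.card Y = 2)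
    (hO : pCoreOf 2 (⊤ : Subgroup X) = ⊥) {g : X} (hg : Y ⊔ cj g Y = ⊤) : Good 2 Y := by
  obtain ⟨⟨a, ha⟩, ha1, hu⟩ := (Nat.card_eq_two_iff' (1 : Y)).1 hY
  have ha1' : a ≠ 1 := fun h => ha1 (Subtype.ext h)
  have hmem : ∀ y ∈ Y, y = 1 ∨ y = a := fun y hy => by
    by_cases h : y = 1
    · exact Or.inl h
    · exact Or.inr (congrArg Subtype.val (hu ⟨y, hy⟩ fun h' => h (congrArg Subtype.val h')))
  have haa : a * a = 1 := (hmem _ (mul_mem ha ha)).resolve_right fun h => ha1' (by simpa using h)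
  set b := g * a * g⁻¹ with hb
  have hbb : b * b = 1 := by rw [hb, conj_mul, haa]; group
  have htop : ∀ d : X, d ∈ closure ({a, b} : Set X) := fun d => by
    refine (hg.ge.trans (sup_le (fun y hy => ?_) (cj_le_iff.2 fun y hy => ?_))) (mem_top d)
    · rcases hmem y hy with rfl | rfl
      · exact one_mem _
      · exact subset_closure (by simp)
    · rcases hmem y hy with rfl | rfl
      · simp
      · exact subset_closure (by simp [hb])
  have hinv := Local.dih_inverts haa hbb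
  have hinv' := Local.dih_inverts' haa hbb
  set c := a * b with hc
  have hodd : ∀ k : ℤ, c ^ k * c ^ k = 1 → c ^ k = 1 := fun k hk => by
    have h1 : ∀ s : X, s * c * s⁻¹ = c⁻¹ → s ∈ centralizer ({c ^ k} : Set X) := fun s hs => by
      rw [mem_centralizer_singleton_iff, Local.dih_mul_zpow hs, zpow_neg,
        inv_eq_of_mul_eq_one_right hk]
    have h2 : ⊤ ≤ centralizer ({c ^ k} : Set X) := fun d _ => (closure_le _).2 (by
      rintro _ (rfl | rfl)
      · exact h1 _ hinv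
      · exact h1 _ hinv') (htop d)
    have h3 : zpowers (c ^ k) ≤ pCoreOf 2 ⊤ := le_pCoreOf le_top (h2.trans (by
      rw [← centralizer_closure, ← zpowers_eq_closure]; exact centralizer_le_normalizer _))
      (PG.isPGroup_zpowers (k := 1) (by rw [pow_one, pow_two, hk]))
    exact mem_bot.1 (hO ▸ h3 (mem_zpowers _))
  have hN : normalizer (Y : Set X) ≤ Y := fun d hd => by
    have h1 : ∀ k : ℤ, c ^ k ∈ normalizer (Y : Set X) → c ^ k = 1 := fun k hk => by
      refine hodd k ?_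
      have h2 := (hmem _ (mem_normalizer_conj hk ha)).resolve_left
        fun h => ha1' (conj_eq_one_iff.1 h)
      rw [Local.dih_conj hinv, mul_eq_left, zpow_neg, inv_eq_one, two_mul, zpow_add] at h2
      exact h2
    obtain ⟨k, rfl | rfl⟩ := Local.dih_mem_closure_form haa hbb (htop d)
    · rw [h1 k hd]; exact one_mem _
    · rw [h1 k ((mul_mem_cancel_left (le_normalizer ha)).1 hd), mul_one]; exact ha
  refine ⟨fun V _ h2 h3 _ => le_antisymm (h3.trans hN) fun y hy => ?_, fun h hh => ?_⟩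
  · obtain ⟨v, hv, hv1⟩ := (V.bot_or_exists_ne_one).resolve_left h2
    obtain rfl := (hmem v (hN (h3 hv))).resolve_left hv1
    rcases hmem y hy with rfl | rfl
    · exact one_mem _
    · exact hv
  have hh2 : h * h ≠ 1 := by simpa [pow_two] using not_pow_eq_one hh 1
  obtain ⟨k, rfl | rfl⟩ := Local.dih_mem_closure_form haa hbb (htop h)
  swap
  · refine absurd ?_ hh2
    rw [mul_assoc, ← mul_assoc (c ^ k), Local.dih_zpow_mul hinv, mul_assoc, ← zpow_add,
      neg_add_cancel, zpow_zero, mul_one, haa]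
  have hk1 : c ^ k ≠ 1 := fun h => hh2 (by rw [h, one_mul])
  obtain ⟨m, hm⟩ : Odd (orderOf (c ^ k)) := by
    by_contra h
    obtain ⟨m, hm⟩ := Nat.not_odd_iff_even.1 h
    have h1 : (c ^ k) ^ m = 1 := by
      rw [← zpow_natCast, ← zpow_mul]
      refine hodd _ ?_
      rw [zpow_mul, zpow_natCast, ← pow_add, ← hm, pow_orderOf_eq_one]
    have h2 := Nat.le_of_dvd (by have := orderOf_pos (c ^ k); omega) (orderOf_dvd_of_pow_eq_one h1)
    have := orderOf_pos (c ^ k)
    omega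
  have h1 : c ^ (k * m) * a * (c ^ (k * m))⁻¹ = a * c ^ k := by
    rw [Local.dih_conj hinv]
    congr 1
    rw [zpow_neg, inv_eq_iff_mul_eq_one, ← zpow_add, show 2 * (k * m) + k = k * (2 * m + 1 : ℕ) by
      push_cast; ring, zpow_mul, zpow_natCast, ← hm, pow_orderOf_eq_one]
  refine ⟨c ^ k, 0, ⟨1, c ^ (k * m), a, by rwa [cj_one], a * c ^ k, h1 ▸ conj_mem_cj.2 ha, fun h2 => ?_,
    fun h2 => ?_, by rw [← mul_assoc, haa, one_mul]⟩, by rw [pow_zero, pow_one]; exact mem_zpowers _⟩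
  · rw [← cj_normalizer] at h2
    rcases hmem _ (mem_cj.1 (cj_mono _ hN h2)) with h3 | h3
    · exact ha1' (by simpa using (conj_eq_one_iff (a := (c ^ (k * m))⁻¹)).1 (by rwa [inv_inv]))
    · rw [← h3, show c ^ (k * m) * ((c ^ (k * m))⁻¹ * a * c ^ (k * m)) * (c ^ (k * m))⁻¹ = a by
        group, h3] at h1
      exact hk1 (left_eq_mul.1 h1)
  · rw [cj_one] at h2
    rcases hmem _ (hN h2) with h3 | h3
    · refine hh2 ?_
      rw [eq_inv_of_mul_eq_one_right h3, ← mul_inv_rev, haa, inv_one]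
    · exact hk1 (mul_eq_left.1 h3)

section Sz

open Cfsg.Lib.Chev

variable {F : Type*} [Field F] [Fintype F] {τ : Tw F} (M : SzModel τ X)

omit [Fintype F] in
theorem smul_eq_of_mem_normalizer_Zat {a : M.Pt} {g : X}
    (hg : g ∈ normalizer (M.Zat a : Set X)) : g • a = a := by
  obtain ⟨z, hz, hz1⟩ := M.exists_mem_Zat_ne_one a
  exact M.smul_eq_of_conj_mem_Pat (M.Zat_le_Pat a hz) hz1
    (M.Zat_le_Pat a (mem_normalizer_conj hg hz))

theorem good_Z : Good 2 M.Z := by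
  have := M.finite
  refine ⟨fun V h1 h2 h3 h4 => ?_, fun h hh => ?_⟩
  · have h5 : V ≤ M.Z := fun v hv => M.mem_Z_iff.2
      ⟨smul_eq_of_mem_normalizer_Zat M (by rw [M.Zat_inf]; exact h3 hv), ea_pow h1 hv⟩
    refine le_antisymm h5 ?_
    obtain ⟨v, hv, hv1⟩ := (V.bot_or_exists_ne_one).resolve_left h2
    obtain ⟨b, rfl⟩ := h5 hv
    have hb : b ≠ 0 := fun h => hv1 (by rw [h, M.T_zero])
    rintro _ ⟨c, rfl⟩
    by_cases hc : c = 0
    · rw [hc, M.T_zero]; exact one_mem _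
    obtain ⟨l, hl⟩ := τ.exists_unit_θ_mul_sq (div_ne_zero hc hb)
    have h6 := mem_normalizer_conj (h4 (mem_normalizer_of_conj_mem fun x hx =>
      M.conj_mem_Z (M.H_le_B (M.D_mem_H l)) hx)) hv
    rwa [M.D_conj_T, hl, mul_zero, div_mul_cancel₀ _ hb] at h6
  have hh2 : h ^ 2 ≠ 1 := by simpa using not_pow_eq_one hh 1
  obtain ⟨U, hU, hhU⟩ : ∃ U, M.IsTorus U ∧ h ∈ U := by
    rcases M.trichotomy h with ⟨a, ha⟩ | ⟨a, b, hab, h1⟩ | h1
    · exact absurd (M.mem_Pat.1 ha).2 (by simpa using not_pow_eq_one hh 2)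
    · exact ⟨_, Or.inl ⟨a, b, hab, rfl⟩, h1⟩
    · exact ⟨_, Or.inr ⟨h, h1, rfl⟩, mem_centralizer_singleton_iff.2 rfl⟩
  obtain ⟨⟨t, ht⟩, ht2⟩ := exists_prime_orderOf_dvd_card' (G := normalizer (U : Set X)) 2 (by
    rcases hU.card_normalizer with h1 | h1 <;> rw [h1]
    · exact Dvd.intro _ rfl
    · exact Dvd.intro (2 * Nat.card U) (by ring))
  rw [← orderOf_coe] at ht2
  have htt : t ^ 2 = 1 := ht2 ▸ pow_orderOf_eq_one t
  have ht1 : t ≠ 1 := Local.ne_one_of_orderOf_two ht2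
  have h1 := hU.inverts ht ht1 htt hhU
  have hti : t⁻¹ = t := Local.inv_eq_self_of_orderOf_two ht2
  have h2 : (t * h) ^ 2 = 1 := by
    rw [hti] at h1
    rw [pow_two, ← mul_assoc, h1, inv_mul_cancel]
  have h3 : h = t * (t * h) := by rw [← mul_assoc, ← pow_two, htt, one_mul]
  have h4 : t * h ≠ 1 := fun h5 => hh2 (by rw [h3, h5, mul_one, htt])
  obtain ⟨a, ha⟩ := M.exists_mem_Zat_of_sq htt
  obtain ⟨b, hb⟩ := M.exists_mem_Zat_of_sq h2
  have hab : a ≠ b := by
    rintro rfl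
    exact hh2 (M.mem_Zat.1 (h3.symm ▸ mul_mem ha hb : h ∈ M.Zat a)).2
  obtain ⟨x, rfl⟩ := M.exists_smul_inf a
  obtain ⟨g, rfl⟩ := M.exists_smul_inf b
  have key : ∀ z : X, cj z M.Z = M.Zat (z • M.inf) := fun z => by rw [M.Zat_smul, M.Zat_inf]
  refine ⟨h, 0, ⟨x, g, t, key x ▸ ha, t * h, key g ▸ hb, fun h5 => hab ?_, fun h5 => hab ?_, h3⟩,
    by simp⟩
  · rw [key] at h5
    exact (M.eq_of_mem_Pat ht1 (M.Zat_le_Pat _ ha) (smul_eq_of_mem_normalizer_Zat M h5)).symm
  · rw [key] at h5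
    exact M.eq_of_mem_Pat h4 (M.Zat_le_Pat _ hb) (smul_eq_of_mem_normalizer_Zat M h5)

include M in
theorem good_sz {Y : Subgroup X} (hY : IsElementaryAbelian 2 Y) (hc : Nat.card Y = Fintype.card F) :
    Good 2 Y := by
  have := M.finite
  obtain ⟨a, ha⟩ := M.exists_le_Pat (ea_isPGroup hY)
  have h1 : Y = M.Zat a := eq_of_le_of_card_ge
    (fun y hy => M.mem_Zat.2 ⟨(M.mem_Pat.1 (ha hy)).1, ea_pow hY hy⟩) (by rw [M.card_Zat, hc])
  obtain ⟨x, rfl⟩ := M.exists_smul_inf a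
  rw [h1, M.Zat_smul, M.Zat_inf]
  exact (good_Z M).cj x

end Sz

section SL

open Cfsg.Lib.Class Matrix
open scoped MatrixGroups

variable {F : Type*} [Field F]

/-- Upper unitriangular matrices. -/
def slUgrp (F : Type*) [Field F] : Subgroup SL(2, F) where
  carrier := Set.range slU
  one_mem' := ⟨0, slU_zero⟩
  mul_mem' := by
    rintro _ _ ⟨a, rfl⟩ ⟨b, rfl⟩
    exact ⟨a + b, slU_add a b⟩
  inv_mem' := by
    rintro _ ⟨a, rfl⟩
    exact ⟨-a, slU_neg a⟩

theorem eq_zero_of_mem_normalizer {g : SL(2, F)}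
    (hg : g ∈ normalizer (slUgrp F : Set SL(2, F))) : g 1 0 = 0 := by
  obtain ⟨b, hb⟩ := mem_normalizer_conj hg (⟨1, rfl⟩ : slU 1 ∈ slUgrp F)
  have h1 := sl2_conj_slU_one_zero g 1
  rw [← hb] at h1
  have h2 : (slU b : SL(2, F)) 1 0 = 0 := rfl
  rw [h2, one_mul, zero_eq_neg] at h1
  exact pow_eq_zero_iff two_ne_zero |>.1 h1

/-- The Weyl element. -/
def slW (F : Type*) [Field F] : SL(2, F) := ⟨!![0, -1; 1, 0], by simp [Matrix.det_fin_two]⟩

theorem coe_slW : (slW F : Matrix (Fin 2) (Fin 2) F) = !![0, -1; 1, 0] := rfl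

theorem coe_slW_inv : (((slW F)⁻¹ : SL(2, F)) : Matrix (Fin 2) (Fin 2) F) = !![0, 1; -1, 0] := by
  rw [Matrix.SpecialLinearGroup.coe_inv, coe_slW, adjugate_fin_two]
  simp

theorem slW_conj (c : F) : slW F * slU (-c) * (slW F)⁻¹ = slV c := by
  rw [mul_inv_eq_iff_eq_mul]
  ext i j
  fin_cases i <;> fin_cases j <;> simp [coe_slW, Matrix.mul_apply, Fin.sum_univ_two]

theorem slW_conj' (c : F) : (slW F)⁻¹ * slU (-c) * slW F = slV c := by
  rw [mul_assoc, inv_mul_eq_iff_eq_mul]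
  ext i j
  fin_cases i <;> fin_cases j <;> simp [coe_slW, Matrix.mul_apply, Fin.sum_univ_two]

theorem tw2_uv {s c : F} (hs : s ≠ 0) (hc : c ≠ 0) : Tw2 (slUgrp F) (slU s * slV c) := by
  refine ⟨1, slW F, slU s, by rw [cj_one]; exact ⟨s, rfl⟩, slV c, ?_, fun h => hs ?_,
    fun h => hc ?_, rfl⟩
  · rw [← slW_conj, conj_mem_cj]
    exact ⟨_, rfl⟩
  · rw [← cj_normalizer, mem_cj, ← neg_neg s, slW_conj'] at h
    exact neg_eq_zero.1 (eq_zero_of_mem_normalizer h)
  · rw [cj_one] at h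
    exact eq_zero_of_mem_normalizer h

theorem tw2_of_ne {h : SL(2, F)} (hc : h 1 0 ≠ 0) (ht : h 0 0 + h 1 1 ≠ 2) : Tw2 (slUgrp F) h := by
  have h1 := (tw2_uv (s := (h 0 0 + h 1 1 - 2) / h 1 0) (div_ne_zero (sub_ne_zero.2 ht) hc) hc).conj
    (slU ((1 - h 1 1) / h 1 0))
  convert h1 using 1
  have hd := sl2c_det h
  rw [← slU_neg]
  ext i j
  fin_cases i <;> fin_cases j <;> simp [Matrix.mul_apply, Fin.sum_univ_two] <;>
    field_simp <;> first | ring1 | linear_combination -hd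

theorem tw2_of_not_scalar {h : SL(2, F)} (hs : ¬ (h 1 0 = 0 ∧ h 0 1 = 0 ∧ h 0 0 = h 1 1))
    (ht : h 0 0 + h 1 1 ≠ 2) : Tw2 (slUgrp F) h := by
  by_cases hc : h 1 0 = 0
  swap
  · exact tw2_of_ne hc ht
  by_cases hb : h 0 1 = 0
  · have h1 := (tw2_of_ne (h := slV 1 * h * slV (-1)) ?_ ?_).conj (slV (-1))
    · convert h1 using 1
      rw [slV_neg]
      group
    · simp [Matrix.mul_apply, Fin.sum_univ_two, vecMul, dotProduct, hb, hc]
      intro h2
      exact hs ⟨hc, hb, by linear_combination h2⟩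
    · simpa [Matrix.mul_apply, Fin.sum_univ_two, vecMul, dotProduct, hb, hc] using ht
  · have h1 := (tw2_of_ne (h := slW F * h * (slW F)⁻¹) ?_ ?_).conj (slW F)⁻¹
    · convert h1 using 1
      group
    · simpa [coe_slW, coe_slW_inv, Matrix.mul_apply, Fin.sum_univ_two, vecMul, dotProduct,
        -Matrix.SpecialLinearGroup.coe_inv] using hb
    · simpa [coe_slW, coe_slW_inv, Matrix.mul_apply, Fin.sum_univ_two, vecMul, dotProduct,
        -Matrix.SpecialLinearGroup.coe_inv,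
        add_comm] using ht

theorem pow_char_of_trace [Fact p.Prime] [CharP F p] {h : SL(2, F)} (ht : h 0 0 + h 1 1 = 2) :
    h ^ p = 1 := by
  have hd := sl2c_det h
  have h1 : (h.1 - 1) ^ 2 = 0 := by
    ext i j
    fin_cases i <;> fin_cases j <;>
      simp [pow_two, Matrix.mul_apply, Fin.sum_univ_two, Matrix.one_apply]
    · linear_combination h 0 0 * ht - hd
    · linear_combination h 0 1 * ht
    · linear_combination h 1 0 * ht
    · linear_combination h 1 1 * ht - hd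
  have h2 : (h.1 - 1) ^ p = 0 := pow_eq_zero_of_le (Fact.out : p.Prime).two_le h1
  rw [sub_pow_char_of_commute _ (Commute.one_right _), one_pow, sub_eq_zero] at h2
  exact Subtype.ext ((Matrix.SpecialLinearGroup.coe_pow h p).trans h2)

theorem isPGroup_slUgrp [CharP F p] : IsPGroup p (slUgrp F) := by
  refine PG.isPGroup_of_forall_mem ?_
  rintro _ ⟨b, rfl⟩
  refine ⟨1, ?_⟩
  have : ∀ n : ℕ, slU b ^ n = slU (n * b) := fun n => by
    induction n with
    | zero => simp [slU_zero]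
    | succ n ih => rw [pow_succ, ih, ← slU_add]; congr 1; push_cast; ring
  rw [pow_one, this, CharP.cast_eq_zero, zero_mul, slU_zero]

variable [Fintype F]

theorem card_slUgrp : Nat.card (slUgrp F) = Fintype.card F := by
  rw [← Nat.card_eq_fintype_card]
  exact (Nat.card_congr (Equiv.ofInjective _ slU_injective)).symm

theorem isSylowIn_slUgrp [hp : Fact p.Prime] [CharP F p] : IsSylowIn p (slUgrp F) ⊤ := by
  refine ⟨le_top, isPGroup_slUgrp, ?_⟩
  have h1 := (slUgrp F).card_mul_index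
  rw [card_slUgrp, card_SL_fin_two rfl] at h1
  rw [relIndex_top_right, Nat.eq_of_mul_eq_mul_left Fintype.card_pos h1]
  obtain ⟨n, -, hn⟩ := FiniteField.card F p
  intro h2
  have h3 : p ∣ Fintype.card F ^ 2 := dvd_pow (hn ▸ dvd_pow_self p n.ne_zero) two_ne_zero
  have h4 := Nat.dvd_sub h3 h2
  rw [Nat.sub_sub_self (Nat.one_le_pow _ _ Fintype.card_pos)] at h4
  exact hp.out.one_lt.ne' (Nat.dvd_one.1 h4)

theorem good_slUgrp [hp : Fact p.Prime] [CharP F p] : Good p (slUgrp F) := by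
  refine ⟨fun V h1 h2 h3 h4 => ?_, fun h hh => ?_⟩
  · have h5 : V ≤ slUgrp F := le_sup_left.trans (isSylowIn_slUgrp.eq_of_le
      (isPGroup_sup (ea_isPGroup h1) isPGroup_slUgrp h3) le_sup_right le_top).le
    refine le_antisymm h5 ?_
    obtain ⟨v, hv, hv1⟩ := (V.bot_or_exists_ne_one).resolve_left h2
    obtain ⟨b, rfl⟩ := h5 hv
    have hb : b ≠ 0 := fun h => hv1 (by rw [h, slU_zero])
    have h6 : ∀ a : F, slU (a ^ 2 * b) ∈ V := fun a => by
      by_cases ha : a = 0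
      · rw [ha, zero_pow two_ne_zero, zero_mul, slU_zero]; exact one_mem _
      let d : SL(2, F) := ⟨!![a, 0; 0, a⁻¹], by simp [Matrix.det_fin_two, ha]⟩
      have h7 := mem_normalizer_conj (h4 (mem_normalizer_of_conj_mem (g := d) (by
        rintro _ ⟨x, rfl⟩
        exact ⟨_, (conj_slU d rfl x).symm⟩))) hv
      rwa [conj_slU d rfl] at h7
    rintro _ ⟨c, rfl⟩
    by_cases h2' : (2 : F) = 0
    · have : CharP F 2 := (CharP.charP_iff_prime_eq_zero Nat.prime_two).2 h2'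
      obtain ⟨a, ha⟩ := FiniteField.isSquare_of_char_two (ringChar.eq F 2) (c / b)
      have := h6 a
      rwa [pow_two, ← ha, div_mul_cancel₀ _ hb] at this
    · have := mul_mem (h6 ((c / b + 1) / 2)) (inv_mem (h6 ((c / b - 1) / 2)))
      rwa [← slU_neg, ← slU_add, show ((c / b + 1) / 2) ^ 2 * b + -(((c / b - 1) / 2) ^ 2 * b) = c by
        field_simp; ring] at this
  have ht : h 0 0 + h 1 1 ≠ 2 := fun h1 => not_pow_eq_one hh 1 (by
    rw [pow_one]; exact pow_char_of_trace h1)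
  by_cases hs : h 1 0 = 0 ∧ h 0 1 = 0 ∧ h 0 0 = h 1 1
  swap
  · exact ⟨h, 0, tw2_of_not_scalar hs ht, by simp⟩
  obtain ⟨h1, h2, h3⟩ := hs
  have hc : Commute h (slU 1) := by
    ext i j
    fin_cases i <;> fin_cases j <;> simp [Matrix.mul_apply, Fin.sum_univ_two, h1, h2, h3]
  refine ⟨h * slU 1, 1, tw2_of_not_scalar ?_ ?_, ?_⟩
  · have hd := sl2c_det h
    simp [Matrix.mul_apply, Fin.sum_univ_two, h1, h2, h3]
    intro h4
    rw [h4, h1] at hd
    simp at hd
  · rwa [sl2_trace_mul_slU, h1, mul_zero, add_zero]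
  · rw [hc.mul_pow, pow_one, pow_char_of_trace (h := slU 1) (by simp; norm_num), mul_one]
    exact npow_mem_zpowers h p

theorem good_sl [hp : Fact p.Prime] {Y : Subgroup SL(2, F)} (hY : IsPGroup p Y) (h0 : Y ≠ ⊥)
    (hc : Nat.card Y = Fintype.card F) : Good p Y := by
  have : CharP F p := by
    obtain ⟨n, hn⟩ := hY.exists_card_eq
    obtain ⟨r, hr⟩ := CharP.exists F
    obtain ⟨k, hr', hk⟩ := FiniteField.card F r
    have hn0 : n ≠ 0 := by
      rintro rfl
      exact h0 (card_eq_one.1 hn)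
    have h1 : p ∣ r ^ (k : ℕ) := by rw [← hk, ← hc, hn]; exact dvd_pow_self p hn0
    rwa [(Nat.prime_dvd_prime_iff_eq hp.out hr').1 (hp.out.dvd_of_dvd_pow h1)]
  obtain ⟨x, -, hx⟩ := isSylowIn_slUgrp.exists_cj_le hY le_top
  have h1 : cj x Y = slUgrp F := eq_of_le_of_card_ge hx (by rw [card_cj, hc, card_slUgrp])
  rw [cj_eq_iff_eq_cj_inv.1 h1]
  exact good_slUgrp.cj _

end SL

end Cfsg.Lib.FrakM
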