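import Cfsg.Agent.Local.WeaklyClosed

/-!
Self-centralizing weakly closed subgroups and large subgroups.
-/

set_option autoImplicit false

namespace Cfsg.Lib.Local

open Subgroup Cfsg.Lib.Trans
open scoped Pointwise commutatorElement

variable {G : Type*} [Group G] {G' : Type*} [Group G'] {p : ℕ}

/-- A `p`-group `Q` normal in `N_G(R)` for all `p`-overgroups `R` is weakly closed. -/
theorem wc_of_normalizer_le [Finite G] [Fact p.Prime] {Q : Subgroup G} (hQ : IsPGroup p Q)
    (h : ∀ R : Subgroup G, IsPGroup p R → Q ≤ R →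
      normalizer (R : Set G) ≤ normalizer (Q : Set G)) : WC p Q := by
  obtain ⟨T, hT, hQT⟩ := exists_isSylowIn_ge hQ (le_top (a := Q))
  refine wc_of_sylow hT hQT fun g hg => ?_
  have hg' : Q ≤ cj g⁻¹ T := cj_le_iff_le_cj_inv.1 hg
  have h1 : IsSylowIn p T (normalizer (Q : Set G)) :=
    hT.mono (le_normalizer.trans (h T hT.isPGroup hQT)) le_top
  have h2 : IsSylowIn p (cj g⁻¹ T) (normalizer (Q : Set G)) :=
    (hT.cj_of_mem (mem_top _)).mono
      (le_normalizer.trans (h _ (isPGroup_cj hT.isPGroup _) hg')) le_top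
  obtain ⟨n, hn, e⟩ := h1.exists_cj_eq h2
  rw [cj_cj, cj_eq_self_iff] at e
  have := h T hT.isPGroup hQT e
  rw [cj_eq_self_iff]
  simpa using inv_mem ((mul_mem_cancel_left hn).1 this)

/-- A `p`-group `Q` equal to every conjugate that normalizes it and is normalized by it is weakly
closed. -/
theorem wc_of_forall_normalizer [Finite G] [Fact p.Prime] {Q : Subgroup G} (hQ : IsPGroup p Q)
    (h : ∀ g : G, cj g Q ≤ normalizer (Q : Set G) → Q ≤ normalizer (cj g Q : Set G) →
      cj g Q = Q) : WC p Q := by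
  have key : ∀ R : Subgroup G, IsPGroup p R → Q ≤ R → R ≤ normalizer (Q : Set G) := by
    intro R hR hQR
    by_contra hcon
    have hlt : R ⊓ normalizer (Q : Set G) < R :=
      lt_of_le_of_ne inf_le_left fun e => hcon (inf_eq_left.1 e)
    obtain ⟨x, hx, hxn⟩ := SetLike.exists_of_lt (lt_inf_normalizer hR hlt)
    have hQ' : Q ≤ R ⊓ normalizer (Q : Set G) := le_inf hQR le_normalizer
    have e := cj_eq_of_mem_normalizer hx.2
    refine hxn ⟨hx.1, cj_eq_self_iff.1 (h x ?_ ?_)⟩
    · exact ((cj_mono x hQ').trans e.le).trans inf_le_right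
    · rw [← cj_normalizer]
      exact (hQ'.trans e.ge).trans (cj_mono x inf_le_right)
  refine ⟨hQ, fun g R hR h1 h2 => h g (h2.trans (key R hR h1)) ?_⟩
  rw [← cj_normalizer, ← cj_inv_le_iff_le_cj]
  exact (cj_mono _ h1).trans (key _ (isPGroup_cj hR _) (cj_le_iff_le_cj_inv.1 h2))

/-- Three subgroups style stability: conjugates of `Q` under `D` act on `V` into `[V, Q]` when `D`
normalizes `V` and centralizes `[V, Q]`. -/
theorem commutator_cj_eq_of_centralizes {V Q : Subgroup G} {d : G}
    (hV : d ∈ normalizer (V : Set G)) (hd : d ∈ centralizer ((⁅V, Q⁆ : Subgroup G) : Set G)) :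
    ⁅V, cj d Q⁆ = ⁅V, Q⁆ := by
  rw [← cj_eq_of_mem_centralizer hd, cj_commutator, cj_eq_of_mem_normalizer hV]

namespace WC

variable {Q : Subgroup G} [Finite G] [Fact p.Prime]

/-- Overgroups of a self-centralizing weakly closed subgroup inside a group of characteristic
`p`. -/
theorem centralizer_pCoreOf_of_charP (h : WC p Q) {H L : Subgroup G} (hH : CharP p H)
    (hC : H ⊓ centralizer (Q : Set G) ≤ Q) (hQL : Q ≤ L) (hLH : L ≤ H) :
    ⁅Q, H ⊓ centralizer (pCoreOf p L : Set G)⁆ ≤ Q ⊓ pCoreOf p L ∧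
      IsPGroup p (H ⊓ centralizer (pCoreOf p L : Set G) : Subgroup G) ∧ CharP p L := by
  set D := H ⊓ centralizer (pCoreOf p L : Set G) with hD
  have hLD : L ≤ normalizer (D : Set G) := Solv.le_normalizer_inf (hLH.trans le_normalizer)
    (Solv.le_normalizer_centralizer (le_normalizer_pCoreOf L))
  have hVQ : ⁅pCoreOf p H, Q⁆ ≤ pCoreOf p L :=
    ((commutator_le_inf_of_le_normalizer (h.pCoreOf_le_normalizer (hQL.trans hLH))
      ((hQL.trans hLH).trans (le_normalizer_pCoreOf H))).trans
      (inf_le_inf_left _ hQL)).trans (pCoreOf_inf_le hLH)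
  have hDc : D ≤ centralizer ((⁅pCoreOf p H, Q⁆ : Subgroup G) : Set G) :=
    inf_le_right.trans (centralizer_le hVQ)
  have hDQ : ⁅D, Q⁆ ≤ D := Solv.commutator_le_left_of_le_normalizer (hQL.trans hLD)
  have h1 : IsPGroup p (⁅D, Q⁆ : Subgroup G) := by
    refine hH.isPGroup_of_commutator_le (U := ⁅pCoreOf p H, Q⁆) (hDQ.trans inf_le_left) ?_
      (hDQ.trans hDc)
    refine (commutator_mono le_rfl (commutator_le_iSup_cj D Q)).trans
      (commutator_iSup_le (fun d => ?_) fun d => ?_)
    · rw [← commutator_cj_eq_of_centralizes (le_normalizer_pCoreOf H d.2.1) (hDc d.2)]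
      exact Solv.right_le_normalizer_commutator _ _
    · exact (commutator_cj_eq_of_centralizes (le_normalizer_pCoreOf H d.2.1) (hDc d.2)).le
  have h2 : D ≤ normalizer (Q : Set G) :=
    (le_sup_left.trans (Solv.sup_le_normalizer_commutator_sup D Q)).trans
      (h.normalizer_le (isPGroup_sup' h1 h.isPGroup (Solv.right_le_normalizer_commutator _ _))
        le_sup_right)
  have h3 : ⁅Q, D⁆ ≤ Q ⊓ D := commutator_le_inf_of_le_normalizer (hQL.trans hLD) h2
  have h4 : Q ⊓ D ≤ pCoreOf p L := by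
    refine le_trans ?_ (le_pCoreOf (N := pCoreOf p D ⊓ L) inf_le_right
      (Solv.le_normalizer_inf (hLD.trans (normalizer_le_normalizer_pCoreOf D)) le_normalizer)
      (isPGroup_pCoreOf D).to_inf_left)
    exact le_inf (le_pCoreOf inf_le_right (Solv.le_normalizer_inf h2 le_normalizer)
      h.isPGroup.to_inf_left) (inf_le_left.trans hQL)
  have h5 : IsPGroup p D := isPGroup_of_resOf_le h.isPGroup
    ((le_inf ((resOf_le D).trans inf_le_left) (resOf_le_centralizer_of_commutator_le
      (isPGroup_pCoreOf L) (h3.trans h4) inf_le_right)).trans hC)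
  exact ⟨le_inf (h3.trans inf_le_left) (h3.trans h4), h5,
    charP_of_isPGroup_inf (h5.to_le (inf_le_inf_right _ hLH))⟩

/-- The same, assuming only that `C_G(y)` has characteristic `p` for some `y ∈ C_{O_p(L)}(Q)`. -/
theorem centralizer_pCoreOf_of_charP_centralizer (h : WC p Q) {L : Subgroup G}
    (hC : centralizer (Q : Set G) ≤ Q) (hQL : Q ≤ L) {y : G} (hy : y ∈ pCoreOf p L)
    (hyQ : y ∈ centralizer (Q : Set G)) (hH : CharP p (centralizer ({y} : Set G))) :
    ⁅Q, centralizer (pCoreOf p L : Set G)⁆ ≤ Q ⊓ pCoreOf p L ∧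
      IsPGroup p (centralizer (pCoreOf p L : Set G)) ∧ CharP p L := by
  set D := centralizer (pCoreOf p L : Set G) with hD
  have hX : pCoreOf p L ≤ pCoreOf p (L ⊔ D) :=
    le_pCoreOf ((pCoreOf_le L).trans le_sup_left)
      (sup_le (le_normalizer_pCoreOf L) (centralizer_le_normalizer _)) (isPGroup_pCoreOf L)
  have hQy : Q ≤ centralizer ({y} : Set G) := fun q hq =>
    mem_centralizer_singleton_iff.2 (hyQ q hq)
  have h1 := (h.centralizer_pCoreOf_of_charP hH (inf_le_right.trans hC)
    (L := (L ⊔ D) ⊓ centralizer ({y} : Set G)) (le_inf (hQL.trans le_sup_left) hQy)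
    inf_le_right).2.2
  have h2 : CharP p (L ⊔ D) := h1.of_centralizer_le inf_le_left
    (inf_le_inf_left _ (centralizer_le (Set.singleton_subset_iff.2 (hX hy))))
  have h3 := h.centralizer_pCoreOf_of_charP h2 (inf_le_right.trans hC) hQL le_sup_left
  rwa [inf_eq_right.2 (le_sup_right : D ≤ L ⊔ D)] at h3

end WC

/-! ### Large subgroups -/

/-- A nontrivial large `p`-subgroup. -/
structure Large (p : ℕ) (Q : Subgroup G) : Prop where
  isPGroup : IsPGroup p Q
  ne_bot : Q ≠ ⊥
  isLarge : IsLarge Q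

namespace Large

variable {Q : Subgroup G}

theorem centralizer_le (h : Large p Q) : centralizer (Q : Set G) ≤ Q := h.isLarge.1

theorem normalizer_le (h : Large p Q) {U : Subgroup G} (hU : U ≤ centralizer (Q : Set G))
    (h1 : U ≠ ⊥) : normalizer (U : Set G) ≤ normalizer (Q : Set G) := h.isLarge.2 U hU h1

theorem centralizer_le_normalizer (h : Large p Q) {U : Subgroup G}
    (h1 : U ⊓ centralizer (Q : Set G) ≠ ⊥) : centralizer (U : Set G) ≤ normalizer (Q : Set G) :=
  ((Subgroup.centralizer_le (SetLike.coe_subset_coe.2 inf_le_left)).trans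
    (Subgroup.centralizer_le_normalizer _)).trans (h.normalizer_le inf_le_right h1)

theorem centralizer_singleton_le (h : Large p Q) {y : G} (hy : y ∈ centralizer (Q : Set G))
    (h1 : y ≠ 1) : centralizer ({y} : Set G) ≤ normalizer (Q : Set G) := by
  refine le_trans (fun c hc => ?_) (h.normalizer_le (zpowers_le.2 hy) (zpowers_ne_bot.2 h1))
  apply Subgroup.centralizer_le_normalizer
  rw [zpowers_eq_closure, centralizer_closure]
  exact hc

protected theorem cj (h : Large p Q) (g : G) : Large p (cj g Q) := by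
  refine ⟨isPGroup_cj h.isPGroup g, fun e => h.ne_bot (cj_eq_bot.1 e), ?_, fun U hU h1 => ?_⟩
  · rw [← cj_centralizer]
    exact cj_mono g h.centralizer_le
  · rw [← cj_centralizer, ← cj_inv_le_iff_le_cj] at hU
    have := h.normalizer_le hU fun e => h1 (cj_eq_bot.1 e)
    rwa [← cj_normalizer, cj_inv_le_iff_le_cj, cj_normalizer] at this

variable [Finite G] [Fact p.Prime]

theorem wc (h : Large p Q) : WC p Q := by
  refine wc_of_normalizer_le h.isPGroup fun R hR hQR => ?_
  refine le_trans (Solv.le_normalizer_inf le_rfl (Solv.normalizer_le_normalizer_centralizer R))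
    (h.normalizer_le (U := R ⊓ centralizer (R : Set G))
      (inf_le_right.trans (Subgroup.centralizer_le hQR)) ?_)
  exact Solv.PG.inf_centralizer_ne_bot hR hR le_normalizer
    fun e => h.ne_bot (eq_bot_iff.2 (hQR.trans e.le))

theorem cj_eq_of_inf_ne_bot (h : Large p Q) {g : G}
    (h1 : centralizer (Q : Set G) ⊓ centralizer (cj g Q : Set G) ≠ ⊥) : cj g Q = Q :=
  h.wc.cj_eq_of_le_normalizer (((le_centralizer_iff.1 inf_le_right).trans
    (Subgroup.centralizer_le_normalizer _)).trans (h.normalizer_le inf_le_left h1))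

theorem centralizer_inf_eq_bot (h : Large p Q) {g : G} (hg : g ∉ normalizer (Q : Set G)) :
    centralizer (Q : Set G) ⊓ centralizer (cj g Q : Set G) = ⊥ := by
  by_contra h1
  exact hg (cj_eq_self_iff.1 (h.cj_eq_of_inf_ne_bot h1))

theorem le_bullet (h : Large p Q) : Q ≤ largeBullet p Q :=
  le_pCoreOf le_normalizer le_rfl h.isPGroup

theorem normalizer_bullet (h : Large p Q) :
    normalizer (largeBullet p Q : Set G) = normalizer (Q : Set G) :=
  le_antisymm (h.wc.normalizer_le (isPGroup_pCoreOf _) h.le_bullet) (le_normalizer_pCoreOf _)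

/-- A `p`-overgroup of `Q` normalized by `N_G(Q)` is large. -/
theorem of_le (h : Large p Q) {R : Subgroup G} (hR : IsPGroup p R) (hQR : Q ≤ R)
    (hn : normalizer (Q : Set G) ≤ normalizer (R : Set G)) : Large p R :=
  ⟨hR, fun e => h.ne_bot (eq_bot_iff.2 (hQR.trans e.le)),
    ((Subgroup.centralizer_le hQR).trans h.centralizer_le).trans hQR,
    fun _ hU h1 => (h.normalizer_le (hU.trans (Subgroup.centralizer_le hQR)) h1).trans hn⟩

theorem bullet (h : Large p Q) : Large p (largeBullet p Q) :=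
  h.of_le (isPGroup_pCoreOf _) h.le_bullet h.normalizer_bullet.ge

/-- `C_G(Y)` normalizes `Q` for every nontrivial `p`-subgroup `Y` normalized by `Q`. -/
theorem centralizer_le_normalizer_of_le_normalizer (h : Large p Q) {Y : Subgroup G}
    (hY : IsPGroup p Y) (h1 : Y ≠ ⊥) (hn : Q ≤ normalizer (Y : Set G)) :
    centralizer (Y : Set G) ≤ normalizer (Q : Set G) :=
  h.centralizer_le_normalizer (Solv.PG.inf_centralizer_ne_bot h.isPGroup hY hn h1)

theorem centralizer_le_normalizer_cj (h : Large p Q) {L Y : Subgroup G}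
    (hY : IsPGroup p Y) (h1 : Y ≠ ⊥) (hn : L ≤ normalizer (Y : Set G)) {g : G}
    (hg : cj g Q ≤ L) : centralizer (Y : Set G) ≤ normalizer (cj g Q : Set G) :=
  (h.cj g).centralizer_le_normalizer_of_le_normalizer hY h1 (hg.trans hn)

theorem weakClosure_sup_centralizer (h : Large p Q) {L Y : Subgroup G} (hQL : Q ≤ L)
    (hY : IsPGroup p Y) (h1 : Y ≠ ⊥) (hn : L ≤ normalizer (Y : Set G)) :
    weakClosure Q (L ⊔ centralizer (Y : Set G)) = weakClosure Q L := by
  refine le_antisymm (h.wc.weakClosure_le_of_forall (hQL.trans le_sup_left) fun k hk => ?_)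
    (weakClosure_mono Q le_sup_left)
  obtain ⟨l, hl, c, hc, rfl⟩ :=
    (Solv.mem_sup_of_le_normalizer' (Solv.le_normalizer_centralizer hn)).1 hk
  rw [cj_mul, cj_eq_of_mem_normalizer
    (h.centralizer_le_normalizer_of_le_normalizer hY h1 (hQL.trans hn) hc)]
  exact cj_le_weakClosure (cj_le_of_mem_of_le hl hQL)

theorem centralizer_le_normalizer_weakClosure (h : Large p Q) {L Y : Subgroup G} (hQL : Q ≤ L)
    (hY : IsPGroup p Y) (h1 : Y ≠ ⊥) (hn : L ≤ normalizer (Y : Set G)) :
    centralizer (Y : Set G) ≤ normalizer (weakClosure Q L : Set G) := by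
  rw [← h.weakClosure_sup_centralizer hQL hY h1 hn]
  exact le_sup_right.trans (le_normalizer_weakClosure _ _)

theorem commutator_weakClosure_centralizer_le (h : Large p Q) {L Y : Subgroup G}
    (hY : IsPGroup p Y) (h1 : Y ≠ ⊥) (hn : L ≤ normalizer (Y : Set G)) :
    ⁅weakClosure Q L, centralizer (Y : Set G)⁆ ≤
      pCoreOf p (centralizer (Y : Set G)) ⊓ pCoreOf p (weakClosure Q L) := by
  have hW : L ≤ normalizer ((pCoreOf p (centralizer (Y : Set G)) ⊓ weakClosure Q L :
      Subgroup G) : Set G) :=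
    Solv.le_normalizer_inf ((Solv.le_normalizer_centralizer hn).trans
      (normalizer_le_normalizer_pCoreOf _)) (le_normalizer_weakClosure _ _)
  refine le_trans ?_ (le_inf inf_le_left (le_pCoreOf inf_le_right
    ((weakClosure_le Q L).trans hW) (isPGroup_pCoreOf _).to_inf_left))
  rw [Subgroup.commutator_comm]
  refine commutator_iSup_le (fun g => g.2.trans hW) fun g => ?_
  have h2 := h.centralizer_le_normalizer_cj hY h1 hn g.2
  refine (commutator_le_inf_of_le_normalizer h2
    (Solv.le_normalizer_centralizer (g.2.trans hn))).trans (le_inf ?_ ?_)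
  · exact le_pCoreOf inf_le_left (Solv.le_normalizer_inf le_normalizer h2)
      (isPGroup_cj h.isPGroup _).to_inf_right
  · exact inf_le_right.trans (cj_le_weakClosure g.2)

theorem charP_of_le_normalizer (h : Large p Q) {L : Subgroup G} (hQL : Q ≤ L)
    (hn : L ≤ normalizer (Q : Set G)) : CharP p L :=
  charP_of_le_pCoreOf (le_pCoreOf hQL hn h.isPGroup)
    (h.isPGroup.to_le (inf_le_right.trans h.centralizer_le))

theorem centralizer_pCoreOf (h : Large p Q) {L : Subgroup G} (hQL : Q ≤ L)
    (h1 : pCoreOf p L ≠ ⊥) :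
    ⁅Q, centralizer (pCoreOf p L : Set G)⁆ ≤ Q ⊓ pCoreOf p L ∧
      IsPGroup p (centralizer (pCoreOf p L : Set G)) ∧ CharP p L := by
  obtain ⟨⟨y, hy, hyQ⟩, hy1⟩ := ne_bot_iff_exists_ne_one.1 (Solv.PG.inf_centralizer_ne_bot
    h.isPGroup (isPGroup_pCoreOf L) (hQL.trans (le_normalizer_pCoreOf L)) h1)
  refine h.wc.centralizer_pCoreOf_of_charP_centralizer h.centralizer_le hQL hy hyQ
    (h.charP_of_le_normalizer (fun q hq => mem_centralizer_singleton_iff.2 (hyQ q hq))
      (h.centralizer_singleton_le hyQ fun e => hy1 (Subtype.ext e)))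

theorem charP (h : Large p Q) {L : Subgroup G} (hQL : Q ≤ L) (h1 : pCoreOf p L ≠ ⊥) :
    CharP p L := (h.centralizer_pCoreOf hQL h1).2.2

theorem weakClosure_eq_or (h : Large p Q) {L : Subgroup G} (hQL : Q ≤ L) :
    weakClosure Q L = Q ∨ centralizer (weakClosure Q L : Set G) = ⊥ := by
  rw [or_iff_not_imp_right]
  intro h1
  refine le_antisymm (weakClosure_le_iff.2 fun g hg => (h.cj_eq_of_inf_ne_bot fun e => h1 ?_).le)
    (le_weakClosure hQL)
  rw [eq_bot_iff, ← e]
  exact le_inf (Subgroup.centralizer_le (le_weakClosure hQL))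
    (Subgroup.centralizer_le (cj_le_weakClosure hg))

theorem centralizer_pCoreOf_le_of_sylow (h : Large p Q) {T R : Subgroup G} (hT : IsSylowIn p T ⊤)
    (hTR : T ≤ R) (h1 : pCoreOf p R ≠ ⊥) : centralizer (pCoreOf p R : Set G) ≤ pCoreOf p R := by
  obtain ⟨x, -, hx⟩ := hT.exists_cj_le h.isPGroup le_top
  have h2 := ((h.cj x).centralizer_pCoreOf (hx.trans hTR) h1).2.1
  have hn : R ≤ normalizer (centralizer (pCoreOf p R : Set G) : Set G) :=
    Solv.le_normalizer_centralizer (le_normalizer_pCoreOf R)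
  refine le_pCoreOf (le_trans ?_ hTR) hn h2
  exact le_sup_right.trans
    (hT.eq_of_le (isPGroup_sup hT.isPGroup h2 (hTR.trans hn)) le_sup_left le_top).le

theorem mem_charPSubgroups (h : Large p Q) {T R : Subgroup G} (hT : IsSylowIn p T ⊤)
    (hTR : T ≤ R) (h1 : pCoreOf p R ≠ ⊥) : R ∈ charPSubgroups p G :=
  ⟨fun e => h1 (pCoreOf_eq_bot_iff.2 e), h.centralizer_pCoreOf_le_of_sylow hT hTR h1⟩

theorem isOfParabolicCharacteristic (h : Large p Q) : IsOfParabolicCharacteristic p G := by
  rintro R hR h1 ⟨T, hT⟩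
  rw [← charP_iff]
  exact inf_le_right.trans (h.centralizer_pCoreOf_le_of_sylow (isSylowIn_top T) hT
    fun e => h1 (eq_bot_iff.2 ((le_pCoreOf le_normalizer le_rfl hR).trans e.le)))

end Large

end Cfsg.Lib.Local
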