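import Cfsg.Agent.Local.YMinimal
import Cfsg.Agent.Local.Large
import Cfsg.Agent.Local.Bar
import Cfsg.Agent.Local.Trace
import Cfsg.Agent.Local.FStarP

/-!
Subgroups with the basic property: the normalizers of `Y_M` and `O_p(M)`, and the asymmetric case.
-/

set_option autoImplicit false

namespace Cfsg.Lib.FrakM

open Subgroup Cfsg Cfsg.Lib.Local.MSS Cfsg.Lib.Solv Cfsg.Lib.Trans Cfsg.Lib.Trans.TJ
open Cfsg.Lib.Local (resOf CharP charP_iff charP_top_iff WC Large wc_of_sylow wc_iff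
  wc_of_forall_normalizer isPGroup_sup isPGroup_sup' commutator_le_inf_of_le_normalizer
  resOf_le_of_le_sup le_normalizer_of_commutator_le bar unbar)
open scoped Pointwise commutatorElement

variable {G : Type*} [Group G] {p : ℕ}

/-- `Y_M`. -/
abbrev yOf (p : ℕ) (M : Subgroup G) : Subgroup G := largestPReducedOf p M

/-- `M† = M C_G(Y_M)`. -/
abbrev dag (p : ℕ) (M : Subgroup G) : Subgroup G := M ⊔ centralizer (yOf p M : Set G)

theorem mem_charP_iff {L : Subgroup G} : L ∈ charPSubgroups p G ↔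
    pCoreOf p L ≠ ⊥ ∧ centralizer (pCoreOf p L : Set G) ≤ pCoreOf p L :=
  and_congr_left' (not_congr pCoreOf_eq_bot_iff.symm)

theorem charP_of_mem {L : Subgroup G} (h : L ∈ charPSubgroups p G) : CharP p L :=
  charP_of_centralizer_le (mem_charP_iff.1 h).2

theorem exists_max [Finite G] {L : Subgroup G} (h : L ∈ charPSubgroups p G) :
    ∃ X ∈ maxCharPSubgroups p G, L ≤ X := by
  obtain ⟨X, hLX, hX⟩ := exists_maximal_ge_of_wellFoundedGT (· ∈ charPSubgroups p G) L h
  exact ⟨X, ⟨hX.prop, fun K hK hXK => (hX.eq_of_le hK hXK).symm⟩, hLX⟩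

theorem asym_comm {Y : Subgroup G} (h : ¬ IsSymmetricIn Y) {g : G}
    (h1 : cj g Y ≤ normalizer (Y : Set G)) (h2 : Y ≤ normalizer (cj g Y : Set G)) :
    cj g Y ≤ centralizer (Y : Set G) := by
  by_contra h3
  exact h ⟨g, fun h4 => h3 (commutator_eq_bot_iff_le_centralizer'.1 h4),
    commutator_le_inf_of_le_normalizer h2 h1⟩

/-- Conjugates of an asymmetric subgroup `Y` under `N(R)`, `Y ≤ R ≤ N(Y)`, commute with `Y`. -/
theorem asym_comm_of_mem {Y R : Subgroup G} (h : ¬ IsSymmetricIn Y) (hYR : Y ≤ R)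
    (hR : R ≤ normalizer (Y : Set G)) {g : G} (hg : g ∈ normalizer (R : Set G)) :
    cj g Y ≤ centralizer (Y : Set G) := by
  have key : ∀ x ∈ normalizer (R : Set G), cj x Y ≤ normalizer (Y : Set G) := fun x hx =>
    ((cj_mono x hYR).trans (cj_eq_of_mem_normalizer hx).le).trans hR
  refine asym_comm h (key g hg) ?_
  rw [← cj_normalizer, ← cj_inv_le_iff_le_cj]
  exact key _ (inv_mem hg)

theorem asym_ea_ncl {Y R : Subgroup G} (h : ¬ IsSymmetricIn Y) (hY : IsElementaryAbelian p Y)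
    (hYR : Y ≤ R) (hR : R ≤ normalizer (Y : Set G)) :
    IsElementaryAbelian p (ncl Y (normalizer (R : Set G))) := by
  refine ea_iSup (fun i => ea_map hY _) fun i j => ?_
  rw [← cj_centralizer, ← cj_inv_le_iff_le_cj, cj_cj]
  exact asym_comm_of_mem h hYR hR (mul_mem (inv_mem j.2) i.2)

/-- The standing hypotheses. -/
structure FM (p : ℕ) (S M : Subgroup G) : Prop where
  syl : IsSylowIn p S ⊤
  le : S ≤ M
  par : ∀ R : Subgroup G, S ≤ R → pCoreOf p R ≠ ⊥ → R ∈ charPSubgroups p G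
  mem : IsInFrakM p M

variable [Finite G] [hp : Fact p.Prime]

theorem fm_of_large (S : Sylow p G) {Q M : Subgroup G} (hQp : IsPGroup p Q) (hQ1 : Q ≠ ⊥)
    (hQ : IsLarge Q) (hSM : (S : Subgroup G) ≤ M) (hM : IsInFrakM p M) : FM p (S : Subgroup G) M :=
  ⟨isSylowIn_top S, hSM, fun _ hR h1 =>
    (Large.mk hQp hQ1 hQ).mem_charPSubgroups (isSylowIn_top S) hR h1, hM⟩

namespace FM

variable {S M : Subgroup G}

omit [Finite G] hp in
theorem charP (h : FM p S M) : CharP p M := charP_of_mem h.mem.1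

omit [Finite G] hp in
theorem core_ne_bot (h : FM p S M) : pCoreOf p M ≠ ⊥ := (mem_charP_iff.1 h.mem.1).1

omit [Finite G] hp in
theorem centralizer_core_le (h : FM p S M) : centralizer (pCoreOf p M : Set G) ≤ pCoreOf p M :=
  (mem_charP_iff.1 h.mem.1).2

omit [Finite G] hp in
theorem sylM (h : FM p S M) : IsSylowIn p S M := h.syl.mono h.le le_top

omit [Finite G] hp in
theorem sylD (h : FM p S M) : IsSylowIn p S (dag p M) :=
  h.syl.mono (h.le.trans le_sup_left) le_top

theorem core_le_S (h : FM p S M) : pCoreOf p M ≤ S := pCoreOf_le_of_isSylowIn h.sylM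

theorem y_ne_bot (h : FM p S M) : yOf p M ≠ ⊥ := by
  intro h0
  have h1 := omega_center_le_yOf h.charP h.sylM
  have hS : S ≠ ⊥ := fun h2 => h.core_ne_bot (le_bot_iff.1 (h2 ▸ h.core_le_S))
  exact omZ_ne_bot h.syl.isPGroup hS (le_bot_iff.1 (h1.trans h0.le))

omit hp in
theorem le_dag (h : FM p S M) {L : Subgroup G} (hML : M ≤ L) (hL : L ∈ charPSubgroups p G) :
    L ≤ dag p M := by
  obtain ⟨X, hX, hLX⟩ := exists_max hL
  exact hLX.trans (h.mem.2.2.1 X hX (hML.trans hLX)).le

omit hp in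
theorem normalizer_le_dag (h : FM p S M) {K : Subgroup G} (hK : IsPGroup p K) (h0 : K ≠ ⊥)
    (hM : M ≤ normalizer (K : Set G)) : normalizer (K : Set G) ≤ dag p M := by
  refine h.le_dag hM (h.par _ (h.le.trans hM) fun h1 => h0 (le_bot_iff.1 ?_))
  exact h1 ▸ le_pCoreOf le_normalizer le_rfl hK

theorem dag_le (_h : FM p S M) : dag p M ≤ normalizer (yOf p M : Set G) :=
  sup_le (self_le_normalizer_yOf M) (centralizer_le_normalizer _)

theorem normalizer_y (h : FM p S M) : normalizer (yOf p M : Set G) = dag p M :=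
  le_antisymm (h.normalizer_le_dag (yOf_isPGroup M) h.y_ne_bot (self_le_normalizer_yOf M)) h.dag_le

theorem dag_le_normalizer_cent (h : FM p S M) :
    dag p M ≤ normalizer ((centralizer (yOf p M : Set G) : Subgroup G) : Set G) :=
  le_normalizer_centralizer h.dag_le

theorem core_eq (h : FM p S M) : pCoreOf p M = S ⊓ centralizer (yOf p M : Set G) := by
  refine le_antisymm (le_inf h.core_le_S (pCoreOf_le_centralizer_yOf M)) ?_
  exact le_pCoreOf_of_isPClosed h.mem.2.2.2.2.1 inf_le_left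
    (le_normalizer_inf_centralizer le_normalizer (self_le_normalizer_yOf M))
    (inf_le_inf_right _ h.le) (h.syl.isPGroup.to_le inf_le_left)

theorem sylC (h : FM p S M) : IsSylowIn p (pCoreOf p M) (centralizer (yOf p M : Set G)) := by
  rw [h.core_eq]
  exact h.sylD.inf_normal_of_le h.dag_le_normalizer_cent le_sup_right

theorem y_eq (h : FM p S M) : yOf p M = omZ p (pCoreOf p M) := by
  rw [h.core_eq]
  exact yOf_eq_omega h.charP h.sylM

theorem normalizer_core_le (h : FM p S M) :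
    normalizer (pCoreOf p M : Set G) ≤ normalizer (yOf p M : Set G) := by
  rw [h.y_eq]
  exact le_normalizer_omZ le_rfl

theorem normalizer_core_le_dag (h : FM p S M) : normalizer (pCoreOf p M : Set G) ≤ dag p M :=
  h.normalizer_core_le.trans h.normalizer_y.le

/-- A `p`-subgroup of `C(Y)` generating a `p`-group with `O_p(M)` lies in `O_p(M)`. -/
theorem le_core (h : FM p S M) {X R : Subgroup G} (hR : IsPGroup p R) (h1 : pCoreOf p M ≤ R)
    (h2 : X ≤ R) (h3 : X ≤ centralizer (yOf p M : Set G)) : X ≤ pCoreOf p M :=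
  (le_inf h2 h3).trans (h.sylC.eq_inf hR h1).le

theorem wc_dag (h : FM p S M) : WC p ((pCoreOf p M).subgroupOf (dag p M)) := by
  refine wc_of_sylow h.sylD.subgroupOf_top (subgroupOf_mono _ h.core_le_S) fun g hg => ?_
  rw [← subgroupOf_cj] at hg ⊢
  have h1 : cj (g : G) (pCoreOf p M) ≤ dag p M :=
    cj_le_of_mem_of_le g.2 ((pCoreOf_le M).trans le_sup_left)
  have h2 : cj (g : G) (pCoreOf p M) ≤ S := (subgroupOf_le_subgroupOf_iff h1).1 hg
  have h3 : cj (g : G) (pCoreOf p M) ≤ centralizer (yOf p M : Set G) :=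
    (cj_mono _ (pCoreOf_le_centralizer_yOf M)).trans
      (cj_eq_of_mem_normalizer (h.dag_le_normalizer_cent g.2)).le
  rw [cj_eq_of_mem_normalizer (mem_normalizer_of_cj_le ((le_inf h2 h3).trans h.core_eq.ge))]

theorem wc (h : FM p S M) (ha : ¬ IsSymmetricIn (yOf p M)) : WC p (pCoreOf p M) := by
  set T := pCoreOf p M with hT
  set Y := yOf p M with hY
  have hTp : IsPGroup p T := isPGroup_pCoreOf M
  have hYT : Y ≤ T := yOf_le_pCoreOf M
  let X : Set G := {x | cj x T ≤ normalizer (T : Set G) ∧ T ≤ normalizer (cj x T : Set G)}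
  have hXinv : ∀ x ∈ X, x⁻¹ ∈ X := by
    rintro x ⟨h1, h2⟩
    refine ⟨?_, ?_⟩
    · rwa [cj_inv_le_iff_le_cj, cj_normalizer]
    · rwa [← cj_normalizer, ← cj_le_iff_le_cj_inv]
  have hMX : ∀ m ∈ M, m ∈ X := fun m hm => by
    have := cj_eq_of_mem_normalizer (self_le_normalizer_pCoreOf (p := p) M hm)
    exact ⟨by rw [this]; exact le_normalizer, by rw [this]; exact le_normalizer⟩
  have key : ∀ n : ℕ, ∀ l : List G, l.length = n → (∀ x ∈ l, x ∈ X) → cj l.prod Y ≤ T := by
    intro n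
    induction n with
    | zero =>
      intro l hl _
      rw [List.length_eq_zero_iff.1 hl, List.prod_nil, cj_one]
      exact hYT
    | succ n ih =>
      have A : ∀ l : List G, l.length = n + 1 → (∀ x ∈ l, x ∈ X) →
          ∃ x ∈ X, cj l.prod Y ≤ cj x T := by
        intro l hl hX
        obtain ⟨x, l', rfl⟩ := List.exists_cons_of_length_eq_add_one hl
        refine ⟨x, hX x List.mem_cons_self, ?_⟩
        rw [List.prod_cons, cj_mul]
        exact cj_mono x (ih l' (by simpa using hl) fun y hy => hX y (List.mem_cons_of_mem _ hy))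
      intro l hl hX
      obtain ⟨x, hx, h1⟩ := A l hl hX
      obtain ⟨x', hx', h2⟩ := A (l.map fun x => x⁻¹).reverse (by simpa using hl) (by
        intro y hy
        rw [List.mem_reverse, List.mem_map] at hy
        obtain ⟨z, hz, rfl⟩ := hy
        exact hXinv z (hX z hz))
      rw [← List.prod_inv_reverse] at h2
      have h3 : cj l.prod Y ≤ centralizer (Y : Set G) := by
        refine asym_comm ha ((h1.trans hx.1).trans h.normalizer_core_le) ?_
        rw [← cj_normalizer, ← cj_inv_le_iff_le_cj]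
        exact (h2.trans hx'.1).trans h.normalizer_core_le
      exact h.le_core (isPGroup_sup (isPGroup_cj hTp x) hTp hx.1) le_sup_right
        (h1.trans le_sup_left) h3
  let W : Subgroup G := ⨆ x : Submonoid.closure X, cj (x : G) Y
  have hWT : W ≤ T := iSup_le fun x => by
    obtain ⟨l, hl, hx⟩ := Submonoid.exists_list_of_mem_closure x.2
    rw [← hx]
    exact key _ l rfl hl
  have hXW : ∀ x ∈ X, x ∈ normalizer (W : Set G) := fun x hx => by
    refine mem_normalizer_of_cj_le ?_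
    rw [cj_iSup]
    refine iSup_le fun y => ?_
    rw [cj_cj]
    exact le_iSup (fun x : Submonoid.closure X => cj (x : G) Y)
      ⟨x * y, mul_mem (Submonoid.subset_closure hx) y.2⟩
  have hYW : Y ≤ W := by
    have := le_iSup (fun x : Submonoid.closure X => cj (x : G) Y) 1
    rwa [OneMemClass.coe_one, cj_one] at this
  have hWD := h.normalizer_le_dag (hTp.to_le hWT)
    (fun h0 => h.y_ne_bot (le_bot_iff.1 (h0 ▸ hYW))) fun m hm => hXW m (hMX m hm)
  refine wc_of_forall_normalizer hTp fun g h1 h2 => ?_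
  have hg : g ∈ dag p M := hWD (hXW g ⟨h1, h2⟩)
  refine cj_eq_of_mem_normalizer (mem_normalizer_of_cj_le ?_)
  exact h.le_core (isPGroup_sup (isPGroup_cj hTp g) hTp h1) le_sup_right le_sup_left
    ((cj_mono _ (pCoreOf_le_centralizer_yOf M)).trans
      (cj_eq_of_mem_normalizer (h.dag_le_normalizer_cent hg)).le)

theorem exists_sylow (h : FM p S M) (ha : ¬ IsSymmetricIn (yOf p M)) {L : Subgroup G}
    (hL : pCoreOf p M ≤ L) : ∃ P, IsSylowIn p P L ∧ pCoreOf p M ≤ P ∧
      P ≤ normalizer (pCoreOf p M : Set G) ∧ P ≤ dag p M := by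
  obtain ⟨P, h1, h2, h3⟩ := (h.wc ha).exists_sylowIn_le_normalizer hL
  exact ⟨P, h1, h2, h3, h3.trans h.normalizer_core_le_dag⟩

theorem fusion (h : FM p S M) (ha : ¬ IsSymmetricIn (yOf p M)) {x : G} (hx : x ∈ yOf p M) {g : G}
    (hg : g * x * g⁻¹ ∈ yOf p M) : ∃ m ∈ M, m * x * m⁻¹ = g * x * g⁻¹ := by
  have hc : ∀ y ∈ yOf p M, pCoreOf p M ≤ centralizer ({y} : Set G) := fun y hy =>
    (pCoreOf_le_centralizer_yOf M).trans (centralizer_le (Set.singleton_subset_iff.2 hy))
  obtain ⟨k, hk, n, hn, rfl⟩ := (h.wc ha).frattini (hc _ hg) (g := g) (by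
    have := cj_mono g (hc x hx)
    rwa [cj_centralizer_set, Set.image_singleton] at this)
  obtain ⟨m, hm, c, hc', rfl⟩ := (mem_sup_of_le_normalizer'
    (le_normalizer_centralizer (self_le_normalizer_yOf M))).1 (h.normalizer_core_le_dag hn)
  refine ⟨m, hm, ?_⟩
  have h1 := conj_eq_of_mem_centralizer hc' hx
  have h2 := conj_eq_of_mem_centralizer' hk (Set.mem_singleton _)
  rw [← h2]
  calc m * x * m⁻¹ = m * (c * x * c⁻¹) * m⁻¹ := by rw [h1]
    _ = _ := by group

theorem pRed_dag (_h : FM p S M) : PRed p (yOf p M) (dag p M) :=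
  (yOf_pRed M).sup_centralizer le_rfl

theorem exists_frakH (h : FM p S M) (ha : ¬ IsSymmetricIn (yOf p M))
    (ht : IsCharPTall p (yOf p M)) : ∃ H, IsInFrakH p M H := by
  obtain ⟨T₁, L, hTL, hL, hY⟩ := ht
  obtain ⟨c, hc, hT⟩ := h.sylC.exists_cj_eq (isSylowIn_map_subtype T₁)
  have hL' : CharP p (cj c L) := (charP_iff.2 hL).cj c
  have hTL' : pCoreOf p M ≤ cj c L := hT ▸ cj_mono c hTL
  have hY' : ¬ yOf p M ≤ pCoreOf p (cj c L) := by
    rw [pCoreOf_cj, ← cj_eq_of_mem_centralizer hc, cj_le_cj]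
    exact hY
  obtain ⟨H, hHL, hH⟩ := exists_minimal_le_of_wellFoundedLT
    (fun X => pCoreOf p M ≤ X ∧ ¬ yOf p M ≤ pCoreOf p X) (cj c L) ⟨hTL', hY'⟩
  refine ⟨H, charP_iff.1 ((h.wc ha).centralizer_pCoreOf_of_charP hL'
    (inf_le_right.trans h.centralizer_core_le) hH.prop.1 hHL).2.2, hH.prop.1, hH.prop.2,
    fun P h1 h2 => ?_⟩
  by_contra h3
  exact h2.ne (hH.eq_of_ge ⟨h1, h3⟩ h2.le).symm

/-- MSS 2.6(e). -/
theorem y_le_yOf (h : FM p S M) (ha : ¬ IsSymmetricIn (yOf p M))
    [((centralizer (yOf p M : Set G)).subgroupOf (dag p M)).Normal] {H : Subgroup G}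
    (hFH : unbar (dag p M) (centralizer (yOf p M : Set G)) (generalizedFittingSubgroup _) ≤ H)
    (hH : CharP p H) : yOf p M ≤ yOf p H := by
  set C := centralizer (yOf p M : Set G) with hC
  set F := unbar (dag p M) C (generalizedFittingSubgroup _) with hF
  have hCF : C ≤ F := (le_inf le_sup_right le_rfl).trans (Local.inf_le_unbar _)
  have hFD : F ≤ dag p M := Local.unbar_le _
  have hTH : pCoreOf p M ≤ H := (pCoreOf_le_centralizer_yOf M).trans (hCF.trans hFH)
  obtain ⟨P, hP, hTP, -, hPD⟩ := h.exists_sylow ha hTH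
  refine le_yOf_of_sylow_le (R := H ⊓ dag p M) hH ⟨inf_le_right.trans h.dag_le, ?_⟩ (yOf_ea M)
    (le_inf ((yOf_le_pCoreOf M).trans hTH) ((yOf_le M).trans le_sup_left)) hP
    (le_inf hP.le hPD) inf_le_left
  intro E hE hn hr
  have hED : E ≤ dag p M := hE.trans inf_le_right
  have hO : pCoreOf p (⊤ : Subgroup (dag p M ⧸ C.subgroupOf (dag p M))) = ⊥ := by
    rw [pCoreOf_top]
    exact (pRed_iff.1 h.pRed_dag).2
  have hEp : IsPGroup p (bar (dag p M) C E) := (Local.isPGroup_bar_iff hED).2 hr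
  have hFE : fsOf ⊤ ≤ normalizer (bar (dag p M) C E : Set (dag p M ⧸ C.subgroupOf (dag p M))) := by
    rw [fsOf_top, ← Local.bar_unbar (E := dag p M) (C := C) (generalizedFittingSubgroup _)]
    exact Local.bar_le_normalizer hFD ((le_inf hFH hFD).trans hn)
  have hEF : bar (dag p M) C E ≤ normalizer ((fsOf ⊤ : Subgroup (dag p M ⧸ C.subgroupOf (dag p M))) :
      Set (dag p M ⧸ C.subgroupOf (dag p M))) :=
    le_normalizer_fsOf (top_le_normalizer _ _)
  refine (Local.bar_eq_bot_iff hED).1 (eq_bot_of_le_centralizer_fsOf hO hEp le_top ?_)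
  refine le_centralizer_of_disjoint hEF hFE (le_bot_iff.1 ?_)
  rw [← pCoreOf_fsOf_eq_bot hO]
  exact le_pCoreOf inf_le_right (le_normalizer_inf hFE le_normalizer) (hEp.to_le inf_le_left)

/-- MSS 2.8. -/
theorem le_pCoreOf_of_commutator (h : FM p S M) {I Y L A : Subgroup G} (hI1 : I ≠ ⊥)
    (hIp : IsPGroup p I) (hIM : M ≤ normalizer (I : Set G)) (hY : Y ≤ pCoreOf p (dag p M))
    (hYL : Y ≤ L) (hAp : IsPGroup p A) (hAL : L ≤ normalizer (A : Set G)) (hIA : I ≤ A)
    (hc : ⁅Y, A⁆ ≤ ⁅I, A⁆) : Y ≤ pCoreOf p L := by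
  set K := ncl Y L with hK
  have hKL : K ≤ L := ncl_le_of_le hYL
  have h1 : ⁅A, K⁆ ≤ ⁅A, A⁆ := commutator_ncl_le hAL (le_normalizer_commutator hAL hAL) hYL
    ((commutator_comm _ _).le.trans (hc.trans (commutator_mono hIA le_rfl)))
  have h2 : resOf p K ≤ centralizer (A : Set G) := by
    refine resOf_le_iff.2 fun x hx hxc => ?_
    have hz : zpowers x ≤ K := zpowers_le.2 hx
    refine Coprime.le_centralizer_of_commutator_le_frattini (A := zpowers x)
      (hz.trans (hKL.trans hAL)) ?_ (((commutator_mono le_rfl hz).trans h1).trans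
      (commutator_le_map_frattini hAp)) (mem_zpowers x)
    exact Nat.Coprime.coprime_dvd_right (Subgroup.card_subgroup_dvd_card _)
      (Local.coprime_card_zpowers hxc hAp)
  have h3 : resOf p K ≤ dag p M := (h2.trans (centralizer_le hIA)).trans
    ((centralizer_le_normalizer _).trans (h.normalizer_le_dag hIp hI1 hIM))
  have h4 : Y ≤ pCoreOf p (resOf p K ⊔ Y) := (le_inf hY le_sup_right).trans
    (pCoreOf_inf_le (sup_le h3 (hY.trans (pCoreOf_le _))))
  exact h4.trans ((pCoreOf_le_of_subnormalIn (subnormalIn_of_resOf_le le_sup_left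
    (sup_le (resOf_le K) (le_ncl Y L)))).trans (pCoreOf_le_of_normal hKL (le_normalizer_ncl Y L)))

section FrakH

variable {H : Subgroup G}

theorem resOf_sup_core (hH : IsInFrakH p M H) : resOf p H ⊔ pCoreOf p M = H := by
  have h1 : resOf p H ⊔ pCoreOf p M ≤ H := sup_le (resOf_le H) hH.2.1
  by_contra h2
  exact hH.2.2.1 ((hH.2.2.2 _ le_sup_right (lt_of_le_of_ne h1 h2)).trans
    (pCoreOf_le_of_subnormalIn (subnormalIn_of_resOf_le le_sup_left h1)))

theorem core_le_normalizer_y (M : Subgroup G) : pCoreOf p M ≤ normalizer (yOf p M : Set G) :=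
  (pCoreOf_le_centralizer_yOf M).trans (centralizer_le_normalizer _)

theorem ncl_y_eq (hH : IsInFrakH p M H) : ncl (yOf p M) H = ⁅resOf p H, yOf p M⁆ ⊔ yOf p M := by
  rw [← ncl_eq]
  refine le_antisymm (iSup_le fun x => ?_) (ncl_mono le_rfl (resOf_le H))
  obtain ⟨r, hr, t, ht, hx⟩ := (Solv.mem_sup_of_le_normalizer
    (hH.2.1.trans (self_le_normalizer_resOf H))).1 ((resOf_sup_core hH).ge x.2)
  rw [← hx, cj_mul, cj_eq_of_mem_normalizer (core_le_normalizer_y M ht)]
  exact cj_le_ncl _ hr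

theorem commutator_resOf_y (hH : IsInFrakH p M H) : ⁅resOf p H, yOf p M⁆ = resOf p H := by
  have hYH : yOf p M ≤ H := (yOf_le_pCoreOf M).trans hH.2.1
  have h0 : ⁅resOf p H, yOf p M⁆ ≤ resOf p H :=
    commutator_le_left_of_le_normalizer (hYH.trans (self_le_normalizer_resOf H))
  have h1 : ⁅resOf p H, yOf p M⁆ ⊔ pCoreOf p M ≤ H := sup_le (h0.trans (resOf_le H)) hH.2.1
  have h2 : ⁅resOf p H, yOf p M⁆ ⊔ pCoreOf p M = H := by
    by_contra h2
    have h3 := hH.2.2.2 _ le_sup_right (lt_of_le_of_ne h1 h2)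
    have h4 : ncl (yOf p M) H ≤ ⁅resOf p H, yOf p M⁆ ⊔ pCoreOf p M := by
      rw [ncl_y_eq hH]
      exact sup_le_sup_left (yOf_le_pCoreOf M) _
    exact hH.2.2.1 (((le_inf h3 (le_ncl _ H)).trans (pCoreOf_inf_le h4)).trans
      (pCoreOf_le_of_normal (ncl_le_of_le hYH) (le_normalizer_ncl _ _)))
  exact le_antisymm h0 (resOf_le_of_le_sup (isPGroup_pCoreOf M) (le_normalizer_commutator
    (hH.2.1.trans (self_le_normalizer_resOf H)) (core_le_normalizer_y M)) h2.ge)

theorem resOf_sup_y (hH : IsInFrakH p M H) : resOf p H ⊔ yOf p M = ncl (yOf p M) H := by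
  rw [ncl_y_eq hH, commutator_resOf_y hH]

theorem resOf_le_ncl_y (hH : IsInFrakH p M H) : resOf p H ≤ ncl (yOf p M) H :=
  le_sup_left.trans (resOf_sup_y hH).le

theorem ncl_core (hH : IsInFrakH p M H) : ncl (pCoreOf p M) H = H := by
  refine le_antisymm (ncl_le_of_le hH.2.1) ((resOf_sup_core hH).ge.trans (sup_le ?_ (le_ncl _ _)))
  exact (resOf_le_ncl_y hH).trans (ncl_mono (yOf_le_pCoreOf M) le_rfl)

/-- A normal subgroup `N` with `[N, O^p(H)] ≤ O_p(H)` is `p`-closed. -/
theorem isPClosed_of_commutator_le {N H : Subgroup G} (hNH : N ≤ H)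
    (hn : H ≤ normalizer (N : Set G)) (h : ⁅N, resOf p H⁆ ≤ pCoreOf p H) : IsPClosed p N := by
  obtain ⟨T, hT⟩ := exists_isSylowIn (p := p) H
  have h1 := hT.inf_normal_of_le hn hNH
  refine (isPClosed_iff_isSylowIn_le h1).2 ((le_inf ?_ inf_le_right).trans (pCoreOf_inf_le hNH))
  have h2 : H ≤ normalizer ((pCoreOf p H ⊔ T ⊓ N : Subgroup G) : Set G) := by
    refine (resOf_sup_isSylowIn hT).ge.trans (sup_le ?_ ?_)
    · refine le_normalizer_of_commutator_le (commutator_sup_left_le_of_le_normalizer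
        (le_sup_left.trans le_normalizer) (le_sup_right.trans le_normalizer) ?_ ?_)
      · exact (commutator_le_left_of_le_normalizer
          ((resOf_le H).trans (self_le_normalizer_pCoreOf H))).trans le_sup_left
      · exact ((commutator_mono inf_le_right le_rfl).trans h).trans le_sup_left
    · exact le_normalizer_sup (hT.le.trans (self_le_normalizer_pCoreOf H))
        (le_normalizer_inf le_normalizer (hT.le.trans hn))
  exact le_sup_right.trans (le_pCoreOf (sup_le (pCoreOf_le H) (inf_le_right.trans hNH)) h2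
    (isPGroup_sup' (isPGroup_pCoreOf H) h1.isPGroup
      ((inf_le_right.trans hNH).trans (self_le_normalizer_pCoreOf H))))

/-- Normal subgroups of a member of `ℌ` not containing `O^p(H)`. -/
theorem commutator_le_of_not_le (hH : IsInFrakH p M H) {N : Subgroup G} (hNH : N ≤ H)
    (hn : H ≤ normalizer (N : Set G)) (h : ¬ resOf p H ≤ N) : ⁅N, resOf p H⁆ ≤ pCoreOf p H := by
  have hYH : yOf p M ≤ H := (yOf_le_pCoreOf M).trans hH.2.1
  have h1 : N ⊔ pCoreOf p M < H := lt_of_le_of_ne (sup_le hNH hH.2.1) fun h2 =>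
    h (resOf_le_of_le_sup (isPGroup_pCoreOf M) (hH.2.1.trans hn) h2.ge)
  have h2 := hH.2.2.2 _ le_sup_right h1
  have h3 : ⁅N, yOf p M⁆ ≤ pCoreOf p H := by
    refine (le_inf ?_ (commutator_le_left_of_le_normalizer (hYH.trans hn))).trans
      ((pCoreOf_inf_le (le_sup_left : N ≤ N ⊔ pCoreOf p M)).trans (pCoreOf_le_of_normal hNH hn))
    exact (commutator_mono le_rfl h2).trans (commutator_le_right_of_le_normalizer
      (le_sup_left.trans (self_le_normalizer_pCoreOf _)))
  exact (commutator_mono le_rfl (resOf_le_ncl_y hH)).trans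
    (commutator_ncl_le hn (self_le_normalizer_pCoreOf H) hYH h3)

/-- A `p`-group normalized by a member of `ℌ` normalizes it. -/
theorem le_normalizer_frakH (h : FM p S M) (ha : ¬ IsSymmetricIn (yOf p M)) (hH : IsInFrakH p M H)
    {E : Subgroup G} (hE : IsPGroup p E) (hn : H ≤ normalizer (E : Set G)) :
    E ≤ normalizer (H : Set G) := by
  have h1 : E ≤ normalizer (pCoreOf p M : Set G) :=
    (h.wc ha).le_normalizer_of_le_normalizer hE (hH.2.1.trans hn)
  have h2 : ⁅E, ncl (pCoreOf p M) H⁆ ≤ E ⊓ H := commutator_ncl_le hn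
    (le_normalizer_inf hn le_normalizer) hH.2.1
    ((commutator_le_inf_of_le_normalizer h1 (hH.2.1.trans hn)).trans (inf_le_inf_left _ hH.2.1))
  rw [ncl_core hH] at h2
  exact Local.le_normalizer_of_commutator_le' (h2.trans inf_le_right)

theorem isPIrreducible_sup (h : FM p S M) (ha : ¬ IsSymmetricIn (yOf p M)) (hH : IsInFrakH p M H)
    {Q : Subgroup G} (hQ : IsPGroup p Q) (hn : H ≤ normalizer (Q : Set G)) :
    IsPIrreducible p (H ⊔ Q : Subgroup G) := by
  have hYH : yOf p M ≤ H := (yOf_le_pCoreOf M).trans hH.2.1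
  have hQH := h.le_normalizer_frakH ha hH hQ hn
  have hres : resOf p (H ⊔ Q) = resOf p H := resOf_sup_eq_of_isPGroup hQH hQ
  refine isPIrreducible_iff.2 ⟨fun hc => hH.2.2.1 ?_, fun N hN hNn hc => ?_⟩
  · exact (le_inf (isPClosed_subgroup_iff.1 hc _ (hYH.trans le_sup_left) (yOf_isPGroup M))
      hYH).trans (pCoreOf_inf_le le_sup_left)
  set E := pCoreOf p (H ⊔ Q) with hE
  have hHE : H ≤ normalizer (E : Set G) := le_sup_left.trans (self_le_normalizer_pCoreOf _)
  have hQE : Q ≤ E := le_pCoreOf le_sup_right (sup_le hn le_normalizer) hQ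
  by_cases h1 : resOf p H ≤ (N ⊔ E) ⊓ H
  · rw [hres, ← resOf_resOf H]
    exact resOf_le_of_le_sup (isPGroup_pCoreOf _) ((pCoreOf_le _).trans hNn) (h1.trans inf_le_left)
  refine absurd (isPClosed_of_commutator_le hN hNn ?_) hc
  have h2 := commutator_le_of_not_le hH inf_le_right (le_normalizer_inf
    (le_normalizer_sup (le_sup_left.trans hNn) hHE) le_normalizer) h1
  have h3 : N ≤ E ⊔ (N ⊔ E) ⊓ H := by
    rw [inf_comm, ← sup_inf_assoc_of_le_normalizer hHE le_sup_right]
    exact le_inf (hN.trans (sup_le le_sup_right (hQE.trans le_sup_left))) le_sup_left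
  rw [hres]
  refine (commutator_mono h3 le_rfl).trans (commutator_sup_left_le_of_le_normalizer le_normalizer
    (inf_le_right.trans hHE) (commutator_le_left_of_le_normalizer ((resOf_le H).trans hHE)) ?_)
  exact h2.trans (pCoreOf_le_of_normal le_sup_left (sup_le le_normalizer hQH))

end FrakH

end FM

end Cfsg.Lib.FrakM
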