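import Cfsg.Agent.Local.FrakM
import Cfsg.Agent.S2824

/-!
Existence of subgroups with the basic property in parabolic characteristic `p`, and families of
`p`-minimal or strongly `p`-irreducible subgroups permuted transitively.
-/

set_option autoImplicit false

namespace Cfsg.Lib.FrakM

open Subgroup Cfsg Cfsg.Lib.Local.MSS Cfsg.Lib.Solv Cfsg.Lib.Trans Cfsg.Lib.Trans.TJ
open Cfsg.Lib.Local (resOf CharP charP_iff charP_top_iff WC Large wc_of_sylow wc_iff
  wc_of_forall_normalizer isPGroup_sup isPGroup_sup' commutator_le_inf_of_le_normalizer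
  resOf_le_of_le_sup le_normalizer_of_commutator_le bar unbar)
open scoped Pointwise commutatorElement

variable {G : Type*} [Group G] {p : ℕ} [Finite G]

theorem relIndex_sup_norm {A K : Subgroup G} (h : K ≤ normalizer (A : Set G)) :
    K.relIndex (A ⊔ K) = K.relIndex A := by
  have h1 := card_sup_mul_card_inf_of_le_normalizer h
  have h2 := card_mul_relIndex_of_le (le_sup_right : K ≤ A ⊔ K)
  have h3 := card_inf_mul_relIndex K A
  rw [inf_comm] at h3
  have hK : 0 < Nat.card K := Nat.card_pos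
  have hI : 0 < Nat.card (A ⊓ K : Subgroup G) := Nat.card_pos
  rw [← h2, ← h3] at h1
  have : Nat.card K * Nat.card (A ⊓ K : Subgroup G) * K.relIndex (A ⊔ K) =
      Nat.card K * Nat.card (A ⊓ K : Subgroup G) * K.relIndex A := by
    calc _ = Nat.card K * K.relIndex (A ⊔ K) * Nat.card (A ⊓ K : Subgroup G) := by ring
      _ = _ := by rw [h1]; ring
  exact Nat.eq_of_mul_eq_mul_left (Nat.mul_pos hK hI) this

variable [hp : Fact p.Prime]

theorem mem_charP_of_parabolic (hG : IsOfParabolicCharacteristic p G) (T : Sylow p G)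
    {R : Subgroup G} (hTR : (T : Subgroup G) ≤ R) (h0 : pCoreOf p R ≠ ⊥) :
    R ∈ charPSubgroups p G := by
  have hRN : R ≤ normalizer (pCoreOf p R : Set G) := self_le_normalizer_pCoreOf R
  have h1 : CharP p (normalizer (pCoreOf p R : Set G)) :=
    charP_iff.2 (hG _ (isPGroup_pCoreOf R) h0 ⟨T, hTR.trans hRN⟩)
  have h2 : pCoreOf p (normalizer (pCoreOf p R : Set G)) ≤ pCoreOf p R :=
    pCoreOf_le_pCoreOf_of_le ((pCoreOf_le_sylow T (hTR.trans hRN)).trans hTR) hRN
  exact mem_charP_iff.2 ⟨h0, (charP_le h1 (centralizer_le_normalizer _)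
    (centralizer_le h2)).trans h2⟩

theorem yOf_ne_bot {T L : Subgroup G} (hL : L ∈ charPSubgroups p G) (hT : IsSylowIn p T L) :
    yOf p L ≠ ⊥ := by
  intro h0
  have h1 := omega_center_le_yOf (charP_of_mem hL) hT
  have hS : T ≠ ⊥ := fun h2 => (mem_charP_iff.1 hL).1
    (le_bot_iff.1 (h2 ▸ pCoreOf_le_of_isSylowIn hT))
  exact omZ_ne_bot hT.isPGroup hS (le_bot_iff.1 (h1.trans h0.le))

omit [Finite G] hp in
theorem pCoreOf_ne_bot_of_normal {K L : Subgroup G} (h0 : K ≠ ⊥) (hK : IsPGroup p K) (hKL : K ≤ L)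
    (hn : L ≤ normalizer (K : Set G)) : pCoreOf p L ≠ ⊥ :=
  fun h1 => h0 (le_bot_iff.1 (h1 ▸ le_pCoreOf hKL hn hK))

/-- A minimal supplement `M ≥ T` to `C` in `N`: the two last conditions of the basic property. -/
theorem minimal_supplement {T M V : Subgroup G} (hT : IsSylowIn p T M) (hV : PRed p V M)
    (hmin : ∀ K, T ≤ K → K ≤ M → M ≤ K ⊔ centralizer (V : Set G) → K = M) :
    IsPClosed p (M ⊓ centralizer (V : Set G) : Subgroup G) ∧
      ((M ⊓ centralizer (V : Set G)).subgroupOf M).map (QuotientGroup.mk' (pCore p M)) ≤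
        frattini (M ⧸ pCore p M) := by
  set C := centralizer (V : Set G) with hC
  have h1 : M ⊓ normalizer ((T ⊓ C : Subgroup G) : Set G) = M :=
    hmin _ (le_inf_normalizer_inf_centralizer hT.le hV.1) inf_le_left
      ((le_centralizer_sup_normalizer hT hV.1).trans (sup_comm _ _).le)
  have h2 : IsSylowIn p (T ⊓ C) (M ⊓ C) := isSylowIn_inf_centralizer hT hV.1
  have h3 : pCoreOf p M = T ⊓ C := by
    rw [← hV.pCoreOf_inf_normalizer hT, h1]
  have hMC : M ≤ normalizer ((M ⊓ C : Subgroup G) : Set G) :=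
    le_normalizer_inf_centralizer le_normalizer hV.1
  refine ⟨(isPClosed_iff_of_isSylowIn h2).2 (inf_le_left.trans (h1.ge.trans inf_le_right)), ?_⟩
  rw [frattini, Order.radical]
  refine le_iInf₂ fun K hK => ?_
  by_contra h4
  set K' : Subgroup G := (K.comap (QuotientGroup.mk' (pCore p M))).map M.subtype with hK'
  have hKM : K' ≤ M := map_subtype_le _
  have hOK : pCoreOf p M ≤ K' := map_mono fun x hx => by
    rw [mem_comap, QuotientGroup.mk'_apply, (QuotientGroup.eq_one_iff x).2 hx]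
    exact one_mem _
  have h5 : M ⊓ C ⊔ K' = M := by
    have h6 := hK.2 _ (right_lt_sup.2 h4)
    have h7 := congrArg (fun X => (X.comap (QuotientGroup.mk' (pCore p M))).map M.subtype) h6
    simp only [comap_top, ← MonoidHom.range_eq_map, range_subtype] at h7
    refine le_antisymm (sup_le inf_le_left hKM) (h7.ge.trans ?_)
    rw [← comap_sup_eq _ _ _ (QuotientGroup.mk'_surjective _), comap_map_eq, QuotientGroup.ker_mk',
      Subgroup.map_sup, Subgroup.map_sup, map_subgroupOf_eq_of_le inf_le_left]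
    exact sup_le (sup_le le_sup_left (hOK.trans le_sup_right)) le_sup_right
  obtain ⟨P, hP⟩ := exists_isSylowIn (p := p) K'
  have h6 : ¬ p ∣ K'.relIndex M := by
    conv => arg 1; arg 2; arg 2; rw [← h5]
    rw [relIndex_sup_norm (hKM.trans hMC)]
    exact h2.not_dvd_relIndex_of_le (h3.ge.trans hOK)
  obtain ⟨m, hm, hPT⟩ := hT.exists_cj_eq (hP.trans hKM h6)
  have h7 : cj m K' = M := by
    refine hmin _ (hPT ▸ cj_mono m hP.le) (cj_le_of_mem_of_le hm hKM) ?_
    calc M = cj m (M ⊓ C ⊔ K') := by rw [h5, cj_eq_of_mem hm]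
      _ ≤ _ := by
        rw [cj_sup, cj_eq_of_mem_normalizer (hMC hm), sup_comm]
        exact sup_le_sup_left inf_le_right _
  have h8 : K' = M := by
    rw [cj_eq_iff_eq_cj_inv.1 h7, cj_eq_of_mem (inv_mem hm)]
  refine hK.1 (top_le_iff.1 fun x _ => ?_)
  obtain ⟨y, rfl⟩ := QuotientGroup.mk'_surjective _ x
  obtain ⟨z, hz, hzy⟩ := h8.ge y.2
  rwa [← Subtype.ext hzy]

/-- MSS 1.56. -/
theorem exists_frakM (hG : IsOfParabolicCharacteristic p G) (T : Sylow p G) {L : Subgroup G}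
    (hTL : (T : Subgroup G) ≤ L) (hL : L ∈ charPSubgroups p G) :
    ∃ M Ls : Subgroup G, (T : Subgroup G) ≤ M ∧ IsInFrakM p M ∧ (T : Subgroup G) ≤ Ls ∧ Ls ≤ M ∧
      Ls ∈ charPSubgroups p G ∧ yOf p L = yOf p Ls ∧ yOf p L ≤ yOf p M ∧ dag p L =
        Ls ⊔ centralizer (yOf p L : Set G) := by
  have par := fun {R : Subgroup G} => mem_charP_of_parabolic hG T (R := R)
  let rel : Subgroup G → Prop := fun X => X ∈ charPSubgroups p G ∧ ∃ X₀ ≤ X,
    (T : Subgroup G) ≤ X₀ ∧ X₀ ⊔ centralizer (yOf p L : Set G) = dag p L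
  obtain ⟨X, hX, hmax⟩ := Set.exists_max_image {X | rel X} (fun X => Nat.card (yOf p X))
    (Set.toFinite _) ⟨L, hL, L, le_rfl, hTL, rfl⟩
  obtain ⟨hX, X₀, hX₀, hTX₀, hX₀L⟩ := hX
  have hTX := hTX₀.trans hX₀
  set Y := yOf p X with hY
  have hY0 : Y ≠ ⊥ := yOf_ne_bot hX (isSylowIn_of_le T hTX)
  have hYT : Y ≤ T := (yOf_le_pCoreOf X).trans (pCoreOf_le_sylow T hTX)
  have hXN : X ≤ normalizer (Y : Set G) := self_le_normalizer_yOf X
  set N := normalizer (Y : Set G) with hN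
  have hTN := hTX.trans hXN
  have hNc : N ∈ charPSubgroups p G :=
    par hTN (pCoreOf_ne_bot_of_normal hY0 (yOf_isPGroup X) le_normalizer le_rfl)
  have eqY : ∀ Z, rel Z → Y ≤ yOf p Z → yOf p Z = Y := fun Z hZ h1 =>
    (eq_of_le_of_card_ge h1 (hmax Z hZ)).symm
  have hYN : yOf p N = Y := eqY N ⟨hNc, X₀, hX₀.trans hXN, hTX₀, hX₀L⟩
    (yOf_mono (charP_of_mem hNc) (isSylowIn_of_le T hTN) hTX hXN)
  obtain ⟨M, hMN, hM⟩ := exists_minimal_le_of_wellFoundedLT
    (fun K => (T : Subgroup G) ≤ K ∧ K ⊔ centralizer (Y : Set G) = N) N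
    ⟨hTN, sup_eq_left.2 (centralizer_le_normalizer _)⟩
  obtain ⟨hTM, hMC⟩ := hM.prop
  have hMc : M ∈ charPSubgroups p G :=
    par hTM (pCoreOf_ne_bot_of_normal hY0 (yOf_isPGroup X) (hYT.trans hTM) hMN)
  have hPN : PRed p Y N := hYN ▸ yOf_pRed N
  have hPM : PRed p Y M := hPN.of_sup_centralizer_eq
    (hMC.trans (sup_eq_left.2 (centralizer_le_normalizer _)).symm)
  have hYM : yOf p M = Y := le_antisymm
    ((yOf_mono (charP_of_mem hNc) (isSylowIn_of_le T hTN) hTM hMN).trans hYN.le)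
    (le_yOf (hYT.trans hTM) (yOf_ea X) hPM)
  have hYLT : yOf p L ≤ T := (yOf_le_pCoreOf L).trans (pCoreOf_le_sylow T hTL)
  have hYL : yOf p L ≤ Y := (le_yOf_of_sylow_le (charP_of_mem hNc)
    ((yOf_pRed L).of_sup_centralizer_eq hX₀L) (yOf_ea L) (hYLT.trans hTX₀) (isSylowIn_of_le T hTN)
    hTX₀ (hX₀.trans hXN)).trans hYN.le
  have hM₀ : M ⊓ dag p L ⊔ centralizer (yOf p L : Set G) = dag p L := by
    refine le_antisymm (sup_le inf_le_right le_sup_right) (hX₀L.ge.trans (sup_le ?_ le_sup_right))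
    intro x hx
    obtain ⟨m, hm, c, hc, rfl⟩ := (mem_sup_of_le_normalizer' (le_normalizer_centralizer hMN)).1
      (hMC.ge (hXN (hX₀ hx)))
    have hc' : c ∈ centralizer (yOf p L : Set G) := centralizer_le hYL hc
    refine mul_mem (mem_sup_left ⟨hm, ?_⟩) (mem_sup_right hc')
    have := mul_mem (hX₀L.le (mem_sup_left hx)) (inv_mem (mem_sup_right hc' : c ∈ dag p L))
    rwa [mul_inv_cancel_right] at this
  have hTM₀ : (T : Subgroup G) ≤ M ⊓ dag p L := le_inf hTM (hTL.trans le_sup_left)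
  have hle : ∀ Z ∈ charPSubgroups p G, M ≤ Z → Z ≤ N := fun Z hZ h1 => by
    have := eqY Z ⟨hZ, _, inf_le_left.trans h1, hTM₀, hM₀⟩ (hYM.ge.trans
      (yOf_mono (charP_of_mem hZ) (isSylowIn_of_le T (hTM.trans h1)) hTM h1))
    rw [hN, ← this]
    exact self_le_normalizer_yOf Z
  have hL0 := yOf_ne_bot hL (isSylowIn_of_le T hTL)
  have hDL : dag p L ≤ normalizer (yOf p L : Set G) :=
    sup_le (self_le_normalizer_yOf L) (centralizer_le_normalizer _)
  have hM₀c := par hTM₀ (pCoreOf_ne_bot_of_normal hL0 (yOf_isPGroup L) (hYLT.trans hTM₀)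
    (inf_le_right.trans hDL))
  obtain ⟨h1, h2⟩ := Cfsg.Agent.S2824.result T L (M ⊓ dag p L) hTL hTM₀
    (charP_iff.1 (charP_of_mem hL)) (charP_iff.1 (charP_of_mem hM₀c)) _ rfl hM₀ _ rfl
  have hTs := le_inf_normalizer_inf_centralizer hTM₀ (inf_le_right.trans hDL)
  refine ⟨M, _, hTM, ?_, hTs, inf_le_left.trans inf_le_left, par hTs (pCoreOf_ne_bot_of_normal hL0
    (yOf_isPGroup L) (hYLT.trans hTs) (inf_le_left.trans (inf_le_right.trans hDL))), h1.symm,
    hYL.trans hYM.ge, h2⟩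
  have h3 := minimal_supplement (isSylowIn_of_le T hTM) hPM fun K h4 h5 h6 =>
    hM.eq_of_le ⟨h4, le_antisymm ((sup_le_sup_right h5 _).trans hMC.le)
      (hMC.ge.trans (sup_le h6 le_sup_right))⟩ h5
  unfold IsInFrakM
  rw [show largestPReducedOf p M = Y from hYM, hMC]
  exact ⟨hMc, ⟨hNc, fun Z hZ h4 => le_antisymm (hle Z hZ (hMN.trans h4)) h4⟩,
    fun Z hZ h4 => (hZ.2 N hNc (hle Z hZ.1 h4)).symm, hYN.symm, h3⟩

section Family

theorem isSylowIn_sup_norm {T E O : Subgroup G} (hT : IsSylowIn p T E) (hO : IsPGroup p O)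
    (hn : E ≤ normalizer (O : Set G)) : IsSylowIn p (O ⊔ T) (O ⊔ E) := by
  refine isSylowIn_of_maximal (sup_le_sup_left hT.le _) (isPGroup_sup' hO hT.isPGroup
    (hT.le.trans hn)) fun Q hQ h1 h2 => ?_
  have h3 := sup_inf_assoc_of_le_normalizer hn (le_sup_left.trans h1)
  rw [inf_comm E Q, hT.eq_inf hQ (le_sup_right.trans h1)] at h3
  exact (le_inf h2 le_rfl).trans h3.le

theorem isPMinimal_sup {E O : Subgroup G} (hE : IsPMinimal p E) (hO : IsPGroup p O)
    (hn : E ≤ normalizer (O : Set G)) : IsPMinimal p (O ⊔ E : Subgroup G) := by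
  obtain ⟨T, hT⟩ := exists_isSylowIn (p := p) E
  obtain ⟨h1, M, hM⟩ := (isPMinimal_iff_ncl hT).1 hE
  refine (isPMinimal_iff_ncl (isSylowIn_sup_norm hT hO hn)).2
    ⟨sup_le (le_sup_left.trans (le_ncl _ _)) (h1.trans (ncl_mono le_sup_right le_sup_right)),
    O ⊔ M, sup_le_sup_left hM.le _, lt_of_le_of_ne (sup_le_sup_left hM.lt.le _) fun h2 => ?_,
    fun X h2 h3 => ?_⟩
  · have h3 := sup_inf_assoc_of_le_normalizer' (N := O) (hM.lt.le.trans hn) hM.lt.le
    rw [h2, inf_eq_right.2 le_sup_right] at h3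
    refine hM.not_le (h3.le.trans (sup_le ((hT.le_of_normal (hO.to_le inf_le_left) inf_le_right
      (le_normalizer_inf hn le_normalizer)).trans hM.le) le_rfl))
  · have h4 := sup_inf_assoc_of_le_normalizer hn (le_sup_left.trans h2)
    refine ((le_inf h3.le le_rfl).trans h4.le).trans (sup_le_sup_left ?_ _)
    refine hM.le_of_lt (le_inf hT.le (le_sup_right.trans h2)) (lt_of_le_of_ne inf_le_left fun h5 => ?_)
    exact h3.not_ge (sup_le (le_sup_left.trans h2) (h5.ge.trans inf_le_right))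

/-- A group generated modulo a Sylow subgroup by the conjugates of a `p`-minimal subgroup `E` normal
in a normal subgroup `R` is `p`-minimal. -/
theorem isMinimalOver_of_family {T R E : Subgroup G} [R.Normal] (hT : IsSylowIn p T ⊤)
    (hres : resOf p ⊤ ≤ R) (hER : E ≤ R) (hn : R ≤ normalizer (E : Set G))
    (hgen : R ≤ T ⊔ ncl E ⊤) (hE : IsPMinimal p E) : IsMinimalOver T := by
  have hRT : R ⊔ T = ⊤ := top_le_iff.1 ((resOf_sup_isSylowIn hT).ge.trans (sup_le_sup_right hres _))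
  have hTR : T ≤ normalizer (R : Set G) := top_le_normalizer R T
  have hS : IsSylowIn p (T ⊓ E) E := isSylowIn_inf_of_subnormalIn hT
    (SubnormalIn.step hER hn (SubnormalIn.of_normal le_top))
  obtain ⟨h1, M, hM⟩ := (isPMinimal_iff_ncl hS).1 hE
  have hncl : ncl E ⊤ ≤ ncl E T := iSup_le fun g => by
    obtain ⟨r, hr, t, ht, hg⟩ := (mem_sup_of_le_normalizer' (top_le_normalizer R T)).1
      (((sup_comm T R).trans hRT).ge g.2)
    rw [← hg, cj_mul, cj_eq_of_mem_normalizer (hn ht)]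
    exact cj_le_ncl _ hr
  have hgen' : ∀ X, T ≤ X → E ≤ X → X = ⊤ := fun X h2 h3 => top_le_iff.1 (hRT.ge.trans
    (sup_le (hgen.trans (sup_le h2 (hncl.trans (ncl_le h3 (h2.trans le_normalizer))))) h2))
  refine isMinimalOver_iff.2 ⟨(hgen' _ (le_ncl _ _) (h1.trans (ncl_mono inf_le_left le_top))).ge, ?_⟩
  let D : Subgroup G := R ⊓ ⨅ t : T, cj (t : G) (normalizer (M : Set G))
  have hD : ∀ x, x ∈ D ↔ x ∈ R ∧ ∀ t ∈ T, t⁻¹ * x * t ∈ normalizer (M : Set G) := fun x => by
    simp only [D, mem_inf, mem_iInf, mem_cj, Subtype.forall]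
  have hTD : T ≤ normalizer (D : Set G) := fun t ht => mem_normalizer_of_conj_mem fun x hx => by
    obtain ⟨h2, h3⟩ := (hD x).1 hx
    refine (hD _).2 ⟨mem_normalizer_conj (hTR ht) h2, fun s hs => ?_⟩
    have := h3 (t⁻¹ * s) (mul_mem (inv_mem ht) hs)
    convert this using 1
    group
  have key : ∀ X, T ⊓ E ≤ X → ¬ E ≤ X → X ⊓ R ≤ normalizer (M : Set G) := fun X h2 h3 x hx => by
    have h4 : X ⊓ E ≤ M := hM.le_of_lt (le_inf h2 inf_le_right)
      (lt_of_le_of_ne inf_le_right fun h5 => h3 (h5.ge.trans inf_le_left))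
    have h5 := cj_eq_of_mem_normalizer (hn hx.2)
    refine mem_normalizer_of_cj_le (hM.le_of_lt ?_ (by rw [← h5]; exact cj_lt_cj.2 hM.lt))
    refine (le_inf h2 inf_le_right).trans (le_trans ?_ (cj_mono x h4))
    rw [cj_inf, h5, cj_eq_of_mem hx.1]
  refine ⟨D ⊔ T, le_sup_right, lt_top_iff_ne_top.2 fun h2 => ?_, fun X h2 h3 => ?_⟩
  · refine hM.not_le_normalizer h1 (hER.trans ?_)
    have h3 := sup_inf_assoc_of_le_normalizer hTD (inf_le_left : D ≤ R)
    rw [h2, top_inf_eq] at h3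
    refine h3.le.trans (sup_le (fun x hx => ?_) ?_)
    · simpa using ((hD x).1 hx).2 1 (one_mem _)
    · exact key T inf_le_left fun h4 => hM.not_isPGroup h1 (hT.isPGroup.to_le h4)
  · have h4 := sup_inf_assoc_of_le_normalizer' hTR h2
    rw [hRT, top_inf_eq] at h4
    refine h4.le.trans (sup_le_sup_right (fun x hx => (hD x).2 ⟨hx.1, fun t ht => ?_⟩) _)
    exact key X (inf_le_left.trans h2) (fun h5 => h3.ne (hgen' X h2 h5))
      ⟨X.mul_mem (X.mul_mem (X.inv_mem (h2 ht)) hx.2) (h2 ht), mem_normalizer_conj' (hTR ht) hx.1⟩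

omit hp in
theorem commutator_eq_bot_of_central {K E D P : Subgroup G} (h1 : ⁅K, E⁆ ≤ D)
    (h2 : D ≤ centralizer (E : Set G)) (h3 : K ≤ normalizer (D : Set G))
    (h4 : E ≤ normalizer (K : Set G)) (h5 : ∀ Q, Q ≤ D → IsPGroup p Q → Q = ⊥) (hP : IsPGroup p P)
    (hPE : P ≤ E) (hE : E ≤ ncl P E) : ⁅K, E⁆ = ⊥ := by
  have hDP : D ≤ centralizer (P : Set G) := h2.trans (centralizer_le hPE)
  have hKP : ⁅K, P⁆ ≤ D := (commutator_mono le_rfl hPE).trans h1
  have hKW : K ≤ normalizer ((P ⊔ D : Subgroup G) : Set G) :=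
    le_normalizer_of_commutator_le (commutator_sup_left_le_of_le_normalizer
      (le_sup_left.trans le_normalizer) (le_sup_right.trans le_normalizer)
      ((commutator_comm _ _).le.trans (hKP.trans le_sup_right))
      ((commutator_le_left_of_le_normalizer h3).trans le_sup_right))
  have hDn : D ≤ normalizer (P : Set G) := hDP.trans (centralizer_le_normalizer _)
  have hPO : P ≤ pCoreOf p (P ⊔ D) := le_pCoreOf le_sup_left (sup_le le_normalizer hDn) hP
  have hO : pCoreOf p (P ⊔ D) = P := by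
    have := sup_inf_assoc_of_le_normalizer hDn hPO
    rwa [h5 _ inf_le_left ((isPGroup_pCoreOf _).to_le inf_le_right), sup_bot_eq,
      inf_eq_right.2 (pCoreOf_le _)] at this
  have hKn : K ≤ normalizer (P : Set G) := hO ▸ le_normalizer_pCoreOf hKW
  have h6 : ⁅K, P⁆ = ⊥ := h5 _ hKP (hP.to_le (commutator_le_right_of_le_normalizer hKn))
  refine commutator_eq_bot_iff_le_centralizer.2 ((le_centralizer_ncl h4
    (commutator_eq_bot_iff_le_centralizer.1 h6)).trans (centralizer_le hE))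

/-- Strong irreducibility when `O_p = 1`. -/
def SI (p : ℕ) (E : Subgroup G) : Prop :=
  ¬ IsPClosed p E ∧ ∀ N ≤ E, E ≤ normalizer (N : Set G) → ⁅N, E⁆ ≠ ⊥ → resOf p E ≤ N

theorem SI.exists_le_ncl {E : Subgroup G} (h : SI p E) :
    ∃ P : Subgroup G, IsPGroup p P ∧ P ≤ E ∧ E ≤ ncl P E := by
  obtain ⟨P, hP⟩ := exists_isSylowIn (p := p) E
  refine ⟨P, hP.isPGroup, hP.le, (resOf_sup_isSylowIn hP).ge.trans (sup_le ?_ (le_ncl _ _))⟩
  refine h.2 _ (ncl_le_of_le hP.le) (le_normalizer_ncl _ _) fun h1 => h.1 ?_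
  exact (isPClosed_iff_of_isSylowIn hP).2 (((commutator_eq_bot_iff_le_centralizer'.1 h1).trans
    (centralizer_le (le_ncl P E))).trans (centralizer_le_normalizer _))

omit [Finite G] hp in
theorem eq_bot_of_central {D E : Subgroup G} (hO : pCoreOf p E = ⊥) (hDE : D ≤ E)
    (h : D ≤ centralizer (E : Set G)) (Q : Subgroup G) (hQ : Q ≤ D) (hQp : IsPGroup p Q) : Q = ⊥ :=
  le_bot_iff.1 (hO ▸ le_pCoreOf (hQ.trans hDE)
    ((le_centralizer_iff.1 (hQ.trans h)).trans (centralizer_le_normalizer _)) hQp)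

theorem SI.resOf_le_or {E K : Subgroup G} (h : SI p E) (hO : pCoreOf p E = ⊥)
    (h1 : E ≤ normalizer (K : Set G)) (h2 : K ≤ normalizer (E : Set G)) :
    resOf p E ≤ K ∨ ⁅K, E⁆ = ⊥ := by
  by_cases h3 : ⁅K ⊓ E, E⁆ = ⊥
  · obtain ⟨P, hP, hPE, hE⟩ := h.exists_le_ncl
    have h4 := commutator_eq_bot_iff_le_centralizer.1 h3
    exact Or.inr (commutator_eq_bot_of_central (commutator_le_inf_of_le_normalizer h2 h1) h4
      (le_normalizer_inf le_normalizer h2) h1 (eq_bot_of_central hO inf_le_right h4) hP hPE hE)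
  · exact Or.inl ((h.2 _ inf_le_right (le_normalizer_inf h1 le_normalizer) h3).trans inf_le_left)

theorem family_core {ι : Type*} [Nonempty ι] (E : ι → Subgroup G) (hO : pCoreOf p (⊤ : Subgroup G) = ⊥)
    [hR : (⨆ i, E i).Normal] (hres : resOf p ⊤ ≤ ⨆ i, E i)
    (hn : ∀ i, ⨆ i, E i ≤ normalizer (E i : Set G)) (htr : ∀ i j, ∃ h, E j = cj h (E i))
    (hE : ∀ i, SI p (E i)) :
    (∀ N : Subgroup G, N.Normal → ¬ IsPClosed p N → resOf p ⊤ ≤ N) ∧
      ∀ i j, resOf p (E i) = resOf p (E j) ∨ ⁅E i, E j⁆ = ⊥ := by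
  set R := ⨆ i, E i with hRdef
  have hER : ∀ i, E i ≤ R := le_iSup E
  have hOR : pCoreOf p R = ⊥ := pCoreOf_eq_bot_of_subnormalIn (SubnormalIn.of_normal le_top) hO
  have hOE : ∀ i, pCoreOf p (E i) = ⊥ := fun i =>
    pCoreOf_eq_bot_of_subnormalIn (SubnormalIn.of_le_normalizer (hER i) (hn i)) hOR
  refine ⟨fun N hN hc => ?_, fun i j => ?_⟩
  · by_cases h1 : ∃ i, resOf p (E i) ≤ N
    · obtain ⟨i, hi⟩ := h1
      have h2 : ∀ j, resOf p (E j) ≤ N := fun j => by
        obtain ⟨h, hh⟩ := htr i j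
        rw [hh, resOf_cj, ← cj_eq_of_normal h N]
        exact cj_mono h hi
      rw [← resOf_eq_of_le hres le_top, ← QuotientGroup.ker_mk' N, ← isPGroup_map_iff]
      refine (isPGroup_pCoreOf (R.map (QuotientGroup.mk' N))).to_le ?_
      conv_lhs => rw [hRdef, Subgroup.map_iSup]
      refine iSup_le fun j => le_pCoreOf (map_mono (hER j))
        ((map_mono (hn j)).trans (le_normalizer_map _)) ?_
      rw [isPGroup_map_iff, QuotientGroup.ker_mk']
      exact h2 j
    push Not at h1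
    refine absurd (FM.isPClosed_of_commutator_le le_top (top_le_normalizer N ⊤) ?_) hc
    have h2 : ∀ i, N ⊓ R ≤ centralizer (E i : Set G) := fun i =>
      ((hE i).resOf_le_or (hOE i) (top_le_normalizer _ _) (inf_le_right.trans (hn i))).elim
        (fun h => absurd (h.trans inf_le_left) (h1 i)) commutator_eq_bot_iff_le_centralizer.1
    have h3 : N ≤ centralizer (R : Set G) := le_centralizer_iSup fun i => by
      obtain ⟨P, hP, hPE, hE'⟩ := (hE i).exists_le_ncl
      exact commutator_eq_bot_iff_le_centralizer.1 (commutator_eq_bot_of_central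
        ((commutator_mono le_rfl (hER i)).trans (commutator_le_inf _ _)) (h2 i)
        (top_le_normalizer _ _) (top_le_normalizer _ _)
        (eq_bot_of_central hOR inf_le_right (le_centralizer_iSup h2)) hP hPE hE')
    exact ((commutator_mono le_rfl hres).trans
      (commutator_eq_bot_iff_le_centralizer.2 h3).le).trans bot_le
  · refine ((hE j).resOf_le_or (hOE j) ((hER j).trans (hn i)) ((hER i).trans (hn j))).imp_left
      fun h => (eq_of_le_of_card_ge (resOf_le_resOf_of_le h) ?_).symm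
    obtain ⟨h, hh⟩ := htr i j
    rw [hh, resOf_cj, card_cj]

theorem si_map {G' : Type*} [Group G'] [Finite G'] (f : G →* G') (hf : IsPGroup p f.ker)
    {E : Subgroup G} (hE : IsStronglyPIrreducible p E) (hO : pCoreOf p (E.map f) = ⊥) :
    SI p (E.map f) := by
  refine ⟨fun h => hE.1 (isPClosed_of_map f hf h), fun N hN hn hc => ?_⟩
  have h1 : E ≤ normalizer ((N.comap f ⊓ E : Subgroup G) : Set G) :=
    le_normalizer_inf ((map_le_iff_le_comap.1 hn).trans (le_normalizer_comap f)) le_normalizer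
  have h2 := hE.2 ((N.comap f ⊓ E).subgroupOf E) (Local.normal_subgroupOf_of_le_normalizer' h1)
    fun h3 => hc (le_bot_iff.1 ?_)
  · rw [← map_resOf, map_le_iff_le_comap]
    exact ((map_mono h2).trans (map_subgroupOf_eq_of_le inf_le_right).le).trans inf_le_left
  · have h4 : ⁅N.comap f ⊓ E, E⁆ ≤ pCoreOf p E := by
      have := map_mono (f := E.subtype) h3
      rwa [map_commutator, map_subgroupOf_eq_of_le inf_le_right, ← MonoidHom.range_eq_map,
        range_subtype] at this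
    have h5 : N ≤ (N.comap f ⊓ E).map f := fun x hx => by
      obtain ⟨y, hy, rfl⟩ := hN hx
      exact ⟨y, ⟨hx, hy⟩, rfl⟩
    rw [← hO]
    refine (commutator_mono h5 le_rfl).trans ?_
    rw [← map_commutator]
    exact (map_mono h4).trans (map_pCoreOf_le E f)

end Family

end Cfsg.Lib.FrakM
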