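import Cfsg.Agent.Local.JStruct2
import Cfsg.Agent.Local.Res

/-!
`J(T)`-components in ZN-groups of characteristic 2 type (Kurzweil–Stellmacher 12.1).
-/

set_option autoImplicit false
set_option linter.unusedSectionVars false

namespace Cfsg.Lib.Local.JC

open Subgroup Cfsg.Lib.Trans Cfsg.Lib.Trans.TJ Cfsg.Lib.Solv
open scoped commutatorElement

variable {G : Type*} [Group G]

/-- The standing hypotheses on the ambient group. -/
structure ZN (G : Type*) [Group G] : Prop where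
  char : IsCharacteristicTwoType G
  solv : ∀ N : Subgroup G, IsTwoLocal N → Group.IsSolvable N
  zn : ∀ S : Sylow 2 G, centralizer (omegaCenterOf (S : Subgroup G) : Set G) ≤
    normalizer ((S : Subgroup G) : Set G)

/-- `T` is Sylow in `L` and `O₂(L)` contains its centralizer in the ambient group. -/
structure LH (T L : Subgroup G) : Prop where
  syl : IsSylowIn 2 T L
  cent : centralizer (pCoreOf 2 L : Set G) ≤ pCoreOf 2 L

theorem lh_of_mem {T L : Subgroup G} (h : L ∈ jOvergroups T) : LH T L :=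
  ⟨isSylowTwoIn_iff.mp h.1, h.2.2⟩

theorem LH.mem {T L : Subgroup G} (h : LH T L) (hJ : ¬ J T ≤ pCoreOf 2 L) : L ∈ jOvergroups T :=
  ⟨isSylowTwoIn_iff.mpr h.syl, hJ, h.cent⟩

theorem subnormalIn_of_subgroupOf {K L : Subgroup G} (hK : K ≤ L)
    (h : SubnormalIn (K.subgroupOf L) ⊤) : SubnormalIn K L := ⟨hK, SubnormalIn.top_iff.mp h⟩

theorem mem_centralizer_subgroupOf {V L : Subgroup G} (hV : V ≤ L) {c : L} :
    c ∈ centralizer (V.subgroupOf L : Set L) ↔ (c : G) ∈ centralizer (V : Set G) :=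
  ⟨fun h v hv => congrArg Subtype.val (h ⟨v, hV hv⟩ hv), fun h v hv => Subtype.ext (h v hv)⟩

theorem mem_normalizer_subgroupOf {V L : Subgroup G} (hV : V ≤ L) {c : L} :
    c ∈ normalizer (V.subgroupOf L : Set L) ↔ (c : G) ∈ normalizer (V : Set G) := by
  rw [← cj_eq_self_iff, ← cj_eq_self_iff, ← subgroupOf_cj, subgroupOf_inj, inf_eq_left.mpr hV,
    inf_eq_left.mpr (cj_le_of_mem_of_le c.2 hV)]

variable [Finite G]

theorem w_subgroupOf {K L : Subgroup G} (hK : K ≤ L) :
    wOf (K.subgroupOf L) = (wOf K).subgroupOf L := by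
  refine map_injective L.subtype_injective ?_
  rw [map_w _ L.subtype_injective, map_subgroupOf_eq_of_le hK,
    map_subgroupOf_eq_of_le ((w_le K).trans hK)]

theorem commutator_subgroupOf {A B L : Subgroup G} (hA : A ≤ L) (hB : B ≤ L) :
    ⁅A.subgroupOf L, B.subgroupOf L⁆ = ⁅A, B⁆.subgroupOf L := by
  refine map_injective L.subtype_injective ?_
  rw [map_commutator, map_subgroupOf_eq_of_le hA, map_subgroupOf_eq_of_le hB,
    map_subgroupOf_eq_of_le (commutator_le.mpr fun a ha b hb =>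
      L.mul_mem (L.mul_mem (L.mul_mem (hA ha) (hB hb)) (L.inv_mem (hA ha))) (L.inv_mem (hB hb)))]

theorem ZN.cent_le (z : ZN G) {N : Subgroup G} (hN : IsTwoLocal N) :
    centralizer (pCoreOf 2 N : Set G) ≤ pCoreOf 2 N := by
  obtain ⟨R, hR, hR1, rfl⟩ := hN
  have h1 : CharP 2 (normalizer (R : Set G)) := charP_iff.mpr (z.char.2 R hR hR1)
  exact fun c hc => h1 ⟨centralizer_le_normalizer _
    (centralizer_le (le_pCoreOf le_normalizer le_rfl hR) hc), hc⟩

theorem ZN.lh (z : ZN G) {T N : Subgroup G} (hN : IsTwoLocal N) (hT : IsSylowIn 2 T N) : LH T N :=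
  ⟨hT, z.cent_le hN⟩

theorem isTwoLocal_normalizer {R : Subgroup G} (hR : IsPGroup 2 R) (h1 : R ≠ ⊥) :
    IsTwoLocal (normalizer (R : Set G)) := ⟨R, hR, h1, rfl⟩

theorem core_ne_bot_of_twoLocal {N : Subgroup G} (hN : IsTwoLocal N) : pCoreOf 2 N ≠ ⊥ := by
  obtain ⟨R, hR, hR1, rfl⟩ := hN
  exact fun h => hR1 (eq_bot_iff.mpr (h ▸ le_pCoreOf le_normalizer le_rfl hR))

namespace LH

variable {T L : Subgroup G}

theorem core_le (h : LH T L) : pCoreOf 2 L ≤ T := pCoreOf_le_sylowIn h.syl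

theorem oc_le_oc (h : LH T L) {S : Subgroup G} (hTS : T ≤ S) :
    omegaCenterOf S ≤ omegaCenterOf (pCoreOf 2 L) := fun x hx => by
  have h1 := centralizer_le (h.core_le.trans hTS) (oc_le_centralizer S hx)
  exact mem_oc.mpr ⟨h.cent h1, h1, oc_sq hx⟩

theorem oc_le_oc' (h : LH T L) {S : Subgroup G} (hTS : T ≤ S) :
    omegaCenterOf S ≤ omegaCenterOf T := fun x hx =>
  mem_oc.mpr ⟨h.core_le (oc_le _ (h.oc_le_oc hTS hx)),
    centralizer_le hTS (oc_le_centralizer S hx), oc_sq hx⟩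

theorem solvable (z : ZN G) (h : LH T L) : Group.IsSolvable L := by
  by_cases h1 : pCoreOf 2 L = ⊥
  · have h2 := h.cent
    rw [h1] at h2
    have : Subsingleton L := ⟨fun a b => Subtype.ext (by
      have ha := h2 (x := (a : G)) fun x hx => by rw [mem_bot.mp hx, one_mul, mul_one]
      have hb := h2 (x := (b : G)) fun x hx => by rw [mem_bot.mp hx, one_mul, mul_one]
      rw [mem_bot.mp ha, mem_bot.mp hb])⟩
    infer_instance
  · have := z.solv _ (isTwoLocal_normalizer (isPGroup_pCoreOf L) h1)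
    exact Group.isSolvable_of_isSolvable_injective 
      (inclusion_injective (le_normalizer_pCoreOf (p := 2) L))

theorem jhyp (z : ZN G) (h : LH T L) {V : Subgroup G} (hV : V ≤ omegaCenterOf (pCoreOf 2 L))
    (hn : L ≤ normalizer (V : Set G)) {S : Sylow 2 G} (hTS : T ≤ S)
    (hZ : omegaCenterOf (S : Subgroup G) ≤ V) : JHyp (T.subgroupOf L) (V.subgroupOf L) := by
  have hVL : V ≤ L := hV.trans ((oc_le _).trans (pCoreOf_le L))
  refine ⟨h.solvable z, h.syl.subgroupOf_top, normal_subgroupOf_of_le_normalizer hn, ?_, ?_,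
    ea_subgroupOf (ea_mono (ea_oc _) hV) L, fun c hc => ?_⟩
  · rw [← pCoreOf_subgroupOf]
    exact subgroupOf_mono L (hV.trans (oc_le _))
  · rw [← pCoreOf_subgroupOf]
    exact fun c hc => (mem_centralizer_subgroupOf hVL).mpr
      (centralizer_le hV (le_centralizer_oc _ hc))
  · rw [mem_normalizer_subgroupOf h.syl.le, ← h.syl.eq_inf S.isPGroup' hTS]
    exact inf_normalizer_le_normalizer_inf
      ⟨z.zn S (centralizer_le hZ ((mem_centralizer_subgroupOf hVL).mp hc)), le_normalizer c.2⟩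

theorem le_normalizer_oc (L : Subgroup G) :
    L ≤ normalizer (omegaCenterOf (pCoreOf 2 L) : Set G) :=
  (le_normalizer_pCoreOf L).trans (normalizer_le_normalizer_oc _)

theorem jhyp' (z : ZN G) (h : LH T L) :
    JHyp (T.subgroupOf L) ((omegaCenterOf (pCoreOf 2 L)).subgroupOf L) := by
  obtain ⟨S, hS⟩ := h.syl.isPGroup.exists_le_sylow
  exact h.jhyp z le_rfl (le_normalizer_oc L) hS (h.oc_le_oc hS)

variable {K K' : Subgroup G}

theorem subnormal (z : ZN G) (h : LH T L) (hK : PreJC T K) (hKL : K ≤ L) : SubnormalIn K L :=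
  subnormalIn_of_subgroupOf hKL ((h.jhyp' z).subnormal (hK.subgroupOf h.syl.le hKL))

theorem preJC_cj (z : ZN G) (h : LH T L) (hK : PreJC T K) (hKL : K ≤ L) {g : G} (hg : g ∈ L) :
    PreJC T (cj g K) := by
  have := ((h.jhyp' z).preJC_cj (hK.subgroupOf h.syl.le hKL) ⟨g, hg⟩).map L.subtype_injective
  rwa [← subgroupOf_cj, map_subgroupOf_eq_of_le h.syl.le,
    map_subgroupOf_eq_of_le (cj_le_of_mem_of_le hg hKL)] at this

theorem le_centralizer_of_ne (z : ZN G) (h : LH T L) (hK : PreJC T K) (hKL : K ≤ L)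
    (hK' : PreJC T K') (hKL' : K' ≤ L) (hne : K ≠ K') : K' ≤ centralizer (wOf K : Set G) := by
  have := (h.jhyp' z).le_centralizer_of_ne (hK.subgroupOf h.syl.le hKL)
    (hK'.subgroupOf h.syl.le hKL') (fun h1 => hne (by
      rwa [subgroupOf_inj, inf_eq_left.mpr hKL, inf_eq_left.mpr hKL'] at h1))
  rw [w_subgroupOf hKL] at this
  exact fun k hk => (mem_centralizer_subgroupOf ((w_le K).trans hKL)).mp
    (this (x := ⟨k, hKL' hk⟩) hk)

theorem eq_of_mem_w (z : ZN G) (h : LH T L) (hK : PreJC T K) (hKL : K ≤ L)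
    (hK' : PreJC T K') (hKL' : K' ≤ L) {t : G} (ht : t ∈ wOf K) (ht' : t ∈ wOf K') (h1 : t ≠ 1) :
    K = K' := by
  by_contra hne
  obtain ⟨k, hk, hkP, -⟩ := hK'.idx3.exists_odd
  exact h1 (hK'.idx3.fpf_w ht' hk hkP (h.le_centralizer_of_ne z hK hKL hK' hKL' hne hk t ht).symm)

theorem le_sup_normalizer (z : ZN G) (h : LH T L) :
    L ≤ sSup {K | PreJC T K ∧ K ≤ L} ⊔ normalizer (J T : Set G) := by
  have h1 := map_mono (f := L.subtype) (h.jhyp' z).le_sup_normalizer
  rw [← MonoidHom.range_eq_map, range_subtype, Subgroup.map_sup] at h1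
  refine h1.trans (sup_le_sup ?_ ?_)
  · rw [sSup_eq_iSup', Subgroup.map_iSup]
    refine iSup_le fun K => le_sSup ⟨?_, map_subtype_le _⟩
    have := K.2.map L.subtype_injective
    rwa [map_subgroupOf_eq_of_le h.syl.le] at this
  · rintro _ ⟨c, hc, rfl⟩
    rw [J, J_subgroupOf h.syl.le] at hc
    exact (mem_normalizer_subgroupOf ((J_le T).trans h.syl.le)).mp hc

theorem w_eq_comm (z : ZN G) (h : LH T L) (hK : PreJC T K) (hKL : K ≤ L) :
    wOf K = ⁅omegaCenterOf (pCoreOf 2 L), K⁆ := by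
  have hVL : omegaCenterOf (pCoreOf 2 L) ≤ L := (oc_le _).trans (pCoreOf_le L)
  have := (h.jhyp' z).w_eq_comm (hK.subgroupOf h.syl.le hKL)
  rw [w_subgroupOf hKL, commutator_subgroupOf hVL hKL, subgroupOf_inj,
    inf_eq_left.mpr ((w_le K).trans hKL)] at this
  exact this.trans (inf_eq_left.mpr ((commutator_le_left_of_le_normalizer
    (hKL.trans (le_normalizer_oc L))).trans hVL))

theorem w_le_oc (z : ZN G) (h : LH T L) (hK : PreJC T K) (hKL : K ≤ L) :
    wOf K ≤ omegaCenterOf (pCoreOf 2 L) := by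
  rw [h.w_eq_comm z hK hKL]
  exact commutator_le_left_of_le_normalizer (hKL.trans (le_normalizer_oc L))

/-- An element of `L` fixing an involution of `W_K` normalizes `K`. -/
theorem mem_normalizer_of_fix (z : ZN G) (h : LH T L) (hK : PreJC T K) (hKL : K ≤ L) {g t : G}
    (hg : g ∈ L) (ht : t ∈ wOf K) (ht' : g * t * g⁻¹ ∈ wOf K) (h1 : t ≠ 1) :
    g ∈ normalizer (K : Set G) := by
  rw [← cj_eq_self_iff]
  exact (h.eq_of_mem_w z hK hKL (h.preJC_cj z hK hKL hg) (cj_le_of_mem_of_le hg hKL) ht'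
    (cj_w g K ▸ conj_mem_cj.mpr ht) fun h2 => h1 (by simpa using h2)).symm

end LH

theorem J_cj_eq {T U : Subgroup G} {g : G} (h : J (cj g T) ≤ U) (e : J U = J T) :
    J (cj g T) = J T := by
  have e1 : J (cj g T) = J (cj g U) := by rw [← cj_J, ← cj_J, e]
  have := J_cj_eq_of_le (T := cj g U) (g := g⁻¹) (by rwa [cj_inv_cj, ← e1])
  rw [cj_inv_cj] at this
  rw [e1, ← this, e]

theorem zero_iff {T K : Subgroup G} : K ∈ jComponentsZero T ↔ IsJComponent T K ∧
    ∀ S : Subgroup G, J T ≤ S → IsSylowIn 2 S (normalizer (wOf K : Set G)) → J S = J T := by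
  simp only [jComponentsZero, isSylowTwoIn_iff, Set.mem_ofPred_eq]

theorem twoLocal_w {T K : Subgroup G} (h : PreJC T K) : IsTwoLocal (normalizer (wOf K : Set G)) :=
  isTwoLocal_normalizer (ea_isPGroup (ea_w K)) h.w_ne_bot

theorem zero_exists_syl {T K : Subgroup G} (hT : IsPGroup 2 T) (hK : K ∈ jComponentsZero T) :
    ∃ U, IsSylowIn 2 U (normalizer (wOf K : Set G)) ∧ J U = J T := by
  obtain ⟨h1, h2⟩ := zero_iff.mp hK
  obtain ⟨U, hU, hJ⟩ := exists_isSylowIn_ge (hT.to_le (J_le T))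
    ((jc_pre h1).J_le_normalizer.trans (normalizer_le_normalizer_w K))
  exact ⟨U, hU, h2 U hJ hU⟩

theorem ZN.normalizer_eq (z : ZN G) {T K : Subgroup G} (hT : IsPGroup 2 T)
    (hK : K ∈ jComponentsZero T) : normalizer (K : Set G) = normalizer (wOf K : Set G) := by
  obtain ⟨U, hU, e⟩ := zero_exists_syl hT hK
  have hp := jc_pre hK.1
  refine le_antisymm (normalizer_le_normalizer_w K) fun g hg => ?_
  obtain ⟨t, ht, ht1⟩ := (Subgroup.bot_or_exists_ne_one _).resolve_left hp.w_ne_bot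
  exact (z.lh (twoLocal_w hp) hU).mem_normalizer_of_fix z (hp.congr e.symm) (le_normalizer_w K) hg
    ht (mem_normalizer_conj hg ht) ht1

theorem ZN.jc_of_le (z : ZN G) {T K : Subgroup G} (hT : IsPGroup 2 T)
    (hK : K ∈ jComponentsZero T) {g : G} (hg : J (cj g T) ≤ normalizer (wOf K : Set G)) :
    IsJComponent (cj g T) K := by
  obtain ⟨U, hU, e⟩ := zero_exists_syl hT hK
  obtain ⟨n, hn, hn'⟩ := hU.exists_cj_le ((isPGroup_cj hT g).to_le (J_le _)) hg
  rw [cj_J, cj_cj] at hn'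
  have h1 := jc_cj (jc_congr hK.1 (J_cj_eq hn' e).symm) (isPGroup_cj hT _) n⁻¹
  rw [← z.normalizer_eq hT hK] at hn
  rwa [cj_cj, inv_mul_cancel_left, cj_eq_of_mem_normalizer (inv_mem hn)] at h1

theorem ZN.J_le_normalizer_w (z : ZN G) {T L K : Subgroup G} (h : LH T L) (hKL : K ≤ L)
    (h3 : Idx3 K) (h4 : Nat.card (wOf K) = 4) (hsn : SubnormalIn K (K ⊔ J T)) :
    J T ≤ normalizer (wOf K : Set G) := by
  set H := K ⊔ J T with hH
  have hHL : H ≤ L := sup_le hKL ((J_le T).trans h.syl.le)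
  have hJ2 : IsPGroup 2 (J T) := h.syl.isPGroup.to_le (J_le T)
  set L1 := pCoreOf 2 L ⊔ H with hL1
  have hL1L : L1 ≤ L := sup_le (pCoreOf_le L) hHL
  obtain ⟨T1, hT1, hJ1⟩ := exists_isSylowIn_ge hJ2 (le_sup_right.trans le_sup_right : J T ≤ L1)
  have e : J T1 = J T := J_eq_of_sylowIn h.syl hT1.isPGroup (hT1.le.trans hL1L) hJ1
  have hQ1 : pCoreOf 2 L ≤ pCoreOf 2 L1 := pCoreOf_le_of_le le_sup_left hL1L
  have h1 : LH T1 L1 := ⟨hT1, (centralizer_le hQ1).trans (h.cent.trans hQ1)⟩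
  have hR : pCoreOf 2 H ≤ pCoreOf 2 L1 := by
    refine le_sup_right.trans (le_pCoreOf (N := pCoreOf 2 L ⊔ pCoreOf 2 H)
      (sup_le_sup_left (pCoreOf_le H) _) (sup_le (le_sup_left.trans le_normalizer) ?_) ?_)
    · exact PG.le_normalizer_sup (hHL.trans (le_normalizer_pCoreOf L)) (le_normalizer_pCoreOf H)
    · exact isPGroup_sup' (isPGroup_pCoreOf L) (isPGroup_pCoreOf H)
        (((pCoreOf_le H).trans hHL).trans (le_normalizer_pCoreOf L))
  have hP : pCoreOf 2 K ≤ pCoreOf 2 H := pCoreOf_le_of_subnormalIn hsn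
  have hRK : pCoreOf 2 H ≤ normalizer (K : Set G) := by
    have := MSS.le_normalizer_resOf_of_subnormalIn (p := 2) hsn (pCoreOf_le H)
      (le_normalizer_pCoreOf H)
      (isPGroup_pCoreOf H)
    rwa [h3.res] at this
  set V := omegaCenterOf (pCoreOf 2 L1) ⊓ H with hV
  have hVn : L1 ≤ normalizer (V : Set G) := by
    refine sup_le ?_ (PG.le_normalizer_inf (le_sup_right.trans (LH.le_normalizer_oc L1))
      le_normalizer)
    exact ((hQ1.trans (le_centralizer_oc _)).trans (centralizer_le inf_le_left)).trans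
      (centralizer_le_normalizer _)
  obtain ⟨S, hS⟩ := hT1.isPGroup.exists_le_sylow
  have hj := h1.jhyp z (V := V) inf_le_left hVn hS (le_inf (h1.oc_le_oc hS)
    (((h1.oc_le_oc' hS).trans (oc_le_J T1)).trans (e ▸ le_sup_right)))
  have hVR : V ≤ pCoreOf 2 H :=
    (inf_le_inf_right _ (oc_le _)).trans (pCoreOf_inf_le le_sup_right)
  have hKL1 : K ≤ L1 := le_sup_left.trans le_sup_right
  have hVL1 : V ≤ L1 := inf_le_right.trans le_sup_right
  have h3' : Idx3 (K.subgroupOf L1) :=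
    Idx3.of_map L1.subtype_injective (by rwa [map_subgroupOf_eq_of_le hKL1])
  have hP' : pCoreOf 2 (K.subgroupOf L1) ≤ pCore 2 L1 := by
    rw [pCoreOf_subgroupOf_of_le hKL1, ← pCoreOf_subgroupOf]
    exact subgroupOf_mono _ (hP.trans hR)
  have hle : ⁅V, K⁆ ≤ wOf K := by
    have := hj.comm_V_le_w h3' (fun v hv => (mem_normalizer_subgroupOf hKL1).mpr (hRK (hVR hv))) hP'
    rw [w_subgroupOf hKL1, commutator_subgroupOf hVL1 hKL1] at this
    exact fun x hx => this (x := ⟨x, hVL1 (commutator_le_left_of_le_normalizer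
      (hKL1.trans hVn) hx)⟩) hx
  by_cases hb : ⁅V, K⁆ = ⊥
  · refine le_trans ?_ (normalizer_le_normalizer_w K)
    have h5 : ⁅K, J T⁆ ≤ pCoreOf 2 H := by
      refine commutator_le.mpr fun k hk j hj' => pCoreOf_inf_le (le_sup_right : H ≤ L1) ⟨?_,
        commutator_mem_left (le_normalizer (mem_sup_right hj')) (mem_sup_left hk)⟩
      obtain ⟨n, hn⟩ := PG.exists_pow_prime_pow_eq_one hJ2 hj'
      have := hj.comm_mem_core (c := ⟨k, hKL1 hk⟩) (x := ⟨j, mem_sup_right (mem_sup_right hj')⟩)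
        (k := n) ((mem_centralizer_subgroupOf hVL1).mpr
          (le_centralizer_iff.mp (commutator_eq_bot_iff_le_centralizer.mp hb) hk)) (Subtype.ext hn)
      exact ⟨_, this, rfl⟩
    have h6 : J T ≤ normalizer ((K ⊔ pCoreOf 2 H : Subgroup G) : Set G) := by
      refine le_normalizer_of_commutator_le (sup_commutator_le (le_sup_left.trans le_normalizer)
        (le_sup_right.trans le_normalizer) (h5.trans le_sup_right) ?_)
      exact (commutator_le_left_of_le_normalizer
        (le_sup_right.trans (le_normalizer_pCoreOf H))).trans le_sup_right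
    have := h6.trans (normalizer_le_normalizer_resOf (p := 2) _)
    rwa [resOf_sup_of_isPGroup (isPGroup_pCoreOf H) hRK, h3.res] at this
  · obtain ⟨t, ht, ht1⟩ := (Subgroup.bot_or_exists_ne_one _).resolve_left hb
    obtain ⟨k, hk, hkP, -⟩ := h3.exists_odd
    have hw : wOf K = ⁅V, K⁆ := le_antisymm (h3.w_le_of_mem h4 (hle ht) ht1 hk hkP ht
      (mem_normalizer_conj (normalizer_commutator_ge_right V K hk) ht)) hle
    have := hj.J_le_normalizer_w h3' (by
        rw [← card_map_of_injective L1.subtype_injective, map_w _ L1.subtype_injective,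
          map_subgroupOf_eq_of_le hKL1, h4])
      (by rw [w_subgroupOf hKL1, commutator_subgroupOf hVL1 hKL1, hw]) ?_ hP'
    · rw [J, J_subgroupOf hT1.le, w_subgroupOf hKL1] at this
      rw [← e]
      exact fun j hj' => (mem_normalizer_subgroupOf ((w_le K).trans hKL1)).mp
        (this (x := ⟨j, hT1.le (J_le T1 hj')⟩) hj')
    · have h7 := (hsn.sup_of_le_normalizer (K := pCoreOf 2 L1)
        (le_sup_right.trans (le_normalizer_pCoreOf L1))).subgroupOf L1
      rw [subgroupOf_sup (pCoreOf_le L1) hKL1, pCoreOf_subgroupOf,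
        subgroupOf_eq_top.mpr (sup_le (hQ1.trans le_sup_left) le_sup_right)] at h7
      exact h7

end Cfsg.Lib.Local.JC
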