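import Cfsg.Agent.Local.JTop
import Cfsg.Agent.Local.CubicCoset

/-!
The amalgam of two `J(T)`-components (Kurzweil–Stellmacher 12.3).
-/

set_option autoImplicit false
set_option linter.unusedSectionVars false

namespace Cfsg.Lib.Local.JC

open Subgroup Cfsg.Lib.Trans Cfsg.Lib.Trans.TJ Cfsg.Lib.Solv
open scoped commutatorElement

variable {G : Type*} [Group G]

open Amal in
theorem amalgam_ea {M₁ M₂ : Subgroup G} (hgen : M₁ ⊔ M₂ = ⊤)
    (hcore : ∀ N : Subgroup G, N ≤ M₁ ⊓ M₂ → N.Normal → N = ⊥)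
    (h1 : S3Pair M₁ (M₁ ⊓ M₂)) (h2 : S3Pair M₂ (M₁ ⊓ M₂))
    (c1 : M₁ ⊓ centralizer (pCoreOf 2 M₁ : Set G) ≤ pCoreOf 2 M₁)
    (c2 : M₂ ⊓ centralizer (pCoreOf 2 M₂ : Set G) ≤ pCoreOf 2 M₂)
    (n1 : ¬ M₁ ≤ centralizer (Amal.omZ 2 (M₁ ⊓ M₂) : Set G))
    (n2 : ¬ M₂ ≤ centralizer (Amal.omZ 2 (M₁ ⊓ M₂) : Set G)) : ∀ x ∈ pCoreOf 2 M₁, x * x = 1 := by
  let C := cosetCubic hgen hcore h1 h2
  have hb : C.Γ.Adj (Sum.inl ((1 : G) : G ⧸ M₁)) (Sum.inr ((1 : G) : G ⧸ M₂)) := cosetGraph_adj_mk 1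
  have e1 := stabilizer_inl_one (M₁ := M₁) (M₂ := M₂)
  have e2 := stabilizer_inr_one (M₁ := M₁) (M₂ := M₂)
  have hc : C.CharTwo := Cubic.charTwo_of_edge hb (Cubic.charAt_of (by rw [e1]; exact c1))
    (Cubic.charAt_of (by rw [e2]; exact c2))
  have hn := Cubic.not_cen_of_edge hb (Cubic.not_cen_of hb (by rw [e1, e2]; exact n1))
    (Cubic.not_cen_of hb.symm (by rw [e1, e2, inf_comm]; exact n2))
  intro x hx
  refine Cubic.Q_sq hc hn (a := Sum.inl ((1 : G) : G ⧸ M₁)) ?_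
  rwa [Cubic.Q_eq_pCoreOf, e1]

/-- The local properties of a member of the amalgam. -/
structure Par (T P : Subgroup G) : Prop where
  cent : centralizer (pCoreOf 2 P : Set G) ≤ pCoreOf 2 P
  syl : IsSylowIn 2 T P
  card : Nat.card P = 6 * Nat.card (pCoreOf 2 P)
  ncent : ¬ P ≤ centralizer (omegaCenterOf T : Set G)

variable [Finite G]

theorem card_subgroupOf_of_le {A X : Subgroup G} (h : A ≤ X) :
    Nat.card (A.subgroupOf X) = Nat.card A := Nat.card_congr (subgroupOfEquivOfLe h).toEquiv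

theorem Par.subgroupOf {T P X : Subgroup G} (h : Par T P) (hX : P ≤ X) :
    Amal.S3Pair (P.subgroupOf X) (T.subgroupOf X) ∧
      P.subgroupOf X ⊓ centralizer (pCoreOf 2 (P.subgroupOf X) : Set X) ≤
        pCoreOf 2 (P.subgroupOf X) ∧
      ¬ P.subgroupOf X ≤ centralizer (Amal.omZ 2 (T.subgroupOf X) : Set X) := by
  refine ⟨⟨inferInstance, ⟨(h.syl.subgroupOf hX).toSylow, IsSylowIn.map_toSylow _⟩, ?_⟩, ?_, ?_⟩
  · rw [pCoreOf_subgroupOf_of_le hX, card_subgroupOf_of_le hX,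
      card_subgroupOf_of_le ((pCoreOf_le P).trans hX), h.card]
  · exact (charP_subgroupOf_iff hX).mpr (inf_le_right.trans h.cent)
  · intro h1
    apply h.ncent
    have e : Amal.omZ 2 (T.subgroupOf X) = (omegaCenterOf T).subgroupOf X := by
      refine map_injective X.subtype_injective ?_
      rw [map_subgroupOf_eq_of_le ((oc_le T).trans (h.syl.le.trans hX))]
      exact (map_oc _ X.subtype_injective).trans
        (by rw [map_subgroupOf_eq_of_le (h.syl.le.trans hX)])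
    rw [e] at h1
    exact fun x hx => (mem_centralizer_subgroupOf ((oc_le T).trans (h.syl.le.trans hX))).mp
      (h1 (x := ⟨x, hX hx⟩) hx)

theorem amalgam_ambient {T P₁ P₂ : Subgroup G} (h1 : Par T P₁) (h2 : Par T P₂)
    (hT : P₁ ⊓ P₂ = T) (hO : pCoreOf 2 (P₁ ⊔ P₂) = ⊥) :
    ((Nonempty (P₁ ≃* Equiv.Perm (Fin 4)) ∧ Nonempty (P₂ ≃* Equiv.Perm (Fin 4))) ∨
      (Nonempty (P₁ ≃* Equiv.Perm (Fin 4) × Multiplicative (ZMod 2)) ∧
        Nonempty (P₂ ≃* Equiv.Perm (Fin 4) × Multiplicative (ZMod 2)))) ∧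
      ∀ x ∈ pCoreOf 2 P₁, x * x = 1 := by
  have l1 : P₁ ≤ P₁ ⊔ P₂ := le_sup_left
  have l2 : P₂ ≤ P₁ ⊔ P₂ := le_sup_right
  obtain ⟨a1, b1, c1⟩ := h1.subgroupOf l1
  obtain ⟨a2, b2, c2⟩ := h2.subgroupOf l2
  have e : T.subgroupOf (P₁ ⊔ P₂) = P₁.subgroupOf (P₁ ⊔ P₂) ⊓ P₂.subgroupOf (P₁ ⊔ P₂) := by
    rw [← hT]
    rfl
  have hgen : P₁.subgroupOf (P₁ ⊔ P₂) ⊔ P₂.subgroupOf (P₁ ⊔ P₂) = ⊤ := by
    rw [← subgroupOf_sup l1 l2, subgroupOf_self]
  have hcore : ∀ N : Subgroup ↥(P₁ ⊔ P₂), N ≤ P₁.subgroupOf (P₁ ⊔ P₂) ⊓ P₂.subgroupOf (P₁ ⊔ P₂) →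
      N.Normal → N = ⊥ := fun N hN hn => pCore_eq_bot_iff.mp (pCoreOf_eq_bot_iff.mp hO) N hn
        ((isPGroup_subgroupOf h1.syl.isPGroup _).to_le (e ▸ hN))
  rw [e] at a1 a2 c1 c2
  constructor
  · rcases Amal.amalgam_S4 hgen hcore a1 a2 b1 b2 c1 c2 with ⟨⟨f1⟩, ⟨f2⟩⟩ | ⟨⟨f1⟩, ⟨f2⟩⟩
    · exact Or.inl ⟨⟨(subgroupOfEquivOfLe l1).symm.trans f1⟩,
        ⟨(subgroupOfEquivOfLe l2).symm.trans f2⟩⟩
    · exact Or.inr ⟨⟨((subgroupOfEquivOfLe l1).symm.trans f1).trans MulEquiv.prodComm⟩,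
        ⟨((subgroupOfEquivOfLe l2).symm.trans f2).trans MulEquiv.prodComm⟩⟩
  · intro x hx
    have := amalgam_ea hgen hcore a1 a2 b1 b2 c1 c2 ⟨x, l1 (pCoreOf_le _ hx)⟩
      (by rwa [pCoreOf_subgroupOf_of_le l1])
    exact congrArg Subtype.val this

theorem Idx3.exists_conj {K : Subgroup G} (h : Idx3 K) (h4 : Nat.card (wOf K) = 4) {s t : G}
    (hs : s ∈ wOf K) (ht : t ∈ wOf K) (hs1 : s ≠ 1) (ht1 : t ≠ 1) :
    ∃ k ∈ K, k * s * k⁻¹ = t := by
  obtain ⟨k, hk, hkP, -⟩ := h.exists_odd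
  have hs' := mem_normalizer_conj (le_normalizer_w K hk) hs
  have hs1' : k * s * k⁻¹ ≠ 1 := fun h1 => hs1 (by simpa using h1)
  have hne : s ≠ k * s * k⁻¹ := fun h1 =>
    hs1 (h.fpf_w hs hk hkP (mul_inv_eq_iff_eq_mul.mp h1.symm))
  have hm := fun x => mem_iff_of_card (x := x) (ea_w K) h4 hs hs' hs1 hs1' hne
  rcases (hm t).mp ht with h1 | h1 | h1 | h1
  · exact absurd h1 ht1
  · exact ⟨1, one_mem _, by rw [h1]; group⟩
  · exact ⟨k, hk, h1.symm⟩
  · refine ⟨k * k, mul_mem hk hk, ?_⟩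
    have e : k * k * s * (k * k)⁻¹ = k * (k * s * k⁻¹) * k⁻¹ := by group
    rcases (hm _).mp (mem_normalizer_conj (le_normalizer_w K hk) hs') with h2 | h2 | h2 | h2
    · exact absurd (by simpa using h2) hs1
    · rw [← e] at h2
      exact absurd (h.fpf_w hs (mul_mem hk hk) (fun h3 => hkP (h.mem_of_sq hk h3))
        (mul_inv_eq_iff_eq_mul.mp h2)) hs1
    · exact absurd (h.fpf_w hs' hk hkP (mul_inv_eq_iff_eq_mul.mp h2)) hs1'
    · rw [e, h2, h1]

theorem PreJC.not_J_le {T K : Subgroup G} (h : PreJC T K) :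
    ¬ J T ≤ centralizer (wOf K : Set G) := fun h1 => by
  apply h.idx3.not_le
  rw [← h.idx3.inf_centralizer_w h.w_ne_bot]
  refine le_inf le_rfl (h.comm.ge.trans ((commutator_mono le_rfl h1).trans ?_))
  exact commutator_le_right_of_le_normalizer (PG.le_normalizer_centralizer (le_normalizer_w K))

theorem mul_mem_cent_four {W : Subgroup G} (hW : IsElementaryAbelian 2 W) (h4 : Nat.card W = 4)
    {u x y : G} (hu : u ∈ W) (hu1 : u ≠ 1) (hx : x ∈ normalizer (W : Set G))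
    (hy : y ∈ normalizer (W : Set G)) (hxu : x * u * x⁻¹ = u) (hyu : y * u * y⁻¹ = u)
    (hxC : x ∉ centralizer (W : Set G)) (hyC : y ∉ centralizer (W : Set G)) :
    x * y ∈ centralizer (W : Set G) := by
  obtain ⟨w, hw, hw'⟩ : ∃ w ∈ W, w ∉ zpowers u := SetLike.not_le_iff_exists.mp fun h => by
    have := Subgroup.card_le_of_le h
    rw [card_zpowers_two (ea_sq hW hu) hu1] at this
    omega
  have hw1 : w ≠ 1 := fun h => hw' (h ▸ one_mem _)
  have huw : u ≠ w := fun h => hw' (h ▸ mem_zpowers u)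
  have h1 := ((conj_four hW h4 hu hw hu1 hw1 huw hx hxu).resolve_left hxC).1
  have h2 := ((conj_four hW h4 hu hw hu1 hw1 huw hy hyu).resolve_left hyC).1
  refine (conj_four hW h4 hu hw hu1 hw1 huw (mul_mem hx hy) (by
    calc x * y * u * (x * y)⁻¹ = x * (y * u * y⁻¹) * x⁻¹ := by group
      _ = u := by rw [hyu, hxu])).resolve_right fun h3 => hu1 ?_
  have h5 : x * y * w * (x * y)⁻¹ = w := by
    calc x * y * w * (x * y)⁻¹ = x * (y * w * y⁻¹) * x⁻¹ := by group
      _ = (x * u * x⁻¹) * (x * w * x⁻¹) := by rw [h2]; group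
      _ = w := by rw [h1, hxu, ← mul_assoc, ea_sq hW hu, one_mul]
  have := h3.1
  rwa [h5, right_eq_mul] at this

/-- A top configuration with `Ω₁(Z(T)) = Ω₁(Z(J(T)))` of order at most four. -/
structure Good (T K L : Subgroup G) : Prop where
  z : ZN G
  top : Top T K L
  eq : omegaCenterOf T = omegaCenterOf (J T)
  card : Nat.card (omegaCenterOf (J T)) ≤ 4

theorem Top.good (z : ZN G) (hO : pCore 2 G = ⊥) {S : Sylow 2 G} {T K L : Subgroup G}
    (t : Top T K L) (hTS : T ≤ S)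
    (hx : T = S → normalizer (J T : Set G) ≤ L → T ∈ straddlingTwoSubgroups L) : Good T K L := by
  have h1 : omegaCenterOf (S : Subgroup G) = omegaCenterOf (J T) →
      omegaCenterOf T = omegaCenterOf (J T) := fun h =>
    le_antisymm (oc_le_oc_J T) (h ▸ t.lh.oc_le_oc' hTS)
  rcases t.three_cases z hO hTS hx with h | h | h
  · exact ⟨z, t, h1 h.1, by omega⟩
  · exact ⟨z, t, h1 h.1, by omega⟩
  · exact ⟨z, t, h.1, by omega⟩

namespace Good

variable {T K L : Subgroup G}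

theorem exists_u (h : Good T K L) : ∃ u ∈ wOf K, u ≠ 1 ∧ u ∈ omegaCenterOf T := by
  obtain ⟨u, hu, hu1, hu0, -⟩ := jc_zero h.top.jc h.top.pg
  exact ⟨u, hu, hu1, h.eq ▸ hu0⟩

theorem le_normalizer (h : Good T K L) : T ≤ normalizer (K : Set G) := by
  obtain ⟨u, hu, hu1, hu0⟩ := h.exists_u
  exact fun g hg => h.top.lh.mem_normalizer_of_fix h.z h.top.pre h.top.le (h.top.lh.syl.le hg) hu
    (by rwa [oc_le_centralizer _ hu0 g hg, mul_inv_cancel_right]) hu1

theorem sup_le (h : Good T K L) : K ⊔ T ≤ L := _root_.sup_le h.top.le h.top.lh.syl.le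

theorem syl (h : Good T K L) : IsSylowIn 2 T (K ⊔ T) := h.top.lh.syl.mono le_sup_right h.sup_le

theorem core_le (h : Good T K L) : pCoreOf 2 L ≤ pCoreOf 2 (K ⊔ T) :=
  pCoreOf_le_of_le (h.top.lh.core_le.trans le_sup_right) h.sup_le

theorem core_eq (h : Good T K L) : pCoreOf 2 (K ⊔ T) = T ⊓ centralizer (wOf K : Set G) := by
  have h3 := h.top.pre.idx3
  have hPW : K ⊔ T ≤ normalizer (wOf K : Set G) :=
    (_root_.sup_le Subgroup.le_normalizer h.le_normalizer).trans (normalizer_le_normalizer_w K)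
  have hT := pCoreOf_le_sylowIn h.syl
  refine le_antisymm (le_inf hT fun r hr => ?_) ?_
  · obtain ⟨u, hu, hu1, hu0⟩ := h.exists_u
    intro w hw
    by_cases hw1 : w = 1
    · rw [hw1, one_mul, mul_one]
    obtain ⟨k, hk, rfl⟩ := h3.exists_conj h.top.pre.card hu hw hu1 hw1
    have := oc_le_centralizer _ hu0 _
      (hT (mem_normalizer_conj' (le_normalizer_pCoreOf _ (mem_sup_left hk)) hr))
    calc k * u * k⁻¹ * r = k * (u * (k⁻¹ * r * k)) * k⁻¹ := by group
      _ = _ := by rw [← this]; group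
  · refine (inf_le_inf_right _ le_sup_right).trans (le_pCoreOf inf_le_left
      (PG.le_normalizer_inf Subgroup.le_normalizer (PG.le_normalizer_centralizer hPW)) ?_)
    refine isPGroup_of_resOf_le (isPGroup_pCoreOf K) ?_
    rw [← h3.inf_centralizer_w h.top.pre.w_ne_bot]
    refine le_inf ?_ ((resOf_le _).trans inf_le_right)
    have := resOf_mono (p := 2) (inf_le_left : (K ⊔ T) ⊓ centralizer (wOf K : Set G) ≤ K ⊔ T)
    rwa [resOf_sup_of_isPGroup h.top.pg h.le_normalizer, h3.res] at this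

theorem mul_mem (h : Good T K L) {x y : G} (hx : x ∈ T) (hy : y ∈ T)
    (hx' : x ∉ centralizer (wOf K : Set G)) (hy' : y ∉ centralizer (wOf K : Set G)) :
    x * y ∈ centralizer (wOf K : Set G) := by
  obtain ⟨u, hu, hu1, hu0⟩ := h.exists_u
  have hn := h.le_normalizer.trans (normalizer_le_normalizer_w K)
  exact mul_mem_cent_four (ea_w K) h.top.pre.card hu hu1 (hn hx) (hn hy)
    (by rw [oc_le_centralizer _ hu0 x hx, mul_inv_cancel_right])
    (by rw [oc_le_centralizer _ hu0 y hy, mul_inv_cancel_right]) hx' hy'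

theorem card_T (h : Good T K L) : Nat.card T = 2 * Nat.card (pCoreOf 2 (K ⊔ T)) := by
  obtain ⟨a, ha, haC⟩ := SetLike.not_le_iff_exists.mp h.top.pre.not_J_le
  rw [h.core_eq]
  exact Amal.card_eq_two_mul (J_le T ha) haC fun x hx y hy => h.mul_mem hx hy

theorem card_P (h : Good T K L) : Nat.card (K ⊔ T : Subgroup G) = 3 * Nat.card T := by
  have h3 := h.top.pre.idx3
  have e : K ⊓ T = pCoreOf 2 K := le_antisymm (inf_comm K T ▸ h3.inf_le h.top.pg)
    (le_inf (pCoreOf_le K) ((pCoreOf_le_of_normal le_sup_left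
      (_root_.sup_le Subgroup.le_normalizer h.le_normalizer)).trans (pCoreOf_le_sylowIn h.syl)))
  have h1 := PG.card_sup_mul_card_inf h.le_normalizer
  rw [e, ← PG.relIndex_mul_card (pCoreOf_le (p := 2) K), h3.idx, mul_right_comm] at h1
  exact Nat.eq_of_mul_eq_mul_right Nat.card_pos h1

theorem par (h : Good T K L) : Par T (K ⊔ T) where
  cent := (centralizer_le h.core_le).trans (h.top.lh.cent.trans h.core_le)
  syl := h.syl
  card := by rw [h.card_P, h.card_T]; omega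
  ncent := fun h1 => by
    obtain ⟨u, hu, hu1, hu0⟩ := h.exists_u
    obtain ⟨k, hk, hkP, -⟩ := h.top.pre.idx3.exists_odd
    exact hu1 (h.top.pre.idx3.fpf_w hu hk hkP (h1 (mem_sup_left hk) u hu0).symm)

theorem of_top (h : Good T K L) {K' L' : Subgroup G} (t : Top T K' L') : Good T K' L' :=
  ⟨h.z, t, h.eq, h.card⟩

theorem exists_second (h : Good T K L) (hO : pCore 2 G = ⊥) {S : Sylow 2 G} (hTS : T ≤ S)
    (hx : T = S → normalizer (J T : Set G) ≤ L → T ∈ straddlingTwoSubgroups L) :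
    ∃ K' L', Good T K' L' ∧ ¬ K' ≤ L := by
  by_cases hN : normalizer (T : Set G) ≤ L
  · have hTS' : T = S := by
      refine hTS.lt_or_eq.resolve_left fun h1 => (lt_inf_normalizer S.isPGroup' h1).not_ge ?_
      exact (inf_le_inf_left _ hN).trans (h.top.lh.syl.eq_inf S.isPGroup' hTS).le
    have hNJ : normalizer (J T : Set G) ≤ L := by
      refine (normalizer_le_normalizer_oc _).trans ?_
      rw [← h.eq, hTS']
      exact (h.z.normalizer_oc_le S).trans (hTS' ▸ hN)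
    have hs : Setup S L T := ⟨h.z, hO, h.top.loc, hTS' ▸ hNJ, by
      have := hx hTS' hNJ
      rw [hTS'] at this ⊢
      exact sylow_mem_max this⟩
    obtain ⟨K', hK'⟩ := hs.exists_outside
    obtain ⟨L', t'⟩ := hs.exists_top hK'
    exact ⟨K', L', h.of_top t', hK'.2.1⟩
  · obtain ⟨g, hg, hgL⟩ := SetLike.not_le_iff_exists.mp hN
    exact ⟨_, _, h.of_top (h.top.cj hg),
      fun h1 => hgL (h.top.mem_of_cj_le (normalizer_le_normalizer_J T hg) h1)⟩

variable {K' L' : Subgroup G}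

theorem not_le_symm (h : Good T K L) (h' : Good T K' L') (hn : ¬ K' ≤ L) : ¬ K ≤ L' :=
  fun h1 => hn (h'.top.le.trans (h.top.max L' h'.top.loc h1 ((J_le T).trans h'.top.lh.syl.le)))

theorem core_sup (h : Good T K L) (hn : ¬ K' ≤ L) : pCoreOf 2 ((K ⊔ T) ⊔ (K' ⊔ T)) = ⊥ := by
  by_contra h1
  have h2 := le_normalizer_pCoreOf (p := 2) ((K ⊔ T) ⊔ (K' ⊔ T))
  exact hn (((le_sup_left.trans le_sup_right).trans h2).trans (h.top.max _
    (isTwoLocal_normalizer (isPGroup_pCoreOf _) h1) ((le_sup_left.trans le_sup_left).trans h2)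
    (((J_le T).trans (le_sup_right.trans le_sup_left)).trans h2)))

theorem inf_eq (h : Good T K L) (h' : Good T K' L') (hn : ¬ K' ≤ L) :
    (K ⊔ T) ⊓ (K' ⊔ T) = T :=
  (PG.eq_or_eq_of_card_eq_prime_mul Nat.prime_three h.card_P (le_inf le_sup_right le_sup_right)
    inf_le_left).resolve_right fun h1 => h.not_le_symm h' hn
      ((le_sup_left.trans (h1.ge.trans inf_le_right)).trans h'.sup_le)

theorem ea_core (h : Good T K L) (h' : Good T K' L') (hn : ¬ K' ≤ L) :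
    IsElementaryAbelian 2 (pCoreOf 2 (K ⊔ T)) :=
  ea_of_sq (amalgam_ambient h.par h'.par (h.inf_eq h' hn) (h.core_sup hn)).2

theorem core_eq_core (h : Good T K L) (he : IsElementaryAbelian 2 (pCoreOf 2 (K ⊔ T))) :
    pCoreOf 2 L = pCoreOf 2 (K ⊔ T) :=
  le_antisymm h.core_le (((ea_le_centralizer he).trans (centralizer_le h.core_le)).trans
    h.top.lh.cent)

theorem eq_sup (h : Good T K L) (he : IsElementaryAbelian 2 (pCoreOf 2 (K ⊔ T))) : L = K ⊔ T := by
  have t := h.top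
  have h3 := t.pre.idx3
  have e1 := h.core_eq_core he
  set E := pCoreOf 2 L with hE
  rw [← e1] at he
  have e2 : E = T ⊓ centralizer (wOf K : Set G) := e1.trans h.core_eq
  have hET : E ≤ T := t.lh.core_le
  have e3 : omegaCenterOf E = E :=
    le_antisymm (oc_le E) fun x hx => mem_oc.mpr ⟨hx, ea_le_centralizer he hx, ea_sq he hx⟩
  obtain ⟨A, hA, a, ha, haC⟩ : ∃ A, MaxEA 2 T A ∧ ∃ a ∈ A, a ∉ centralizer (wOf K : Set G) := by
    by_contra hc
    push Not at hc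
    exact t.pre.not_J_le (J_le_iff.mpr hc)
  have hmul : ∀ x ∈ T, ∀ y ∈ T, x ∉ E → y ∉ E → x * y ∈ E := fun x hx y hy h1 h2 => by
    rw [e2] at h1 h2 ⊢
    exact ⟨T.mul_mem hx hy, h.mul_mem hx hy (fun h4 => h1 ⟨hx, h4⟩) fun h4 => h2 ⟨hy, h4⟩⟩
  have haE : a ∉ E := fun h1 => haC (e2.le h1).2
  have hhalf : Half (A ⊓ E) A := ⟨inf_le_left, fun x hx y hy h1 h2 => ⟨A.mul_mem hx hy,
    hmul x (hA.le hx) y (hA.le hy) (fun h4 => h1 ⟨hx, h4⟩) fun h4 => h2 ⟨hy, h4⟩⟩⟩
  obtain ⟨w, hw, haw⟩ : ∃ w ∈ wOf K, w * a ≠ a * w := by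
    by_contra hc
    push Not at hc
    exact haC hc
  have hWE : wOf K ≤ E := e3 ▸ t.lh.w_le_oc h.z t.pre t.le
  have haW : a ∈ normalizer (wOf K : Set G) :=
    (t.pre.J_le_normalizer.trans (normalizer_le_normalizer_w K)) (hA.le_J ha)
  have hs : w⁻¹ * (a * w * a⁻¹) ∈ wOf K := (wOf K).mul_mem (inv_mem hw) (mem_normalizer_conj haW hw)
  have hs1 : w⁻¹ * (a * w * a⁻¹) ≠ 1 := fun h1 =>
    haw (mul_inv_eq_iff_eq_mul.mp (inv_mul_eq_one.mp h1).symm).symm
  have key : ∀ y ∈ E, y * a ≠ a * y → w⁻¹ * (a * w * a⁻¹) = y * (a * y * a⁻¹)⁻¹ := by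
    intro y hy hya
    rcases repl_two hA hhalf (hET (hWE hw)) (ea_sq he (hWE hw))
      (fun b hb => ea_comm he (hWE hw) hb.2) (hET hy) (ea_sq he hy)
      (fun b hb => ea_comm he hy hb.2) (ea_comm he (hWE hw) hy) with h1 | h1 | h1
    · exact absurd (ea_comm hA.ea h1.1 ha) haw
    · exact absurd (ea_comm hA.ea h1.1 ha) hya
    · calc w⁻¹ * (a * w * a⁻¹) = w⁻¹ * (a * (w * y)) * a⁻¹ * (a * y * a⁻¹)⁻¹ := by group
        _ = _ := by rw [ea_comm hA.ea ha h1.1]; group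
  have huniq : ∀ K', PreJC T K' → K' ≤ L → K = K' := by
    intro K' hK' hK'L
    have hW'E : wOf K' ≤ E := e3 ▸ t.lh.w_le_oc h.z hK' hK'L
    have hEC : E ≤ centralizer (wOf K' : Set G) :=
      (ea_le_centralizer he).trans (centralizer_le hW'E)
    obtain ⟨b, hb, hbC⟩ := SetLike.not_le_iff_exists.mp hK'.not_J_le
    obtain ⟨y, hy, hya⟩ : ∃ y ∈ wOf K', y * a ≠ a * y := by
      by_contra hc
      push Not at hc
      have hc' : a ∈ centralizer (wOf K' : Set G) := hc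
      exact hbC ((mul_mem_cancel_left hc').mp
        (hEC (hmul a (hA.le ha) b (J_le T hb) haE fun h1 => hbC (hEC h1))))
    refine t.lh.eq_of_mem_w h.z t.pre t.le hK' hK'L hs ?_ hs1
    rw [key y (hW'E hy) hya]
    exact (wOf K').mul_mem hy (inv_mem (mem_normalizer_conj
      ((hK'.J_le_normalizer.trans (normalizer_le_normalizer_w K')) (hA.le_J ha)) hy))
  have hLK : L ≤ normalizer (K : Set G) := fun g hg => cj_eq_self_iff.mp
    (huniq _ (t.lh.preJC_cj h.z t.pre t.le hg) (cj_le_of_mem_of_le hg t.le)).symm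
  obtain ⟨u, hu, hu1, hu0⟩ := h.exists_u
  obtain ⟨k, hk, hkP, hko⟩ := h3.exists_odd
  have hD : ∀ y ∈ E, y ∈ centralizer (K : Set G) → y ∈ omegaCenterOf T := by
    intro y hy hyK
    have hya : y * a = a * y := by
      by_contra hya
      refine hs1 (h3.fpf_w hs hk hkP ?_)
      rw [key y hy hya]
      exact Subgroup.mul_mem _ hyK (inv_mem (mem_normalizer_conj
        (PG.le_normalizer_centralizer hLK (t.lh.syl.le (hA.le ha))) hyK)) k hk
    refine mem_oc.mpr ⟨hET hy, fun x hx => ?_, ea_sq he hy⟩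
    by_cases hxE : x ∈ E
    · exact ea_comm he hxE hy
    · have := ea_comm he (hmul a (hA.le ha) x hx haE hxE) hy
      rw [← mul_assoc y, hya, mul_assoc, mul_assoc] at this
      exact mul_left_cancel this
  have hC : ∀ c ∈ L, c ∈ centralizer (wOf K : Set G) → c ∈ E := by
    intro c hc hcW
    refine t.lh.cent fun x hx => ?_
    have hkE : zpowers k ≤ normalizer (E : Set G) :=
      zpowers_le.mpr (le_normalizer_pCoreOf L (t.le hk))
    obtain ⟨s, hs', y, hy, rfl⟩ := Coprime.exists_commutator_mul_centralizer hkE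
      (coprime_card_zpowers hko (ea_isPGroup he)) (Or.inl (Coprime.isSolvable_zpowers k)) hx
    have hsW : s ∈ wOf K := by
      rw [t.lh.w_eq_comm h.z t.pre t.le, e3]
      exact commutator_mono le_rfl (zpowers_le.mpr hk) hs'
    have hyK : y ∈ centralizer (K : Set G) := by
      have h1 : K ≤ centralizer {y} := h3.le_of_mem'
        (fun q hq => mem_centralizer_singleton_iff.mpr (ea_comm he
          (pCoreOf_le_of_subnormalIn (t.lh.subnormal h.z t.pre t.le) hq) hy.1)) hk hkP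
        (mem_centralizer_singleton_iff.mpr (hy.2 k (mem_zpowers k)))
      exact fun x hx => mem_centralizer_singleton_iff.mp (h1 hx)
    have hy' : c * y * c⁻¹ ∈ E := mem_normalizer_conj (le_normalizer_pCoreOf L hc) hy.1
    have hyK' : c * y * c⁻¹ ∈ centralizer (K : Set G) :=
      mem_normalizer_conj (PG.le_normalizer_centralizer hLK hc) hyK
    have hcy : c * y * c⁻¹ = y := by
      by_contra hne
      have hy1 : y ≠ 1 := fun h1 => hne (by rw [h1]; group)
      have hy1' : c * y * c⁻¹ ≠ 1 := fun h1 => hy1 (by simpa using h1)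
      have h1 := four_le (hD _ hy' hyK') (hD _ hy.1 hyK)
      have h2 := eq_of_le_of_card_ge h1 (by
        rw [card_four (ea_sq he hy') (ea_sq he hy.1) (ea_comm he hy' hy.1) hy1' hy1 hne, h.eq]
        exact h.card)
      exact hu1 (h3.fpf_w hu hk hkP (four_le hyK' hyK (h2.ge hu0) k hk))
    rw [mul_assoc, ← mul_inv_eq_iff_eq_mul.mp hcy, ← mul_assoc, hcW s hsW, mul_assoc]
  refine le_antisymm (fun l hl => ?_) h.sup_le
  have hlW := (hLK.trans (normalizer_le_normalizer_w K)) hl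
  obtain ⟨m, hm, hm'⟩ := h3.exists_conj t.pre.card (mem_normalizer_conj hlW hu) hu
    (fun h1 => hu1 (by simpa using h1)) hu1
  refine (mul_mem_cancel_left (mem_sup_left hm : m ∈ K ⊔ T)).mp (mem_sup_right ?_)
  have hml : m * l ∈ L := L.mul_mem (t.le hm) hl
  by_cases h1 : m * l ∈ centralizer (wOf K : Set G)
  · exact hET (hC _ hml h1)
  · refine (mul_mem_cancel_left (hA.le ha)).mp (hET (hC _ (L.mul_mem (t.lh.syl.le (hA.le ha)) hml)
      (mul_mem_cent_four (ea_w K) t.pre.card hu hu1 haW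
        (Subgroup.mul_mem _ (le_normalizer_w K hm) hlW) ?_ ?_ haC h1)))
    · rw [oc_le_centralizer _ hu0 a (hA.le ha), mul_inv_cancel_right]
    · calc m * l * u * (m * l)⁻¹ = m * (l * u * l⁻¹) * m⁻¹ := by group
        _ = u := hm'

end Good

theorem Setup.hx_of_isMax {S : Sylow 2 G} {M T K L : Subgroup G} (h : Setup S M T)
    (hM : IsMaximalTwoLocal M) (hK : ¬ K ≤ M) (t : Top T K L) : T ∈ straddlingTwoSubgroups L :=
  ⟨h.pg, h.ne_bot, t.lh.syl.le, M, h.loc, h.le, fun h1 => hK (t.le.trans (hM.2 L t.loc h1).le)⟩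

/-- A maximal 2-local subgroup containing `N(J(S))` and a `J(S)`-component is not the only maximal
2-local subgroup containing `S`. -/
theorem top_sylow_mem_strad (z : ZN G) (hO : pCore 2 G = ⊥) {S : Sylow 2 G} {K L : Subgroup G}
    (t : Top (S : Subgroup G) K L) (hN : normalizer (J (S : Subgroup G) : Set G) ≤ L) :
    (S : Subgroup G) ∈ straddlingTwoSubgroups L := by
  have hne : (straddlingTwoSubgroups L).Nonempty := by
    rw [Set.nonempty_iff_ne_empty, Ne, ← se_iff_strad hO t.loc]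
    intro hse
    obtain ⟨s, hs, hs2⟩ := exists_orderOf_eq_of_isPGroup (isPGroup_pCoreOf (p := 2) L)
      (core_ne_bot_of_twoLocal t.loc)
    have h1 : J (S : Subgroup G) ≤ pCoreOf 2 L := J_le_iff.mpr fun A hA a ha => by
      by_cases ha1 : a = 1
      · rw [ha1]
        exact one_mem _
      obtain ⟨d, hd, rfl⟩ := hse.exists_conj_mem hs2 (pCoreOf_le L hs)
        (SE.orderOf_two_of_mul_self (ea_sq hA.ea ha) ha1) (t.lh.syl.le (hA.le ha))
      exact mem_normalizer_conj (le_normalizer_pCoreOf L hd) hs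
    refine t.pre.idx3.not_isPGroup ((isPGroup_pCoreOf L).to_le (t.pre.comm.ge.trans
      ((commutator_mono le_rfl h1).trans ?_)))
    exact commutator_le_right_of_le_normalizer (t.le.trans (le_normalizer_pCoreOf L))
  obtain ⟨T, hT⟩ := exists_mem_max hne
  obtain ⟨S', h, hTS⟩ := Setup.exists_le (⟨z, hO, t.loc, hN, hT⟩ : Setup S L T)
  obtain ⟨l, hl, hl'⟩ := t.lh.syl.exists_cj_eq (isSylowIn_of_le S' h.S_le)
  rcases hTS.lt_or_eq with hlt | heq
  swap
  · rw [← hl', ← heq]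
    exact strad_cj hT.1 hl
  exfalso
  obtain ⟨K₁, hK₁⟩ := h.exists_outside
  obtain ⟨L₁, t₁⟩ := h.exists_top hK₁
  have hx := h.hx_of_isMax t.isMax hK₁.2.1 t₁
  have g₁ := t₁.good z hO hTS fun _ _ => hx
  obtain ⟨K₂, L₂, g₂, hn⟩ := g₁.exists_second hO hTS fun _ _ => hx
  have he := g₁.ea_core g₂ hn
  have hcard := g₁.card_T
  have e0 := g₁.core_eq_core he
  rw [← e0] at he hcard
  set E := pCoreOf 2 L₁ with hE
  have hET : E ≤ T := t₁.lh.core_le
  have hSL : (S' : Subgroup G) ⊓ L₁ = T := t₁.lh.syl.eq_inf S'.isPGroup' hTS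
  have hNE : normalizer (E : Set G) ≤ L₁ := (t₁.isMax.2 _ (isTwoLocal_normalizer
    (isPGroup_pCoreOf L₁) (core_ne_bot_of_twoLocal t₁.loc)) (le_normalizer_pCoreOf L₁)).le
  obtain ⟨s, ⟨hsS, hsN⟩, hsT⟩ := SetLike.not_le_iff_exists.mp
    (lt_inf_normalizer S'.isPGroup' hlt).not_ge
  have hE'T : cj s E ≤ T := cj_eq_of_mem_normalizer hsN ▸ cj_mono s hET
  have he' : IsElementaryAbelian 2 (cj s E) := ea_map he _
  obtain ⟨b, hb, hbE⟩ : ∃ b ∈ cj s E, b ∉ E := SetLike.not_le_iff_exists.mp fun h1 =>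
    hsT (hSL.le ⟨hsS, hNE (mem_normalizer_of_cj_le h1)⟩)
  have hTE : ∀ {x : G}, x ∈ T → x ∉ E → E ⊔ zpowers x = T := fun hx hxE =>
    PG.sup_zpowers_eq_of_card_eq_prime_mul Nat.prime_two hET hcard hx hxE
  have hTE' : ∀ {x : G}, x ∈ T → x ∉ cj s E → cj s E ⊔ zpowers x = T := fun hx hxE =>
    PG.sup_zpowers_eq_of_card_eq_prime_mul Nat.prime_two hE'T (by rwa [card_cj]) hx hxE
  have hnc : ∀ x ∈ E, x ∉ cj s E → x * b ≠ b * x := by
    intro x hx hx' hxb
    refine hbE (t₁.lh.cent (centralizer_le hET ?_))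
    rw [← hTE' (hET hx) hx']
    exact le_centralizer_iff.mp (sup_le
      (ea_le_centralizer_of_le he' le_rfl (zpowers_le.mpr hb))
      (zpowers_le.mpr (mem_centralizer_zpowers hxb.symm))) (mem_zpowers b)
  have hTn : T ≤ normalizer (E : Set G) := t₁.lh.syl.le.trans (le_normalizer_pCoreOf L₁)
  have hinv : ∀ d ∈ T, d * d = 1 → d ∉ E → d ∈ cj s E := by
    intro d hd hd2 hdE
    have h1 : b * d ∈ E := ((mem_sup_zpowers_two (hTn (hE'T hb))
      (by rw [ea_sq he' hb]; exact one_mem _)).mp ((hTE (hE'T hb) hbE).ge hd)).resolve_left hdE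
    refine (mul_mem_cancel_left hb).mp (by_contra fun h2 => hnc _ h1 h2 ?_)
    have h3 := ea_sq he h1
    calc b * d * b = (b * d * (b * d)) * d := by rw [mul_assoc _ _ d, mul_assoc b d d, hd2, mul_one]
      _ = _ := by rw [h3, one_mul, ← mul_assoc, ea_sq he' hb, one_mul]
  set V := omegaCenterOf (pCoreOf 2 L) with hV
  have hLV : L ≤ normalizer (V : Set G) := LH.le_normalizer_oc L
  have hVS : V ≤ S' := (oc_le _).trans (pCoreOf_le_sylowIn (isSylowIn_of_le S' h.S_le))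
  have hsV : s ∈ normalizer (V : Set G) := hLV (h.S_le hsS)
  have hDE : V ⊓ T ≤ E := by
    by_contra hc
    obtain ⟨d, hd, hdE⟩ := SetLike.not_le_iff_exists.mp hc
    have hd' := hinv d hd.2 (oc_sq hd.1) hdE
    have h1 : V ⊓ T ≤ cj s E := by
      intro x hx
      by_contra hx'
      have hxE : x ∈ E := by_contra fun h2 => hx' (hinv x hx.2 (oc_sq hx.1) h2)
      refine hdE (t₁.lh.cent (centralizer_le hET ?_))
      rw [← hTE' hx.2 hx']
      exact le_centralizer_iff.mp (sup_le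
        (ea_le_centralizer_of_le he' le_rfl (zpowers_le.mpr hd'))
        (ea_le_centralizer_of_le (ea_oc _) (zpowers_le.mpr hx.1) (zpowers_le.mpr hd.1)))
        (mem_zpowers d)
    exact hdE (conj_mem_cj.mp (h1 ⟨mem_normalizer_conj hsV hd.1, mem_normalizer_conj hsN hd.2⟩))
  have hVT : V ≤ T := by
    by_contra hc
    refine PG.not_inf_normalizer_le h.pg (ea_isPGroup (ea_oc _)) (h.le.trans hLV) hc
      fun v hv => hSL.le ⟨hVS hv.1, hNE ?_⟩
    refine le_normalizer_of_commutator_le (K := E) (A := zpowers v)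
      (commutator_le.mpr fun e he₁ y hy => hDE ⟨?_, ?_⟩) (mem_zpowers v)
    · exact commutator_mem_right (hLV (h.le (hET he₁))) (zpowers_le.mpr hv.1 hy)
    · exact commutator_mem_left (zpowers_le.mpr hv.2 hy) (hET he₁)
  have hVZ : V ≤ omegaCenterOf (J T) := by
    rw [← g₁.eq]
    intro v hv
    refine mem_oc.mpr ⟨hVT hv, ?_, oc_sq hv⟩
    have h1 : v ∈ cj s E := mem_cj.mpr
      (hDE ⟨mem_normalizer_conj' hsV hv, mem_normalizer_conj' hsN (hVT hv)⟩)
    rw [← hTE (hE'T hb) hbE]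
    exact le_centralizer_iff.mp (sup_le
      (ea_le_centralizer_of_le he le_rfl (zpowers_le.mpr (hDE ⟨hv, hVT hv⟩)))
      (ea_le_centralizer_of_le he' (zpowers_le.mpr hb) (zpowers_le.mpr h1))) (mem_zpowers v)
  have hWV : wOf K ≤ V := t.lh.w_le_oc z t.pre t.le
  have hWZ : wOf K = omegaCenterOf (J T) :=
    eq_of_le_of_card_ge (hWV.trans hVZ) (by rw [t.pre.card]; exact g₁.card)
  obtain ⟨u, -, hu1, hu0, -, -, hall⟩ := jc_zero t₁.jc t₁.pg
  obtain ⟨y, hy, hy1, hyK⟩ : ∃ y ∈ omegaCenterOf (J T), y ≠ 1 ∧ y ∈ centralizer (K₁ : Set G) := by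
    obtain ⟨w, hw, hw'⟩ : ∃ w ∈ omegaCenterOf (J T), w ∉ zpowers u :=
      SetLike.not_le_iff_exists.mp fun h1 => by
        have := Subgroup.card_le_of_le h1
        rw [card_zpowers_two (oc_sq hu0) hu1, ← hWZ, t.pre.card] at this
        omega
    rcases hall w hw with h1 | h1
    · exact ⟨w, hw, fun h2 => hw' (h2 ▸ one_mem _), h1⟩
    · refine ⟨w * u, mul_mem hw hu0, fun h2 => hw' ?_, h1⟩
      rw [eq_inv_of_mul_eq_one_left h2]
      exact inv_mem (mem_zpowers u)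
  obtain ⟨c, ⟨hc, hcS⟩, hc1⟩ := (Subgroup.bot_or_exists_ne_one _).resolve_left
    (PG.inf_centralizer_ne_bot S'.isPGroup' (ea_isPGroup (ea_oc _)) (h.S_le.trans hLV)
      fun h1 => t.pre.w_ne_bot (eq_bot_iff.mpr (h1 ▸ hWV)))
  obtain ⟨k, -, hk⟩ := t.pre.idx3.exists_conj t.pre.card (hWZ.ge (hVZ hc)) (hWZ.ge hy) hc1 hy1
  have h1 : cj k (S' : Subgroup G) ≤ L₁ := fun x hx => t₁.cent_le hy hy1 hyK
    (mem_centralizer_singleton_iff.mpr (by
      have := hcS _ (mem_cj.mp hx)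
      rw [← hk]
      calc x * (k * c * k⁻¹) = k * (k⁻¹ * x * k * c) * k⁻¹ := by group
        _ = _ := by rw [this]; group))
  have h2 := t₁.lh.syl.card_le (isPGroup_cj S'.isPGroup' k) h1
  rw [card_cj] at h2
  exact (card_lt_of_lt hlt).not_ge h2

theorem Top.hx (z : ZN G) (hO : pCore 2 G = ⊥) {S : Sylow 2 G} {T K L : Subgroup G}
    (t : Top T K L) (e : T = S) (hN : normalizer (J T : Set G) ≤ L) :
    T ∈ straddlingTwoSubgroups L := by
  subst e
  exact top_sylow_mem_strad z hO t hN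

theorem Setup.exists_good {S : Sylow 2 G} {M T K : Subgroup G} (h : Setup S M T)
    (hK : K ∈ jComponentsOutside M T) : ∃ L, Good T K L := by
  obtain ⟨S', -, hTS⟩ := h.exists_le
  obtain ⟨L, t⟩ := h.exists_top hK
  exact ⟨L, t.good h.z h.core hTS (t.hx h.z h.core)⟩

theorem Setup.exists_pair {S : Sylow 2 G} {M T : Subgroup G} (h : Setup S M T) :
    ∃ K L K' L', Good T K L ∧ Good T K' L' ∧ ¬ K' ≤ L := by
  obtain ⟨K, hK⟩ := h.exists_outside
  obtain ⟨L, g⟩ := h.exists_good hK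
  obtain ⟨S', -, hTS⟩ := h.exists_le
  obtain ⟨K', L', g', hn⟩ := g.exists_second h.core hTS (g.top.hx h.z h.core)
  exact ⟨K, L, K', L', g, g', hn⟩

end Cfsg.Lib.Local.JC
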