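import Cfsg.Agent.Local.JComp
import Cfsg.Agent.Local.StronglyEmbTwo

/-!
2-subgroups of a 2-local subgroup `M ≥ N(J(S))` lying in 2-local subgroups not inside `M`
(Kurzweil–Stellmacher 12.2).
-/

set_option autoImplicit false
set_option linter.unusedSectionVars false

namespace Cfsg.Lib.Local.JC

open Subgroup Cfsg.Lib.Trans Cfsg.Lib.Trans.TJ Cfsg.Lib.Solv
open scoped commutatorElement

variable {G : Type*} [Group G] [Finite G]

theorem maxOrder_eq {T A : Subgroup G} (h : MaxEA 2 T A) : maxElemAbelianOrder T = Nat.card A := by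
  have e : (fun A : Subgroup ↥T => Nat.card ↥A) '' maxElementaryAbelianSubgroups 2 ↥T =
      {Nat.card A} := by
    have key : ∀ B : Subgroup T, B ∈ maxElementaryAbelianSubgroups 2 T →
        Nat.card B = Nat.card A := by
      intro B hB
      have h1 := (maxEA_top_iff.mpr hB).map T.subtype_injective
      rw [← MonoidHom.range_eq_map, range_subtype] at h1
      rw [← h1.card_eq h, card_map_of_injective T.subtype_injective]
    obtain ⟨B, hB⟩ := exists_maxEA 2 (⊤ : Subgroup T)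
    refine Set.eq_singleton_iff_unique_mem.mpr ⟨⟨B, maxEA_top_iff.mp hB, key B
      (maxEA_top_iff.mp hB)⟩, ?_⟩
    rintro _ ⟨C, hC, rfl⟩
    exact key C hC
  rw [maxElemAbelianOrder, e, csSup_singleton]

theorem ne_top_of_twoLocal (hO : pCore 2 G = ⊥) {M : Subgroup G} (hM : IsTwoLocal M) : M ≠ ⊤ := by
  rintro rfl
  exact core_ne_bot_of_twoLocal hM (by rwa [pCoreOf_top])

theorem se_iff_strad (hO : pCore 2 G = ⊥) {M : Subgroup G} (hM : IsTwoLocal M) :
    SE 2 M ↔ straddlingTwoSubgroups M = ∅ := by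
  constructor
  · intro h
    refine Set.eq_empty_of_forall_notMem ?_
    rintro T ⟨hT, hT1, hTM, _, ⟨R, hR, hR1, rfl⟩, hTL, hLM⟩
    refine hLM (h.normalizer_le_of_isPGroup (le_sup_left.trans
      (h.le_of_isPGroup (isPGroup_sup' hR hT hTL) fun h1 => hT1 ?_)) hR hR1)
    exact eq_bot_iff.mpr (h1 ▸ le_inf le_sup_right hTM)
  · intro h
    refine SE.of_normalizers' (ne_top_of_twoLocal hO hM) ?_ fun A hA hA2 hA1 => ?_
    · exact (dvd_card_of_isPGroup_ne_bot (isPGroup_pCoreOf M) (core_ne_bot_of_twoLocal hM)).trans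
        (card_dvd_of_le (pCoreOf_le M))
    · by_contra h1
      exact Set.eq_empty_iff_forall_notMem.mp h A
        ⟨hA2, hA1, hA, _, isTwoLocal_normalizer hA2 hA1, le_normalizer, h1⟩

/-- The configuration of sections 12.2 and 12.3. -/
structure Setup (S : Sylow 2 G) (M T : Subgroup G) : Prop where
  z : ZN G
  core : pCore 2 G = ⊥
  loc : IsTwoLocal M
  nj : normalizer (J (S : Subgroup G) : Set G) ≤ M
  max : T ∈ maxStraddlingTwoSubgroups M

namespace Setup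

variable {S : Sylow 2 G} {M T : Subgroup G}

theorem pg (h : Setup S M T) : IsPGroup 2 T := h.max.1.1

theorem ne_bot (h : Setup S M T) : T ≠ ⊥ := h.max.1.2.1

theorem le (h : Setup S M T) : T ≤ M := h.max.1.2.2.1

theorem J_pg (h : Setup S M T) : IsPGroup 2 (J T) := h.pg.to_le (J_le T)

theorem J_ne_bot (h : Setup S M T) : J T ≠ ⊥ := TJ.J_ne_bot h.pg h.ne_bot

theorem S_le (h : Setup S M T) : (S : Subgroup G) ≤ M := (le_normalizer_J _).trans h.nj

/-- The Sylow subgroup may be chosen to contain `T`. -/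
theorem exists_le (h : Setup S M T) : ∃ S' : Sylow 2 G, Setup S' M T ∧ T ≤ S' := by
  obtain ⟨m, hm, hm'⟩ := (isSylowIn_of_le S h.S_le).exists_cj_le h.pg h.le
  refine ⟨m⁻¹ • S, ⟨h.z, h.core, h.loc, ?_, h.max⟩, ?_⟩
  · rw [Trans.coe_sylow_smul, ← cj_J, ← cj_normalizer]
    exact cj_le_of_mem_of_le (inv_mem hm) h.nj
  · rw [Trans.coe_sylow_smul]
    exact cj_le_iff_le_cj_inv.mp hm'

theorem max_J (h : Setup S M T) {U : Subgroup G} (hU : U ∈ straddlingTwoSubgroups M)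
    (hJ : J T ≤ U) : J U = J T ∧ Nat.card U ≤ Nat.card T := by
  obtain ⟨h1, h2⟩ := h.max.2 U hU
  obtain ⟨A, hA⟩ := exists_maxEA 2 T
  obtain ⟨B, hB⟩ := exists_maxEA 2 U
  have h3 := hB.card_le (hA.le_J.trans hJ) hA.ea
  rw [maxOrder_eq hA, maxOrder_eq hB] at h1 h2
  obtain ⟨h4, h5⟩ := h2 (le_antisymm h1 h3)
  have h6 : J T ≤ J U := J_le_J_of_le hJ fun A' B' hA' hB' => by
    rw [hA'.card_eq hA, hB'.card_eq hB]
    exact h1
  have h7 := (eq_of_le_of_card_ge h6 h4).symm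
  exact ⟨h7, h5 (by rw [← J, ← J, h7])⟩

theorem normalizer_J_le (h : Setup S M T) : normalizer (J T : Set G) ≤ M := by
  obtain ⟨S, h, hTS⟩ := h.exists_le
  by_contra hc
  have hTU : T ≤ (S : Subgroup G) ⊓ normalizer (J T : Set G) := le_inf hTS (le_normalizer_J T)
  have h1 := (h.max_J (U := (S : Subgroup G) ⊓ normalizer (J T : Set G))
    ⟨S.isPGroup'.to_le inf_le_left, fun h1 => h.ne_bot (eq_bot_iff.mpr (h1 ▸ hTU)),
      inf_le_left.trans h.S_le, _, isTwoLocal_normalizer h.J_pg h.J_ne_bot, inf_le_right, hc⟩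
    ((J_le T).trans hTU)).2
  have h2 := eq_of_le_of_card_ge hTU h1
  rcases hTS.lt_or_eq with h3 | h3
  · exact (lt_inf_normalizer S.isPGroup' h3).not_ge
      ((inf_le_inf_left _ (normalizer_le_normalizer_J T)).trans h2.ge)
  · exact hc (h3 ▸ h.nj)

theorem normalizer_le (h : Setup S M T) : normalizer (T : Set G) ≤ M :=
  (normalizer_le_normalizer_J T).trans h.normalizer_J_le

theorem syl_facts (h : Setup S M T) {L U : Subgroup G} (hL : IsTwoLocal L) (hLM : ¬ L ≤ M)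
    (hU : IsPGroup 2 U) (hUL : U ≤ L) (hJ : J T ≤ U) :
    U ∈ straddlingTwoSubgroups M ∧ J U = J T ∧ Nat.card U ≤ Nat.card T := by
  have hJ' : J T ≤ U ⊓ M := le_inf hJ ((J_le T).trans h.le)
  have h1 : U ⊓ M ∈ straddlingTwoSubgroups M := ⟨hU.to_le inf_le_left,
    fun h1 => h.J_ne_bot (eq_bot_iff.mpr (h1 ▸ hJ')), inf_le_right, L, hL, inf_le_left.trans hUL, hLM⟩
  have h2 := h.max_J h1 hJ'
  rcases (inf_le_left : U ⊓ M ≤ U).lt_or_eq with h3 | h3
  · refine absurd (inf_le_inf_left _ ?_) (lt_inf_normalizer hU h3).not_ge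
    refine (normalizer_le_normalizer_J (p := 2) _).trans ?_
    rw [← J, h2.1]
    exact h.normalizer_J_le
  · rw [h3] at h1 h2
    exact ⟨h1, h2⟩

theorem not_J_le (h : Setup S M T) {L : Subgroup G} (hL : IsTwoLocal L) (hLM : ¬ L ≤ M) :
    ¬ J T ≤ pCoreOf 2 L := fun h1 => by
  have h2 := (h.syl_facts hL hLM (isPGroup_pCoreOf L) (pCoreOf_le L) h1).2.1
  refine hLM (((le_normalizer_pCoreOf (p := 2) L).trans
    (normalizer_le_normalizer_J (p := 2) _)).trans ?_)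
  rw [← J, h2]
  exact h.normalizer_J_le

theorem syl_of_le (h : Setup S M T) {L : Subgroup G} (hL : IsTwoLocal L) (hLM : ¬ L ≤ M)
    (hTL : T ≤ L) : IsSylowIn 2 T L :=
  isSylowIn_of_maximal hTL h.pg fun _ hQ hTQ hQL =>
    (eq_of_le_of_card_ge hTQ (h.syl_facts hL hLM hQ hQL ((J_le T).trans hTQ)).2.2).ge

theorem lh_of_le (h : Setup S M T) {L : Subgroup G} (hL : IsTwoLocal L) (hLM : ¬ L ≤ M)
    (hTL : T ≤ L) : LH T L := h.z.lh hL (h.syl_of_le hL hLM hTL)

theorem exists_lh (h : Setup S M T) {L : Subgroup G} (hL : IsTwoLocal L) (hLM : ¬ L ≤ M)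
    (hJ : J T ≤ L) : ∃ U, LH U L ∧ J U = J T := by
  obtain ⟨U, hU, hJU⟩ := exists_isSylowIn_ge h.J_pg hJ
  exact ⟨U, h.z.lh hL hU, (h.syl_facts hL hLM hU.isPGroup hU.le hJU).2.1⟩

theorem exists_preJC (h : Setup S M T) {L : Subgroup G} (hL : IsTwoLocal L) (hLM : ¬ L ≤ M)
    (hJ : J T ≤ L) : ∃ K, PreJC T K ∧ K ≤ L ∧ ¬ K ≤ M := by
  obtain ⟨U, hU, e⟩ := h.exists_lh hL hLM hJ
  by_contra hc
  push Not at hc
  exact hLM ((hU.le_sup_normalizer h.z).trans (sup_le
    (sSup_le fun K hK => hc K (hK.1.congr e) hK.2) (e ▸ h.normalizer_J_le)))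

theorem mem_zero (h : Setup S M T) {K : Subgroup G} (hK : PreJC T K) (hKM : ¬ K ≤ M) :
    K ∈ jComponentsZero T := by
  have hN : ¬ normalizer (wOf K : Set G) ≤ M := fun h1 => hKM ((le_normalizer_w K).trans h1)
  obtain ⟨U, hU, e⟩ := h.exists_lh (twoLocal_w hK) hN
    (hK.J_le_normalizer.trans (normalizer_le_normalizer_w K))
  exact zero_iff.mpr ⟨hK.isJC_of_exists hU.syl (le_normalizer_w K) e,
    fun U' hJ hU' => (h.syl_facts (twoLocal_w hK) hN hU'.isPGroup hU'.le hJ).2.1⟩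

theorem mem_outside (h : Setup S M T) {K L : Subgroup G} (hK : PreJC T K) (hKM : ¬ K ≤ M)
    (hL : IsTwoLocal L) (hKL : K ≤ L) (hTL : T ≤ L) : K ∈ jComponentsOutside M T := by
  have h1 := h.lh_of_le hL (fun h1 => hKM (hKL.trans h1)) hTL
  exact ⟨h.mem_zero hK hKM, hKM, fun h2 => core_ne_bot_of_twoLocal hL (eq_bot_iff.mpr
    (h2 ▸ pCoreOf_le_of_le (h1.core_le.trans le_sup_right) (sup_le hKL hTL)))⟩

theorem exists_outside (h : Setup S M T) : ∃ K, K ∈ jComponentsOutside M T := by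
  obtain ⟨L, hL, hTL, hLM⟩ := h.max.1.2.2.2
  obtain ⟨K, hK, hKL, hKM⟩ := h.exists_preJC hL hLM ((J_le T).trans hTL)
  exact ⟨K, h.mem_outside hK hKM hL hKL hTL⟩

/-- There is a greatest 2-local subgroup containing `K` and `J(T)`. -/
theorem exists_greatest (h : Setup S M T) {K : Subgroup G} (hK : PreJC T K) (hKM : ¬ K ≤ M) :
    ∃ L, IsTwoLocal L ∧ K ⊔ J T ≤ L ∧ ∀ L', IsTwoLocal L' → K ⊔ J T ≤ L' → L' ≤ L := by
  have key : ∀ V : Subgroup G, IsTwoLocal V ∧ K ⊔ J T ≤ V → ∃ U, LH U V ∧ J U = J T :=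
    fun V hV => h.exists_lh hV.1 (fun h1 => hKM (le_sup_left.trans (hV.2.trans h1)))
      (le_sup_right.trans hV.2)
  have hsub : ∀ V : Subgroup G, IsTwoLocal V ∧ K ⊔ J T ≤ V → ∀ B, PreJC T B ∧ B ≤ V →
      SubnormalIn B V := fun V hV B hB => by
    obtain ⟨U, hU, e⟩ := key V hV
    exact hU.subnormal h.z (hB.1.congr e.symm) hB.2
  obtain ⟨L, hL, hmax⟩ := exists_greatest_of_families {L | IsTwoLocal L ∧ K ⊔ J T ≤ L}
    ⟨_, twoLocal_w hK, sup_le (le_normalizer_w K)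
      (hK.J_le_normalizer.trans (normalizer_le_normalizer_w K))⟩
    (fun L => {B | PreJC T B ∧ B ≤ L}) hsub
    (fun V hV g hg B hB => by
      obtain ⟨U, hU, e⟩ := key V hV
      exact ⟨(hU.preJC_cj h.z (hB.1.congr e.symm) hB.2 hg).congr e, cj_le_of_mem_of_le hg hB.2⟩)
    (fun V _ W _ B hB hBV => ⟨hB.1, hBV⟩)
    (fun V hV W hW => by
      set D := sSup ({B | PreJC T B ∧ B ≤ V} ∩ {B | PreJC T B ∧ B ≤ W}) with hD
      have hKV : K ≤ V := le_sup_left.trans hV.2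
      have hKD : K ≤ D := le_sSup ⟨⟨hK, hKV⟩, ⟨hK, le_sup_left.trans hW.2⟩⟩
      have h1 : pCoreOf 2 K ≤ pCoreOf 2 D := pCoreOf_le_of_subnormalIn
        ((hsub V hV K ⟨hK, hKV⟩).mono hKD (sSup_le fun B hB => hB.1.2))
      refine ⟨normalizer (pCoreOf 2 D : Set G), ⟨isTwoLocal_normalizer (isPGroup_pCoreOf D)
        fun h2 => hK.w_ne_bot (eq_bot_iff.mpr (h2 ▸ (w_le_core K).trans h1)), ?_⟩,
        normalizer_le_normalizer_pCoreOf D⟩
      refine le_trans (sup_le (hKD.trans le_normalizer) (le_normalizer_sSup fun g hg B hB => ?_))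
        (normalizer_le_normalizer_pCoreOf D)
      rwa [conj_smul_eq_cj, cj_eq_of_mem_normalizer (hB.1.1.J_le_normalizer hg)])
  exact ⟨L, hL.1, hL.2, fun L' h1 h2 => hmax L' ⟨h1, h2⟩⟩

end Setup

/-- `L` is the greatest 2-local subgroup containing `K` and `J(T)`, and it contains `T`. -/
structure Top (T K L : Subgroup G) : Prop where
  pre : PreJC T K
  loc : IsTwoLocal L
  lh : LH T L
  le : K ≤ L
  max : ∀ L', IsTwoLocal L' → K ≤ L' → J T ≤ L' → L' ≤ L

theorem Top.isMax {T K L : Subgroup G} (h : Top T K L) : IsMaximalTwoLocal L :=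
  ⟨h.loc, fun N hN hLN => le_antisymm
    (h.max N hN (h.le.trans hLN) (((J_le T).trans h.lh.syl.le).trans hLN)) hLN⟩

theorem Top.eq_of_isMax {T K L L' : Subgroup G} (h : Top T K L) (h' : IsMaximalTwoLocal L')
    (hK : K ≤ L') (hJ : J T ≤ L') : L' = L := (h'.2 L h.loc (h.max L' h'.1 hK hJ)).symm

theorem Setup.exists_top {S : Sylow 2 G} {M T K : Subgroup G} (h : Setup S M T)
    (hK : K ∈ jComponentsOutside M T) : ∃ L, Top T K L := by
  have hp := jc_pre hK.1.1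
  obtain ⟨L, hL, hKL, hmax⟩ := h.exists_greatest hp hK.2.1
  have h1 := (le_normalizer_pCoreOf (K ⊔ T)).trans (hmax _ (isTwoLocal_normalizer
    (isPGroup_pCoreOf _) hK.2.2) ((sup_le_sup_left (J_le T) K).trans (le_normalizer_pCoreOf _)))
  exact ⟨L, hp, hL, h.lh_of_le hL (fun h2 => hK.2.1 ((le_sup_left.trans hKL).trans h2))
    (le_sup_right.trans h1), le_sup_left.trans hKL, fun L' h2 h3 h4 => hmax L' h2 (sup_le h3 h4)⟩

end Cfsg.Lib.Local.JC
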