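import Cfsg.Agent.Local.TvHyper

/-!
Conjugates of transvection configurations and the normal subgroup normalizing all of them.
-/

set_option autoImplicit false

namespace Cfsg.Lib.Local.Tv

variable {H V : Type*} [Group H] [CommGroup V] [MulDistribMulAction H V]
variable {F : Subgroup H} {a y a' y' : H} {u w u' w' : V}

theorem Tri.conj (hF : F.Normal) (h : Tri F a y u w) (g : H) :
    Tri F (g * a * g⁻¹) (g * y * g⁻¹) (g • u) (g • w) where
  ta := h.ta.conj g
  tb := by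
    rw [conj_mul]
    exact h.tb.conj g
  mem := hF.conj_mem y h.mem g
  cube := by rw [conj_mul, conj_mul, h.cube]; group
  ne := fun h1 => h.ne (by simpa using h1)
  inv := by
    calc g * a * g⁻¹ * (g * y * g⁻¹) * (g * a * g⁻¹)⁻¹ = g * (a * y * a⁻¹) * g⁻¹ := by group
      _ = _ := by rw [h.inv]; group
  cls := fun f hf => by
    have e : f * (g * a * g⁻¹) * f⁻¹ = g * ((g⁻¹ * f * g⁻¹⁻¹) * a * (g⁻¹ * f * g⁻¹⁻¹)⁻¹) * g⁻¹ := by
      group
    rw [e]
    rcases h.cls _ (hF.conj_mem f hf g⁻¹) with h1 | h1 | h1 <;> rw [h1]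
    · exact Or.inl rfl
    · exact Or.inr (Or.inl (by group))
    · exact Or.inr (Or.inr (by group))
  aw := by rw [← mul_smul, inv_mul_cancel_right, mul_smul, h.aw, smul_mul']
  bu := by rw [conj_mul, ← mul_smul, inv_mul_cancel_right, mul_smul, h.bu, smul_mul']

variable (V F) in
/-- The elements normalizing `⟨y⟩` for every configuration. -/
def triNorm : Subgroup H where
  carrier := {g | ∀ (a y : H) (u w : V), Tri F a y u w → g * y * g⁻¹ = y ∨ g * y * g⁻¹ = y⁻¹}
  one_mem' := fun _ _ _ _ _ => Or.inl (by group)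
  mul_mem' := by
    intro g k hg hk a y u w h
    have e : g * k * y * (g * k)⁻¹ = g * (k * y * k⁻¹) * g⁻¹ := by group
    have e' : g * y⁻¹ * g⁻¹ = (g * y * g⁻¹)⁻¹ := by group
    rw [e]
    rcases hk a y u w h with h1 | h1 <;> rw [h1]
    · exact hg a y u w h
    · rw [e']
      rcases hg a y u w h with h2 | h2 <;> rw [h2]
      · exact Or.inr rfl
      · exact Or.inl (inv_inv y)
  inv_mem' := by
    intro g hg a y u w h
    rcases hg a y u w h with h1 | h1
    · left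
      nth_rewrite 1 [← h1]
      group
    · right
      calc g⁻¹ * y * g⁻¹⁻¹ = (g⁻¹ * y⁻¹ * g)⁻¹ := by group
        _ = (g⁻¹ * (g * y * g⁻¹) * g)⁻¹ := by rw [h1]
        _ = y⁻¹ := by group

theorem mem_triNorm {g : H} : g ∈ triNorm V F ↔
    ∀ (a y : H) (u w : V), Tri F a y u w → g * y * g⁻¹ = y ∨ g * y * g⁻¹ = y⁻¹ := Iff.rfl

theorem triNorm_normal (hF : F.Normal) : (triNorm V F).Normal := by
  refine ⟨fun g hg x a y u w h => ?_⟩
  have e : x * g * x⁻¹ * y * (x * g * x⁻¹)⁻¹ = x * (g * (x⁻¹ * y * x⁻¹⁻¹) * g⁻¹) * x⁻¹ := by group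
  rw [e]
  rcases hg _ _ _ _ (h.conj hF x⁻¹) with h1 | h1 <;> rw [h1]
  · exact Or.inl (by group)
  · exact Or.inr (by group)

theorem Tri.mem_triNorm (hy : Hyp V F) (h' : Tri F a' y' u' w') : a' ∈ triNorm V F := by
  intro a y u w h
  rcases h.dichotomy hy h' with (h1 | h1 | h1) | h1
  · rw [h1]
    exact Or.inr h.inv
  · rw [h1]
    exact Or.inr (by rw [← h.inv]; group)
  · rw [h1]
    refine Or.inr ?_
    calc a * y⁻¹ * y * (a * y⁻¹)⁻¹ = a * y * a⁻¹ := by group
      _ = _ := h.inv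
  · exact Or.inl (mul_inv_eq_iff_eq_mul.mpr h1.2.1)

theorem Tri.not_fix (hy : Hyp V F) (h : Tri F a y u w) (hy' : y' = y ∨ y' = y⁻¹) : y' • u ≠ u := by
  rcases hy' with rfl | rfl
  · rw [h.yu hy]
    exact (h.u_ne_w hy).symm
  · rw [Ne, inv_smul_eq_iff, h.yu hy]
    exact h.u_ne_w hy

/-- The commutator of the transvection with an element normalizing all configurations. -/
theorem Tri.comm_of_mem_triNorm (hy : Hyp V F) (h : Tri F a y u w) {g : H}
    (hg : g ∈ triNorm V F) :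
    g * a * g⁻¹ * a⁻¹ = 1 ∨ g * a * g⁻¹ * a⁻¹ = y ∨ g * a * g⁻¹ * a⁻¹ = y⁻¹ := by
  rcases h.dichotomy hy (h.conj hy.normal g) with (h1 | h1 | h1) | h1
  · exact Or.inl (by rw [h1, mul_inv_cancel])
  · exact Or.inr (Or.inr (by rw [h1, h.inv]))
  · exact Or.inr (Or.inl (by rw [h1, (h.symm hy).inv, inv_inv]))
  · exact absurd h1.2.2.2.1 (h.not_fix hy (hg a y u w h))

/-- A conjugate of the transvection commutes with it or differs from it by `y` or `y⁻¹`. -/
theorem Tri.comm_conj (hy : Hyp V F) (h : Tri F a y u w) (g : H) :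
    (g * a * g⁻¹ * a⁻¹) * (g * a * g⁻¹ * a⁻¹) = 1 ∨ g * a * g⁻¹ * a⁻¹ = y ∨
      g * a * g⁻¹ * a⁻¹ = y⁻¹ := by
  rcases h.dichotomy hy (h.conj hy.normal g) with (h1 | h1 | h1) | h1
  · exact Or.inl (by rw [h1, mul_inv_cancel, mul_one])
  · exact Or.inr (Or.inr (by rw [h1, h.inv]))
  · exact Or.inr (Or.inl (by rw [h1, (h.symm hy).inv, inv_inv]))
  · left
    have h2 := (h.ta.conj g).sq
    rw [h.ta.inv_eq]
    calc g * a * g⁻¹ * a * (g * a * g⁻¹ * a) = g * a * g⁻¹ * (a * (g * a * g⁻¹)) * a := by group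
      _ = (g * a * g⁻¹ * (g * a * g⁻¹)) * (a * a) := by rw [← h1.1]; group
      _ = 1 := by rw [h2, h.ta.sq, mul_one]

end Cfsg.Lib.Local.Tv
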