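import Cfsg.Agent.Local.JWBound
import Cfsg.Agent.Local.TvMore
import Cfsg.Agent.Solv.PSolvable

/-!
A solvable group `G` with Sylow 2-subgroup `T` and an elementary abelian normal subgroup
`V ≤ Z(O₂(G))` whose centralizer normalizes `T`: `J(T)` is generated modulo `O₂(G)` by
transvections on `V`.
-/

set_option autoImplicit false

namespace Cfsg.Lib.Local.JC

open Subgroup Cfsg.Lib.Trans Cfsg.Lib.Trans.TJ Cfsg.Lib.Solv Cfsg.Lib.Local.Tv
open scoped commutatorElement

variable {G : Type*} [Group G]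

/-- The hypotheses of the structure theorem. -/
structure JHyp (T V : Subgroup G) : Prop where
  solv : Group.IsSolvable G
  syl : IsSylowIn 2 T ⊤
  normal : V.Normal
  le : V ≤ pCore 2 G
  cent : pCore 2 G ≤ centralizer (V : Set G)
  ea : IsElementaryAbelian 2 V
  cn : centralizer (V : Set G) ≤ normalizer (T : Set G)

/-- The projection onto `G / O₂(G)`. -/
abbrev pr (G : Type*) [Group G] : G →* G ⧸ pCore 2 G := QuotientGroup.mk' (pCore 2 G)

/-- `O_{2'}(G / O₂(G))`. -/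
abbrev FF (G : Type*) [Group G] : Subgroup (G ⧸ pCore 2 G) := pPrimeCore 2 (G ⧸ pCore 2 G)

theorem pr_eq_one {g : G} : pr G g = 1 ↔ g ∈ pCore 2 G := QuotientGroup.eq_one_iff g

theorem pr_surj : Function.Surjective (pr G) := QuotientGroup.mk'_surjective _

/-- An element of a member `A` of the family generating `A` modulo `O₂(G)`. -/
def TvElt (T : Subgroup G) (a : G) : Prop :=
  ∃ A, MaxEA 2 T A ∧ a ∈ A ∧ a ∉ pCore 2 G ∧ ∀ x ∈ A, x ∈ pCore 2 G ∨ a * x ∈ pCore 2 G

theorem TvElt.mem_J {T : Subgroup G} {a : G} (h : TvElt T a) : a ∈ J T := by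
  obtain ⟨A, hA, ha, -⟩ := h
  exact hA.le_J ha

namespace JHyp

variable {T V : Subgroup G}

/-- The module `V` as a commutative group. -/
def VV (_h : JHyp T V) : Type _ := V

instance instCommGroupVV (h : JHyp T V) : CommGroup h.VV :=
  { (inferInstance : Group V) with
    mul_comm := fun a b => Subtype.ext (ea_comm h.ea a.2 b.2) }

instance instFiniteVV [Finite G] (h : JHyp T V) : Finite h.VV := (inferInstance : Finite V)

/-- The element of `G` given by a vector. -/
def val (h : JHyp T V) : h.VV →* G := V.subtype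

/-- The vector given by an element of `V`. -/
def vec (h : JHyp T V) (v : G) (hv : v ∈ V) : h.VV := ⟨v, hv⟩

theorem val_vec (h : JHyp T V) (v : G) (hv : v ∈ V) : h.val (h.vec v hv) = v := rfl

theorem val_mem (h : JHyp T V) (v : h.VV) : h.val v ∈ V := v.2

theorem val_inj (h : JHyp T V) : Function.Injective h.val := Subtype.val_injective

instance instActionVV (h : JHyp T V) : MulDistribMulAction (G ⧸ pCore 2 G) h.VV where
  smul x v := Quotient.liftOn' x
    (fun g => h.vec (g * h.val v * g⁻¹) (h.normal.conj_mem _ (h.val_mem v) g)) (by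
      intro g k hgk
      rw [QuotientGroup.leftRel_apply] at hgk
      refine h.val_inj ?_
      rw [val_vec, val_vec]
      have := h.cent hgk _ (h.val_mem v)
      calc g * h.val v * g⁻¹ = g * (h.val v * (g⁻¹ * k)) * k⁻¹ := by group
        _ = _ := by rw [this]; group)
  one_smul v := h.val_inj (by
    change 1 * h.val v * 1⁻¹ = h.val v
    group)
  mul_smul x y v := by
    obtain ⟨g, rfl⟩ := pr_surj x
    obtain ⟨k, rfl⟩ := pr_surj y
    refine h.val_inj ?_
    change (g * k) * h.val v * (g * k)⁻¹ = g * (k * h.val v * k⁻¹) * g⁻¹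
    group
  smul_mul x v w := by
    obtain ⟨g, rfl⟩ := pr_surj x
    refine h.val_inj ?_
    change g * (h.val v * h.val w) * g⁻¹ = g * h.val v * g⁻¹ * (g * h.val w * g⁻¹)
    group
  smul_one x := by
    obtain ⟨g, rfl⟩ := pr_surj x
    refine h.val_inj ?_
    change g * 1 * g⁻¹ = 1
    group

theorem val_smul (h : JHyp T V) (g : G) (v : h.VV) : h.val (pr G g • v) = g * h.val v * g⁻¹ := rfl

theorem smul_eq_iff (h : JHyp T V) {g : G} {v : h.VV} :
    pr G g • v = v ↔ g * h.val v = h.val v * g := by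
  rw [← h.val_inj.eq_iff, val_smul, mul_inv_eq_iff_eq_mul]

theorem mem_cent_iff (h : JHyp T V) {g : G} :
    g ∈ centralizer (V : Set G) ↔ ∀ v : h.VV, pr G g • v = v :=
  ⟨fun hg v => h.smul_eq_iff.mpr (hg _ (h.val_mem v)).symm,
    fun hg v hv => (h.smul_eq_iff.mp (hg (h.vec v hv))).symm⟩

variable [Finite G]

theorem core_le (h : JHyp T V) : pCore 2 G ≤ T := by
  rw [← pCoreOf_top]
  exact pCoreOf_le_sylowIn h.syl

theorem V_le (h : JHyp T V) : V ≤ T := h.le.trans h.core_le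

/-- 2-subgroups centralizing `V` lie in `O₂(G)`. -/
theorem inf_cent_le (h : JHyp T V) {P : Subgroup G} (hP : IsPGroup 2 P) :
    P ⊓ centralizer (V : Set G) ≤ pCore 2 G := by
  have := h.normal
  have hn : ⊤ ≤ normalizer ((centralizer (V : Set G) : Subgroup G) : Set G) :=
    PG.le_normalizer_centralizer (normalizer_eq_top V).ge
  have h1 := h.syl.inf_normal_of_le hn le_top
  have h2 : centralizer (V : Set G) ≤ normalizer ((T ⊓ centralizer (V : Set G) : Subgroup G) : Set G) :=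
    PG.le_normalizer_inf h.cn le_normalizer
  obtain ⟨x, hx, hx'⟩ := h1.exists_cj_le (hP.to_le inf_le_left) (inf_le_right (a := P))
  rw [cj_le_iff_le_cj_inv, cj_eq_of_mem_normalizer (inv_mem (h2 hx))] at hx'
  rw [← pCoreOf_top]
  exact hx'.trans ((le_pCoreOf inf_le_right h2 h1.isPGroup).trans (pCoreOf_le_of_normal le_top hn))

theorem mem_core_of_cent (h : JHyp T V) {c : G} {k : ℕ} (hc : c ∈ centralizer (V : Set G))
    (hk : c ^ 2 ^ k = 1) : c ∈ pCore 2 G :=
  h.inf_cent_le (PG.isPGroup_zpowers hk) ⟨mem_zpowers c, hc⟩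

theorem comm_mem_core (h : JHyp T V) {c x : G} {k : ℕ} (hc : c ∈ centralizer (V : Set G))
    (hk : x ^ 2 ^ k = 1) : ⁅c, x⁆ ∈ pCore 2 G := by
  have := h.normal
  obtain ⟨g, -, hg⟩ := h.syl.exists_cj_le (PG.isPGroup_zpowers hk) le_top
  rw [cj_le_iff_le_cj_inv] at hg
  have hcn : (centralizer (V : Set G)).Normal := inferInstance
  refine h.inf_cent_le (isPGroup_cj h.syl.isPGroup g⁻¹) ⟨commutator_mem_right ?_
    (hg (mem_zpowers x)), commutator_mem_left (by rw [normalizer_eq_top]; trivial) hc⟩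
  rw [← cj_normalizer, mem_cj_inv]
  exact h.cn (hcn.conj_mem c hc g)

omit [Finite G] in
theorem _root_.Cfsg.Lib.Local.JC.exists_pow_of_sq_mem {Q : Subgroup G} (hQ : IsPGroup 2 Q) {x : G}
    (hx : x * x ∈ Q) : ∃ k : ℕ, x ^ 2 ^ k = 1 := by
  obtain ⟨k, hk⟩ := PG.exists_pow_prime_pow_eq_one hQ hx
  exact ⟨k + 1, by rw [pow_succ', pow_mul, pow_two, hk]⟩

theorem _root_.Cfsg.Lib.Local.JC.odd_of_mem_FF {f : G ⧸ pCore 2 G} (hf : f ∈ FF G) :
    Odd (orderOf f) :=
  Nat.coprime_two_right.mp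
    ((coprime_card_pPrimeCore 2 _).coprime_dvd_left (orderOf_dvd_natCard _ hf))

theorem hyp (h : JHyp T V) : Hyp h.VV (FF G) where
  expo := fun v => h.val_inj (by rw [map_mul, map_one]; exact ea_sq h.ea (h.val_mem v))
  normal := inferInstance
  odd := fun _ hf => odd_of_mem_FF hf
  ker_comm := by
    intro c hc a ha
    obtain ⟨c, rfl⟩ := pr_surj c
    obtain ⟨a, rfl⟩ := pr_surj a
    rw [← map_mul, pr_eq_one] at ha
    obtain ⟨k, hk⟩ := exists_pow_of_sq_mem (pCore_isPGroup 2 G) ha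
    have := pr_eq_one.mpr (h.comm_mem_core (h.mem_cent_iff.mpr hc) hk)
    rwa [map_commutatorElement, commutatorElement_eq_one_iff_mul_comm] at this
  ker_odd := by
    intro c hc
    obtain ⟨c, rfl⟩ := pr_surj c
    obtain ⟨k, m, hm, e⟩ := Nat.exists_eq_two_pow_mul_odd (orderOf_pos c).ne'
    have h1 : c ^ m ∈ pCore 2 G := h.mem_core_of_cent (k := k)
      (pow_mem (h.mem_cent_iff.mpr hc) m) (by rw [← pow_mul, mul_comm, ← e, pow_orderOf_eq_one])
    rw [← pr_eq_one, map_pow] at h1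
    exact hm.of_dvd_nat (orderOf_dvd_of_pow_eq_one h1)

theorem exists_not_comm (h : JHyp T V) {b : G ⧸ pCore 2 G} (hb : b * b = 1) (hb1 : b ≠ 1) :
    ∃ f ∈ FF G, f * b ≠ b * f := by
  by_contra hc
  push Not at hc
  have := h.solv
  exact hb1 (eq_one_of_odd_of_sq (odd_of_mem_FF ((IsPSolvable.of_isSolvable 2 _).centralizer_pPrimeCore_le
    (pCore_quotient_pCore 2 G) hc)) hb)

theorem exists_tri_of_tv (h : JHyp T V) {a : G ⧸ pCore 2 G} {u : h.VV} (ha : IsTv a u) :
    ∃ y w, Tri (FF G) a y u w :=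
  h.hyp.exists_tri ha (h.exists_not_comm ha.sq ha.ne_one)

theorem exists_tri (h : JHyp T V) {a : G} (ha : TvElt T a) :
    ∃ (y : G ⧸ pCore 2 G) (u w : h.VV), Tri (FF G) (pr G a) y u w := by
  obtain ⟨A, hA, haA, haQ, hAa⟩ := ha
  have ha2 := ea_sq hA.ea haA
  obtain ⟨v, hv⟩ : ∃ v : h.VV, pr G a • v ≠ v := by
    by_contra hc
    push Not at hc
    exact haQ (h.mem_core_of_cent (k := 1) (h.mem_cent_iff.mpr hc) (by rw [pow_one, pow_two, ha2]))
  have hhalf := half_of_elt hA.ea (inf_le_left : A ⊓ pCore 2 G ≤ A) haA fun x hx =>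
      (hAa x hx).imp (fun h3 => ⟨hx, h3⟩) fun h3 => ⟨A.mul_mem haA hx, h3⟩
  have htv : IsTv (pr G a) (v * pr G a • v) := by
    refine ⟨by rw [← map_mul, ha2, map_one], fun h1 => hv (h.hyp.eq_of_mul_eq_one h1).symm,
      fun x => ?_, v, hv⟩
    rcases repl_two hA hhalf (h.V_le (h.val_mem v)) (ea_sq h.ea (h.val_mem v))
      (fun b hb => h.cent hb.2 _ (h.val_mem v)) (h.V_le (h.val_mem x)) (ea_sq h.ea (h.val_mem x))
      (fun b hb => h.cent hb.2 _ (h.val_mem x)) (ea_comm h.ea (h.val_mem v) (h.val_mem x)) with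
      h1 | h1 | h1
    · exact absurd (h.smul_eq_iff.mpr (ea_comm hA.ea haA h1.1)) hv
    · exact Or.inl (h.smul_eq_iff.mpr (ea_comm hA.ea haA h1.1))
    · rw [← map_mul] at h1
      have h2 := h.smul_eq_iff.mpr (ea_comm hA.ea haA h1.1)
      rw [smul_mul'] at h2
      right
      rw [mul_left_comm, mul_comm x, ← mul_assoc, mul_comm v, mul_assoc, ← h2,
        h.hyp.mul_cancel_left]
  obtain ⟨y, w, ht⟩ := h.exists_tri_of_tv htv
  exact ⟨y, _, w, ht⟩

/-- `J(T)` is generated by transvections modulo `O₂(G)`. -/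
theorem J_le_of_tv (h : JHyp T V) {N : Subgroup G} (hQ : pCore 2 G ≤ N)
    (hN : ∀ a, TvElt T a → a ∈ N) : J T ≤ N := by
  refine J_le_iff.mpr fun A hA => ?_
  induction hn : Nat.card (A.map (pr G)) using Nat.strong_induction_on generalizing A with
  | _ n ih =>
  have key : ∀ b ∈ A, b ∉ pCore 2 G → ∀ c ∈ A, c ∈ N ∨ b * c ∈ N ∧ True := by
    intro b hb hbQ
    have hE : ∀ c ∈ A.map (pr G), c * c = 1 := fun c hc => ea_sq (ea_map hA.ea _) hc
    obtain ⟨v, hv, hall⟩ := h.hyp.exists_fix hE (mem_map_of_mem _ hb)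
      (h.exists_not_comm (hE _ (mem_map_of_mem _ hb)) (mt pr_eq_one.mp hbQ))
    have hall' : ∀ c ∈ A, c ∈ A ⊓ centralizer {h.val v} ∨ b * c ∈ A ⊓ centralizer {h.val v} :=
      fun c hc => (hall _ (mem_map_of_mem _ hc)).imp
        (fun h1 => ⟨hc, mem_centralizer_singleton_iff.mpr (h.smul_eq_iff.mp h1)⟩)
        fun h1 => ⟨A.mul_mem hb hc, mem_centralizer_singleton_iff.mpr (h.smul_eq_iff.mp
          (by rwa [map_mul]))⟩
    have hA' := repl hA (half_of_elt hA.ea inf_le_left hb hall') (h.V_le (h.val_mem v))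
      (ea_sq h.ea (h.val_mem v)) (fun x hx => (mem_centralizer_singleton_iff.mp hx.2).symm)
      fun h1 => hv (h.smul_eq_iff.mpr (ea_comm hA.ea hb h1.1))
    have hlt : ((A ⊓ centralizer {h.val v}) ⊔ zpowers (h.val v)).map (pr G) < A.map (pr G) := by
      rw [Subgroup.map_sup, MonoidHom.map_zpowers, pr_eq_one.mpr (h.le (h.val_mem v)), zpowers_one_eq_bot,
        sup_bot_eq]
      refine lt_of_le_of_ne (map_mono inf_le_left) fun h1 => hv ?_
      obtain ⟨x, hx, hx'⟩ := h1.ge (mem_map_of_mem _ hb)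
      rw [← hx']
      exact h.smul_eq_iff.mpr (mem_centralizer_singleton_iff.mp hx.2)
    have := le_sup_left.trans (ih _ (hn ▸ card_lt_of_lt hlt) _ hA' rfl)
    exact fun c hc => (hall' c hc).imp (fun h1 => this h1) fun h1 => ⟨this h1, trivial⟩
  by_cases hAQ : A ≤ pCore 2 G
  · exact hAQ.trans hQ
  obtain ⟨a, ha, haQ⟩ := SetLike.not_le_iff_exists.mp hAQ
  obtain ⟨b, hb, hbQ, hbN⟩ : ∃ b ∈ A, b ∉ pCore 2 G ∧ b ∈ N := by
    by_cases hAa : ∀ x ∈ A, x ∈ pCore 2 G ∨ a * x ∈ pCore 2 G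
    · exact ⟨a, ha, haQ, hN a ⟨A, hA, ha, haQ, hAa⟩⟩
    · push Not at hAa
      obtain ⟨x, hx, h1, h2⟩ := hAa
      rcases key a ha haQ x hx with h3 | h3
      · exact ⟨x, hx, h1, h3⟩
      · exact ⟨a * x, A.mul_mem ha hx, h2, h3.1⟩
  intro c hc
  exact (key b hb hbQ c hc).elim id fun h1 => (mul_mem_cancel_left hbN).mp h1.1

end JHyp

end Cfsg.Lib.Local.JC
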