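import Cfsg.Agent.Local.JStruct

/-!
The `J(T)`-components of a solvable group satisfying `JHyp`: they correspond to the transvection
configurations, are subnormal, permuted by the group, and generate it together with `N(J(T))`.
-/

set_option autoImplicit false
set_option linter.unusedSectionVars false

namespace Cfsg.Lib.Local.JC

open Subgroup Cfsg.Lib.Trans Cfsg.Lib.Trans.TJ Cfsg.Lib.Solv Cfsg.Lib.Local.Tv
open scoped commutatorElement

variable {G : Type*} [Group G]

/-- The preimage of `⟨y⟩`. -/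
def Yof (y : G ⧸ pCore 2 G) : Subgroup G := (zpowers y).comap (pr G)

/-- `O²` of the preimage of `⟨y⟩`. -/
def Kof (y : G ⧸ pCore 2 G) : Subgroup G := resOf 2 (Yof y)

theorem mem_Yof {y : G ⧸ pCore 2 G} {g : G} : g ∈ Yof y ↔ pr G g ∈ zpowers y := Iff.rfl

theorem core_le_Yof (y : G ⧸ pCore 2 G) : pCore 2 G ≤ Yof y := fun g hg => by
  rw [mem_Yof, pr_eq_one.mpr hg]
  exact one_mem _

theorem Kof_le (y : G ⧸ pCore 2 G) : Kof y ≤ Yof y := resOf_le _

theorem Yof_inv (y : G ⧸ pCore 2 G) : Yof y⁻¹ = Yof y := by rw [Yof, zpowers_inv, Yof]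

theorem Kof_inv (y : G ⧸ pCore 2 G) : Kof y⁻¹ = Kof y := by rw [Kof, Yof_inv, Kof]

theorem Kof_eq_of {y y' : G ⧸ pCore 2 G} (h : y' = y ∨ y' = y⁻¹) : Kof y' = Kof y := by
  rcases h with rfl | rfl
  · rfl
  · exact Kof_inv y

theorem Yof_eq_sup {k : G} : Yof (pr G k) = pCore 2 G ⊔ zpowers k := by
  rw [Yof, ← MonoidHom.map_zpowers, comap_map_eq, QuotientGroup.ker_mk', sup_comm]

theorem cj_Yof (g : G) (y : G ⧸ pCore 2 G) : cj g (Yof y) = Yof (pr G g * y * (pr G g)⁻¹) := by
  rw [Yof, ← comap_cj, cj_zpowers, Yof]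

theorem mem_normalizer_Yof {g : G} {y : G ⧸ pCore 2 G}
    (h : pr G g * y * (pr G g)⁻¹ = y ∨ pr G g * y * (pr G g)⁻¹ = y⁻¹) :
    g ∈ normalizer (Yof y : Set G) := by
  rw [← cj_eq_self_iff, cj_Yof]
  rcases h with h | h <;> rw [h]
  exact Yof_inv y

theorem normalizer_Yof_le (y : G ⧸ pCore 2 G) :
    normalizer (Yof y : Set G) ≤ normalizer (Kof y : Set G) := normalizer_le_normalizer_resOf _

theorem core_le_normalizer_Kof (y : G ⧸ pCore 2 G) : pCore 2 G ≤ normalizer (Kof y : Set G) :=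
  ((core_le_Yof y).trans le_normalizer).trans (normalizer_Yof_le y)

theorem le_normalizer_core (K : Subgroup G) : K ≤ normalizer (pCore 2 G : Set G) := by
  rw [normalizer_eq_top]
  exact le_top

theorem mem_centralizer_zpowers {k x : G} (h : k * x = x * k) :
    x ∈ centralizer (zpowers k : Set G) := fun b hb => by
  obtain ⟨n, rfl⟩ := mem_zpowers_iff.mp hb
  exact Commute.zpow_left h n

variable [Finite G]

theorem cj_Kof (g : G) (y : G ⧸ pCore 2 G) : cj g (Kof y) = Kof (pr G g * y * (pr G g)⁻¹) := by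
  rw [Kof, cj_resOf, cj_Yof, Kof]

theorem exists_mem_Kof {y : G ⧸ pCore 2 G} (hy : y * y * y = 1) : ∃ k ∈ Kof y, pr G k = y := by
  obtain ⟨g, rfl⟩ := pr_surj y
  obtain ⟨n, hn⟩ := exists_pow_mem_resOf (p := 2) (H := Yof (pr G g)) (x := g) (mem_zpowers _)
  refine ⟨g ^ 2 ^ (2 * n), ?_, ?_⟩
  · rw [two_mul, pow_add, pow_mul]
    exact pow_mem hn _
  · have h3 : pr G g ^ 3 = 1 := by rw [pow_succ, pow_two, hy]
    rw [map_pow]
    have : 2 ^ (2 * n) % 3 = 1 := by rw [pow_mul, Nat.pow_mod]; simp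
    rw [← Nat.div_add_mod (2 ^ (2 * n)) 3, this, pow_succ, pow_mul, h3, one_pow, one_mul]

namespace JHyp

variable {T V : Subgroup G} {a y a' y' : G ⧸ pCore 2 G}

theorem subnormal_Yof (h : JHyp T V) {u w : h.VV} (t : Tri (FF G) a y u w) :
    SubnormalIn (Yof y) ⊤ := by
  refine SubnormalIn.step (B := (FF G).comap (pr G)) (comap_mono (zpowers_le.mpr t.mem))
    (fun g hg => mem_normalizer_Yof (t.conj_y_eq hg)) (SubnormalIn.of_normal le_top)

theorem subnormal_Kof (h : JHyp T V) {u w : h.VV} (t : Tri (FF G) a y u w) :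
    SubnormalIn (Kof y) ⊤ :=
  SubnormalIn.step (Kof_le y) (le_normalizer_resOf _) (h.subnormal_Yof t)

theorem core_Kof (h : JHyp T V) {u w : h.VV} (t : Tri (FF G) a y u w) :
    pCoreOf 2 (Kof y) = pCore 2 G ⊓ Kof y := by
  rw [pCoreOf_eq_inf_of_subnormalIn (h.subnormal_Kof t), pCoreOf_top]

theorem idx3_Kof (h : JHyp T V) {u w : h.VV} (t : Tri (FF G) a y u w) : Idx3 (Kof y) where
  res := resOf_resOf _
  idx := by
    obtain ⟨k, hk, e⟩ := exists_mem_Kof t.cube
    have e2 : pCore 2 G ⊔ Kof y = pCore 2 G ⊔ zpowers k := by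
      refine le_antisymm (sup_le le_sup_left ?_) (sup_le_sup_left (zpowers_le.mpr hk) _)
      rw [← Yof_eq_sup, e]
      exact Kof_le y
    rw [h.core_Kof t, inf_relIndex_right, ← PG.relIndex_sup_of_le_normalizer (le_normalizer_core _),
      e2, PG.relIndex_sup_of_le_normalizer (le_normalizer_core _)]
    refine PG.relIndex_zpowers_eq_prime Nat.prime_three (le_normalizer_core ⊤ trivial) ?_ ?_
    · rw [← pr_eq_one, e]
      exact t.ne
    · rw [← pr_eq_one, map_pow, e, pow_succ, pow_two, t.cube]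

/-- The normal subgroup normalizing all configurations. -/
def Nn (h : JHyp T V) : Subgroup G := (triNorm h.VV (FF G)).comap (pr G)

theorem Nn_normal (h : JHyp T V) : h.Nn.Normal := (triNorm_normal inferInstance).comap _

theorem J_le_Nn (h : JHyp T V) : J T ≤ h.Nn := by
  refine h.J_le_of_tv (fun g hg => ?_) fun a ha => ?_
  · change pr G g ∈ triNorm h.VV (FF G)
    rw [pr_eq_one.mpr hg]
    exact one_mem _
  · obtain ⟨y, u, w, t⟩ := h.exists_tri ha
    exact t.mem_triNorm h.hyp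

theorem Nn_le_normalizer (h : JHyp T V) {u w : h.VV} (t : Tri (FF G) a y u w) :
    h.Nn ≤ normalizer (Kof y : Set G) :=
  fun _ hg => normalizer_Yof_le y (mem_normalizer_Yof (hg a y u w t))

theorem comm_not_mem (h : JHyp T V) {u w : h.VV} {d k : G} (t : Tri (FF G) (pr G d) y u w)
    (e : pr G k = y) : ⁅k, d⁆ ∉ pCore 2 G := by
  rw [← pr_eq_one, map_commutatorElement, e, commutatorElement_eq_one_iff_mul_comm]
  intro h1
  have := t.inv
  rw [← h1, mul_inv_cancel_right] at this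
  exact t.inv_ne this.symm

theorem comm_V_le_w (h : JHyp T V) {K : Subgroup G} (h3 : Idx3 K) (hVK : V ≤ normalizer (K : Set G))
    (hP : pCoreOf 2 K ≤ pCore 2 G) : ⁅V, K⁆ ≤ wOf K := by
  have := h.normal
  have hKV : K ≤ normalizer (V : Set G) := by rw [normalizer_eq_top]; exact le_top
  have h1 := commutator_resOf_resOf (ea_isPGroup h.ea) hKV
  rw [h3.res] at h1
  rw [← h1]
  refine commutator_mono (fun x hx => ?_) le_rfl
  have h2 := commutator_le_inf_of_le_normalizer hVK hKV hx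
  exact mem_oc.mpr ⟨h3.inf_le (ea_isPGroup h.ea) h2,
    fun q hq => (h.cent (hP hq) x h2.1).symm, ea_sq h.ea h2.1⟩

theorem val_mem_comm (h : JHyp T V) {u w : h.VV} (t : Tri (FF G) a y u w) {k : G} (e : pr G k = y)
    {K : Subgroup G} (hk : k ∈ K) {s : h.VV} (hs : InW u w s) : h.val s ∈ ⁅V, K⁆ := by
  obtain ⟨v, hv⟩ := (t.inW_iff h.hyp).mp hs
  have h1 := congrArg h.val hv
  rw [← e, val_smul, map_mul] at h1
  have : h.val s = ⁅(h.val v)⁻¹, k⁆ := by
    rw [commutatorElement_def, inv_inv, mul_assoc, mul_assoc, ← mul_assoc k, h1,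
      inv_mul_cancel_left]
  rw [this]
  exact commutator_mem_commutator (inv_mem (h.val_mem v)) hk

theorem wdata (h : JHyp T V) {u w : h.VV} {d : G} (hd : TvElt T d)
    (t : Tri (FF G) (pr G d) y u w) : WData T (pCore 2 G) (Kof y) d where
  idx3 := h.idx3_Kof t
  pg := pCore_isPGroup 2 G
  le := h.core_le
  kq := le_normalizer_core _
  qk := core_le_normalizer_Kof y
  core := (h.core_Kof t).le.trans inf_le_left
  ak := h.Nn_le_normalizer t (h.J_le_Nn hd.mem_J)
  jk := h.J_le_Nn.trans (h.Nn_le_normalizer t)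
  ex := by
    obtain ⟨k, hk, e⟩ := exists_mem_Kof t.cube
    exact ⟨k, hk, fun h1 => h.comm_not_mem t e ((h.core_Kof t).le h1).1⟩

theorem w_Kof (h : JHyp T V) {u w : h.VV} {d : G} (hd : TvElt T d)
    (t : Tri (FF G) (pr G d) y u w) : wOf (Kof y) = four (h.val u) (h.val w) := by
  have hw := h.wdata hd t
  obtain ⟨A, hA, ha, -, hAa⟩ := hd
  obtain ⟨k, hk, e⟩ := exists_mem_Kof t.cube
  have h1 := h.comm_V_le_w hw.idx3 (h.le.trans hw.qk) hw.core
  refine hw.w_eq_four hA ha hAa (h1 (h.val_mem_comm t e hk (Or.inr (Or.inl rfl))))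
    (h1 (h.val_mem_comm t e hk (Or.inr (Or.inr (Or.inl rfl))))) ?_ ?_ ?_
  · rw [Ne, ← map_one h.val, h.val_inj.eq_iff]
    exact t.ta.ne
  · rw [← val_smul, t.ta.fix h.hyp.expo]
  · rw [← val_smul, t.aw, map_mul]

theorem card_four_val (h : JHyp T V) {u w : h.VV} (t : Tri (FF G) a y u w) :
    Nat.card (four (h.val u) (h.val w)) = 4 := by
  refine card_four (ea_sq h.ea (h.val_mem u)) (ea_sq h.ea (h.val_mem w))
    (ea_comm h.ea (h.val_mem u) (h.val_mem w)) ?_ ?_ (h.val_inj.ne (t.u_ne_w h.hyp))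
  · rw [Ne, ← map_one h.val, h.val_inj.eq_iff]
    exact t.ta.ne
  · rw [Ne, ← map_one h.val, h.val_inj.eq_iff]
    exact t.tb.ne

theorem preJC_Kof (h : JHyp T V) {u w : h.VV} {d : G} (hd : TvElt T d)
    (t : Tri (FF G) (pr G d) y u w) : PreJC T (Kof y) where
  idx3 := h.idx3_Kof t
  comm := by
    have hw := h.wdata hd t
    obtain ⟨k, hk, hk'⟩ := hw.ex
    exact le_antisymm (commutator_le_left_of_le_normalizer hw.jk)
      (hw.idx3.le_of_mem ((pCoreOf_le _).trans (normalizer_commutator_ge_left _ _))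
        (commutator_mem_left hw.ak hk) hk' (commutator_mem_commutator hk hd.mem_J))
  card := by rw [h.w_Kof hd t, h.card_four_val t]

theorem core_le_normalizer (h : JHyp T V) {K : Subgroup G} (hK : PreJC T K) :
    pCore 2 G ≤ normalizer (K : Set G) :=
  hK.le_normalizer h.syl.isPGroup (le_normalizer_core K) (h.core_le.trans (le_normalizer_J T))

/-- Every `J(T)`-component comes from a transvection. -/
theorem exists_eq_Kof (h : JHyp T V) {K : Subgroup G} (hK : PreJC T K) :
    ∃ (d : G) (y : G ⧸ pCore 2 G) (u w : h.VV), TvElt T d ∧ Tri (FF G) (pr G d) y u w ∧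
      K = Kof y := by
  have h3 := hK.idx3
  have hQK := h.core_le_normalizer hK
  have hQP := h3.inf_le (pCore_isPGroup 2 G)
  obtain ⟨k, hk, hkP, -⟩ := h3.exists_odd
  obtain ⟨d, hd, hdk⟩ : ∃ d, TvElt T d ∧ ⁅d, k⁆ ∉ pCoreOf 2 K := by
    by_contra hc
    push Not at hc
    have h1 : J T ≤ modCent (pCoreOf 2 K) k := h.J_le_of_tv
      (fun q hq => ⟨normalizer_le_normalizer_pCoreOf K (hQK hq), hQP
        ⟨commutator_mem_left (le_normalizer_core K hk) hq, commutator_mem_right (hQK hq) hk⟩⟩)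
      fun a ha => ⟨normalizer_le_normalizer_pCoreOf K (hK.J_le_normalizer ha.mem_J), hc a ha⟩
    obtain ⟨A, hA, a, ha, k', hk', hka⟩ := hK.exists_maxEA
    apply h3.comm_not_mem (hK.J_le_normalizer (hA.le_J ha)) hk' hka hk hkP
    rw [← commutatorElement_inv]
    exact inv_mem (h1 (hA.le_J ha)).2
  obtain ⟨y, u, w, t⟩ := h.exists_tri hd
  refine ⟨d, y, u, w, hd, t, ?_⟩
  have hxK : ⁅k, d⁆ ∈ K := commutator_mem_left (hK.J_le_normalizer hd.mem_J) hk
  have hxP : ⁅k, d⁆ ∉ pCoreOf 2 K := fun h1 => hdk (by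
    rw [← commutatorElement_inv]
    exact inv_mem h1)
  have hx : pr G ⁅k, d⁆ = y ∨ pr G ⁅k, d⁆ = y⁻¹ := by
    have := t.comm_conj h.hyp (pr G k)
    rw [← commutatorElement_def, ← map_commutatorElement, ← map_mul, pr_eq_one] at this
    exact this.resolve_left fun h1 => hxP (h3.mem_of_sq hxK (hQP ⟨h1, K.mul_mem hxK hxK⟩))
  have hxF : pr G ⁅k, d⁆ ∈ FF G := by
    rcases hx with h1 | h1 <;> rw [h1]
    · exact t.mem
    · exact inv_mem t.mem
  rw [← Kof_eq_of hx]
  have hle : Kof (pr G ⁅k, d⁆) ≤ K := by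
    rw [← h3.res, ← resOf_sup_of_isPGroup (pCore_isPGroup 2 G) hQK]
    refine resOf_mono ?_
    rw [Yof_eq_sup]
    exact sup_le le_sup_right ((zpowers_le.mpr hxK).trans le_sup_left)
  refine le_antisymm ?_ hle
  have h3' : Idx3 (Kof (pr G ⁅k, d⁆)) := Kof_eq_of hx ▸ h.idx3_Kof t
  obtain ⟨z, hz, hzP⟩ := SetLike.not_le_iff_exists.mp fun h1 =>
    h3'.not_isPGroup ((isPGroup_pCoreOf K).to_le h1)
  refine h3.le_of_mem (fun q hq => normalizer_Yof_le _ (mem_normalizer_Yof (Or.inl ?_)))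
    (hle hz) hzP hz
  have h4 : ⁅q, ⁅k, d⁆⁆ ∈ pCoreOf 2 K := commutator_mem_left (le_normalizer_pCoreOf K hxK) hq
  obtain ⟨n, hn⟩ := PG.exists_pow_prime_pow_eq_one (isPGroup_pCoreOf K) h4
  have h5 : pr G ⁅q, ⁅k, d⁆⁆ ∈ FF G := by
    rw [map_commutatorElement]
    exact commutator_mem_right (by rw [normalizer_eq_top]; trivial) hxF
  have h6 : pr G ⁅q, ⁅k, d⁆⁆ = 1 := by
    have h7 : orderOf (pr G ⁅q, ⁅k, d⁆⁆) ∣ 2 ^ n :=
      orderOf_dvd_of_pow_eq_one (by rw [← map_pow, hn, map_one])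
    exact orderOf_eq_one_iff.mp (Nat.Coprime.eq_one_of_dvd
      ((Nat.coprime_two_right.mpr (odd_of_mem_FF h5)).pow_right n) h7)
  rw [map_commutatorElement, commutatorElement_eq_one_iff_mul_comm] at h6
  rw [h6, mul_inv_cancel_right]

theorem subnormal (h : JHyp T V) {K : Subgroup G} (hK : PreJC T K) : SubnormalIn K ⊤ := by
  obtain ⟨d, y, u, w, -, t, rfl⟩ := h.exists_eq_Kof hK
  exact h.subnormal_Kof t

theorem preJC_cj (h : JHyp T V) {K : Subgroup G} (hK : PreJC T K) (g : G) : PreJC T (cj g K) := by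
  have := h.Nn_normal
  obtain ⟨k, hk, n, hn, e⟩ := frattini_J h.syl le_top (normalizer_eq_top h.Nn).ge h.J_le_Nn
    (mem_top g⁻¹)
  obtain ⟨d, y, u, w, -, t, rfl⟩ := h.exists_eq_Kof hK
  rw [inv_eq_iff_eq_inv, mul_inv_rev] at e
  rw [e, cj_mul, cj_eq_of_mem_normalizer (h.Nn_le_normalizer t (inv_mem hk))]
  exact (hK.map (MulAut.conj n⁻¹).injective).congr
    (by rw [← cj_J, cj_eq_of_mem_normalizer (inv_mem hn)])

theorem w_eq_comm (h : JHyp T V) {K : Subgroup G} (hK : PreJC T K) : wOf K = ⁅V, K⁆ := by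
  obtain ⟨d, y, u, w, hd, t, rfl⟩ := h.exists_eq_Kof hK
  have hw := h.wdata hd t
  refine le_antisymm ?_ (h.comm_V_le_w hw.idx3 (h.le.trans hw.qk) hw.core)
  obtain ⟨k, hk, e⟩ := exists_mem_Kof t.cube
  rw [h.w_Kof hd t]
  exact four_le (h.val_mem_comm t e hk (Or.inr (Or.inl rfl)))
    (h.val_mem_comm t e hk (Or.inr (Or.inr (Or.inl rfl))))

theorem le_centralizer_of_ne (h : JHyp T V) {K K' : Subgroup G} (hK : PreJC T K)
    (hK' : PreJC T K') (hne : K ≠ K') : K' ≤ centralizer (wOf K : Set G) := by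
  obtain ⟨d, y, u, w, hd, t, rfl⟩ := h.exists_eq_Kof hK
  obtain ⟨d', y', u', w', hd', t', rfl⟩ := h.exists_eq_Kof hK'
  rcases t.dichotomy h.hyp t' with h1 | h1
  · exact absurd (Kof_eq_of (t.y_eq_of_mem h.hyp t' h1)).symm hne
  · obtain ⟨k, -, e⟩ := exists_mem_Kof t'.cube
    refine (Kof_le y').trans ?_
    rw [← e, Yof_eq_sup, h.w_Kof hd t]
    refine sup_le (h.cent.trans (centralizer_le (four_le (h.val_mem u) (h.val_mem w)))) ?_
    refine le_centralizer_iff.mp (four_le ?_ ?_)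
    · exact mem_centralizer_zpowers (h.smul_eq_iff.mp (e ▸ h1.2.2.2.1))
    · exact mem_centralizer_zpowers (h.smul_eq_iff.mp (e ▸ h1.2.2.2.2))

theorem le_sup_normalizer (h : JHyp T V) :
    ⊤ ≤ sSup {K | PreJC T K} ⊔ normalizer (J T : Set G) := by
  set D := sSup {K | PreJC T K} ⊔ pCore 2 G with hD
  have hDn : ⊤ ≤ normalizer (D : Set G) :=
    PG.le_normalizer_sup (le_normalizer_sSup fun g _ K hK => h.preJC_cj hK g) (le_normalizer_core _)
  have hNn : h.Nn ≤ normalizer ((D ⊔ J T : Subgroup G) : Set G) := by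
    refine le_normalizer_of_commutator_le (sup_commutator_le (le_sup_left.trans le_normalizer)
      (le_sup_right.trans le_normalizer)
      ((commutator_le_left_of_le_normalizer (le_top.trans hDn)).trans le_sup_left)
      (commutator_le.mpr fun j hj k hk => mem_sup_left ?_))
    refine (h.J_le_of_tv (N := modCent D k) (le_sup_right.trans (le_modCent (hDn trivial)))
      (fun d hd => ⟨hDn trivial, ?_⟩) hj).2
    obtain ⟨y, u, w, t⟩ := h.exists_tri hd
    obtain ⟨z, hz, e⟩ := exists_mem_Kof t.cube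
    have h1 : Yof y ≤ D := by
      rw [← e, Yof_eq_sup]
      exact sup_le le_sup_right ((zpowers_le.mpr hz).trans
        ((le_sSup (h.preJC_Kof hd t)).trans le_sup_left))
    rw [← commutatorElement_inv]
    refine inv_mem (h1 ?_)
    rw [mem_Yof, map_commutatorElement, commutatorElement_def]
    rcases t.comm_of_mem_triNorm h.hyp hk with h2 | h2 | h2 <;> rw [h2]
    · exact one_mem _
    · exact mem_zpowers y
    · exact inv_mem (mem_zpowers y)
  have hall : ⊤ ≤ normalizer ((D ⊔ J T : Subgroup G) : Set G) := by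
    intro g _
    have := h.Nn_normal
    obtain ⟨k, hk, n, hn, rfl⟩ := frattini_J h.syl le_top (normalizer_eq_top h.Nn).ge h.J_le_Nn
      (mem_top g)
    exact mul_mem (hNn hk) (PG.le_normalizer_sup (le_top.trans hDn) le_rfl hn)
  intro g _
  obtain ⟨k, hk, n, hn, rfl⟩ := frattini_J h.syl le_top hall le_sup_right (mem_top g)
  refine mul_mem ((?_ : D ⊔ J T ≤ _) hk) (mem_sup_right hn)
  refine sup_le (sup_le le_sup_left ?_) ?_
  · exact (h.core_le.trans (le_normalizer_J T)).trans le_sup_right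
  · exact le_normalizer.trans le_sup_right

/-- `J(T)` normalizes `[V, K]` for suitable subnormal sections `K` of order three. -/
theorem J_le_normalizer_w (h : JHyp T V) {K : Subgroup G} (h3 : Idx3 K) (h4 : Nat.card (wOf K) = 4)
    (hw : wOf K = ⁅V, K⁆) (hsn : SubnormalIn (pCore 2 G ⊔ K) ⊤) (hP : pCoreOf 2 K ≤ pCore 2 G) :
    J T ≤ normalizer (wOf K : Set G) := by
  have := h.normal
  have hWV : wOf K ≤ V := hw ▸ commutator_le_left V K
  have hQW : pCore 2 G ≤ normalizer (wOf K : Set G) :=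
    (h.cent.trans (centralizer_le hWV)).trans (centralizer_le_normalizer _)
  refine h.J_le_of_tv hQW fun d hd => ?_
  obtain ⟨y, u, w, t⟩ := h.exists_tri hd
  obtain ⟨k, hk, hkP, hko⟩ := h3.exists_odd
  have e1 : pCore 2 G ⊔ K = Yof (pr G k) := by
    rw [Yof_eq_sup]
    refine le_antisymm (sup_le le_sup_left ?_) (sup_le_sup_left (zpowers_le.mpr hk) _)
    exact (h3.sup_zpowers hk hkP).ge.trans (sup_le_sup_right hP _)
  have hkF : pr G k ∈ FF G := by
    have h1 := hsn.map (pr G)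
    rw [e1, Yof, map_comap_eq_self_of_surjective pr_surj, map_top_of_surjective _ pr_surj,
      SubnormalIn.top_iff] at h1
    rw [FF, pPrimeCore_eq_piCore]
    refine le_piCore_of_isSubnormal h1 ?_ (mem_zpowers _)
    rw [isPiNum_compl_singleton_iff Nat.prime_two, Nat.card_zpowers]
    exact hko.coprime_dvd_left (orderOf_map_dvd _ k)
  by_cases hc : pr G k * pr G d * (pr G k)⁻¹ = pr G d
  · have h1 : d ∈ normalizer (Yof (pr G k) : Set G) := mem_normalizer_Yof (Or.inl (by
      rw [← mul_inv_eq_iff_eq_mul.mp hc, mul_inv_cancel_right]))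
    have e2 : wOf K = ⁅V, Yof (pr G k)⁆ := by
      refine le_antisymm (hw ▸ commutator_mono le_rfl (e1 ▸ le_sup_right)) ?_
      rw [← e1]
      refine commutator_sup_le hQW (le_normalizer_w K) ?_ hw.ge
      rw [commutator_eq_bot_iff_le_centralizer.mpr (le_centralizer_iff.mp h.cent)]
      exact bot_le
    rw [e2]
    exact normalizer_le_normalizer_commutator _ _ ⟨by rw [normalizer_eq_top]; trivial, h1⟩
  · have hku : pr G k • u ≠ u := by
      rcases (t.cls _ hkF).resolve_left hc with h1 | h1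
      · have h2 := t.ta.conj (pr G k)
        rw [h1] at h2
        rw [h2.unique t.tb]
        exact (t.u_ne_w h.hyp).symm
      · have h2 := t.ta.conj (pr G k)
        rw [h1] at h2
        rw [h2.unique t.tc, Ne, mul_eq_right]
        exact t.tb.ne
    have hin : ∀ s, InW u w s → InW u w (pr G k • s) := fun s hs =>
      t.inW_smul_of_comm h.hyp (t.comm h.hyp hkF) hs
    have hfour : ∀ s, InW u w s → h.val s ∈ four (h.val u) (h.val w) := by
      rintro s (rfl | rfl | rfl | rfl)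
      · rw [map_one]
        exact one_mem _
      · exact left_mem_four _ _
      · exact right_mem_four _ _
      · rw [map_mul]
        exact mul_mem (left_mem_four _ _) (right_mem_four _ _)
    have hs : InW u w (u * pr G k • u) :=
      InW.mul h.hyp.expo (Or.inr (Or.inl rfl)) (hin u (Or.inr (Or.inl rfl)))
    have hsW : h.val (u * pr G k • u) ∈ wOf K := by
      have : h.val (u * pr G k • u) = ⁅h.val u, k⁆ := by
        rw [map_mul, val_smul, commutatorElement_def, inv_eq_of_sq (ea_sq h.ea (h.val_mem u))]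
        group
      rw [this, hw]
      exact commutator_mem_commutator (h.val_mem u) hk
    have hle := h3.w_le_of_mem h4 hsW (by
      rw [Ne, ← map_one h.val, h.val_inj.eq_iff]
      exact fun h1 => hku (h.hyp.eq_of_mul_eq_one h1).symm) hk hkP (hfour _ hs)
      (by rw [← val_smul]; exact hfour _ (hin _ hs))
    rw [PG.eq_of_le_of_card_eq hle (by rw [h4, h.card_four_val t]), ← h.w_Kof hd t]
    exact normalizer_le_normalizer_w _ (h.wdata hd t).ak

end JHyp

end Cfsg.Lib.Local.JC
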