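import Cfsg.Agent.Local.JZero

/-!
The bound `|W_K| ≤ 4` for a group `K` with `|K : O₂(K)| = 3` on which an element of a member of
the family of elementary abelian subgroups of largest order acts like a transvection.
-/

set_option autoImplicit false

namespace Cfsg.Lib.Local.JC

open Subgroup Cfsg.Lib.Trans Cfsg.Lib.Trans.TJ Cfsg.Lib.Solv
open scoped commutatorElement

variable {G : Type*} [Group G] [Finite G]

/-- The data used for the bound on `W_K`. -/
structure WData (T Q K : Subgroup G) (a : G) : Prop where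
  idx3 : Idx3 K
  pg : IsPGroup 2 Q
  le : Q ≤ T
  kq : K ≤ normalizer (Q : Set G)
  qk : Q ≤ normalizer (K : Set G)
  core : pCoreOf 2 K ≤ Q
  ak : a ∈ normalizer (K : Set G)
  jk : J T ≤ normalizer (K : Set G)
  ex : ∃ k ∈ K, ⁅k, a⁆ ∉ pCoreOf 2 K

namespace WData

variable {T Q K A : Subgroup G} {a : G}

theorem cent_unique (h : WData T Q K a) (hA : MaxEA 2 T A) (ha : a ∈ A)
    (hAa : ∀ x ∈ A, x ∈ Q ∨ a * x ∈ Q) {s t : G} (hs : s ∈ wOf K) (ht : t ∈ wOf K) (hs1 : s ≠ 1)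
    (ht1 : t ≠ 1) (hsA : s ∈ centralizer (A : Set G)) (htA : t ∈ centralizer (A : Set G)) :
    s = t := by
  obtain ⟨k0, hk0, hk0a⟩ := h.ex
  set k := ⁅k0, a⁆ with hkdef
  have hk : k ∈ K := commutator_mem_left h.ak hk0
  have hka : ⁅k⁻¹, a⁆ ∉ pCoreOf 2 K :=
    h.idx3.comm_not_mem h.ak hk0 hk0a (K.inv_mem hk) fun h1 => hk0a (inv_mem_iff.mp h1)
  have hWT : wOf K ≤ T := ((w_le_core K).trans h.core).trans h.le
  have hcW : ∀ x ∈ wOf K, k * x * k⁻¹ ∈ wOf K := fun x hx =>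
    mem_normalizer_conj (le_normalizer_w K hk) hx
  have h1 : ∀ x ∈ wOf K, x ∈ centralizer (A : Set G) →
      ∀ b ∈ A ⊓ Q, k * x * k⁻¹ * b = b * (k * x * k⁻¹) := by
    intro x hx hxA b hb
    have h2 : ⁅b⁻¹, k⁻¹⁆ ∈ pCoreOf 2 K := h.idx3.inf_le h.pg
      ⟨commutator_mem_left (h.kq (K.inv_mem hk)) (Q.inv_mem hb.2),
        commutator_mem_right (h.qk (Q.inv_mem hb.2)) (K.inv_mem hk)⟩
    have h3 := core_le_centralizer_w K h2 x hx
    have h4 := hxA b hb.1
    calc k * x * k⁻¹ * b = k * (x * b) * ⁅b⁻¹, k⁻¹⁆ * k⁻¹ := by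
          simp only [commutatorElement_def]; group
      _ = k * b * (x * ⁅b⁻¹, k⁻¹⁆) * k⁻¹ := by rw [← h4]; group
      _ = _ := by rw [h3]; simp only [commutatorElement_def]; group
  have h2 : ∀ x ∈ wOf K, x ∈ centralizer (A : Set G) → k * x * k⁻¹ ∈ A ⊓ Q → x = 1 := by
    intro x hx hxA hx'
    have h3 := ea_comm hA.ea ha hx'.1
    have h4 := hxA a ha
    refine h.idx3.fpf_w hx (commutator_mem_left h.ak (K.inv_mem hk)) hka ?_
    calc ⁅k⁻¹, a⁆ * x = k⁻¹ * a * k * (a⁻¹ * (x * a) * a⁻¹) := by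
          simp only [commutatorElement_def]; group
      _ = k⁻¹ * (a * (k * x * k⁻¹)) * k * a⁻¹ := by rw [← h4]; group
      _ = _ := by rw [h3]; simp only [commutatorElement_def]; group
  rcases repl_two hA (half_of_elt hA.ea (inf_le_left : A ⊓ Q ≤ A) ha fun x hx =>
      (hAa x hx).imp (fun h3 => ⟨hx, h3⟩) fun h3 => ⟨A.mul_mem ha hx, h3⟩)
    (hWT (hcW s hs)) (ea_sq (ea_w K) (hcW s hs)) (h1 s hs hsA)
    (hWT (hcW t ht)) (ea_sq (ea_w K) (hcW t ht)) (h1 t ht htA)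
    (ea_comm (ea_w K) (hcW s hs) (hcW t ht)) with h3 | h3 | h3
  · exact absurd (h2 s hs hsA h3) hs1
  · exact absurd (h2 t ht htA h3) ht1
  · rw [conj_mul] at h3
    have := h2 _ (mul_mem hs ht) (mul_mem hsA htA) h3
    rw [eq_inv_of_mul_eq_one_left this, inv_eq_of_sq (ea_sq (ea_w K) ht)]

theorem cent_of_fix (h : WData T Q K a) (hA : MaxEA 2 T A) (ha : a ∈ A)
    (hAa : ∀ x ∈ A, x ∈ Q ∨ a * x ∈ Q) {s : G} (hs : s ∈ wOf K) (hsa : a * s = s * a) :
    s ∈ centralizer (A : Set G) := by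
  by_contra hsA
  obtain ⟨s, ⟨hs, hsa, hsA⟩, hmax⟩ := (Set.toFinite _).exists_maximalFor
    (fun s : G => {x | x ∈ A ∧ x * s = s * x})
    {s | s ∈ wOf K ∧ a * s = s * a ∧ s ∉ centralizer (A : Set G)} ⟨s, hs, hsa, hsA⟩
  have hAW : A ≤ normalizer (wOf K : Set G) :=
    (hA.le_J.trans h.jk).trans (normalizer_le_normalizer_w K)
  have hWQ : wOf K ≤ Q := (w_le_core K).trans h.core
  have hs2 := ea_sq (ea_w K) hs
  have key : ∀ c ∈ A, c * s ≠ s * c → s * (c * s * c⁻¹) ∈ wOf K ∧ s * (c * s * c⁻¹) ≠ 1 ∧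
      s * (c * s * c⁻¹) ∈ centralizer (A : Set G) := by
    intro c hc hcs
    have hw := mem_normalizer_conj (hAW hc) hs
    have hcomm : ∀ x ∈ A, x * s = s * x → x * (s * (c * s * c⁻¹)) = s * (c * s * c⁻¹) * x := by
      intro x hx hxs
      have e := ea_comm hA.ea hx hc
      calc x * (s * (c * s * c⁻¹)) = (x * s) * c * s * c⁻¹ := by group
        _ = s * (x * c) * s * c⁻¹ := by rw [hxs]; group
        _ = s * c * (x * s) * c⁻¹ := by rw [e]; group
        _ = s * (c * s * c⁻¹) * (c * x) * c⁻¹ := by rw [hxs]; group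
        _ = _ := by rw [← e]; group
    refine ⟨mul_mem hs hw, fun h1 => hcs ?_, by_contra fun h1 => hcs ?_⟩
    · have := eq_inv_of_mul_eq_one_right h1
      rw [inv_eq_of_sq hs2] at this
      exact mul_inv_eq_iff_eq_mul.mp this
    · refine (hmax (j := s * (c * s * c⁻¹)) ⟨mul_mem hs hw, hcomm a ha hsa, h1⟩
        (fun x hx => ⟨hx.1, hcomm x hx.1 hx.2⟩) ⟨hc, ?_⟩).2
      calc c * (s * (c * s * c⁻¹)) = (c * s * c⁻¹) * ((c * c) * s * (c * c)⁻¹) * c := by group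
        _ = _ := by rw [ea_sq hA.ea hc, ea_comm (ea_w K) hs hw]; group
  have hhalf : Half (A ⊓ centralizer {s}) A := by
    refine ⟨inf_le_left, fun x hx y hy hxB hyB => ⟨A.mul_mem hx hy, ?_⟩⟩
    obtain ⟨h1, h2, h3⟩ := key x hx fun h1 => hxB ⟨hx, mem_centralizer_singleton_iff.mpr h1⟩
    obtain ⟨h4, h5, h6⟩ := key y hy fun h1 => hyB ⟨hy, mem_centralizer_singleton_iff.mpr h1⟩
    have h7 := mul_left_cancel (h.cent_unique hA ha hAa h1 h4 h2 h5 h3 h6)
    refine mem_centralizer_singleton_iff.mpr ?_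
    calc x * y * s = x * (y * s * y⁻¹) * y := by group
      _ = (x * x) * s * (x * x)⁻¹ * (x * y) := by rw [← h7]; group
      _ = _ := by rw [ea_sq hA.ea hx]; group
  have hc : ∀ b ∈ A ⊓ centralizer {s}, s * b = b * s := fun b hb =>
    (mem_centralizer_singleton_iff.mp hb.2).symm
  have hsB : s ∉ A ⊓ centralizer {s} := fun h1 => hsA (ea_le_centralizer hA.ea h1.1)
  have hA' := repl hA hhalf (h.le (hWQ hs)) hs2 hc hsB
  have hmem := fun x => mem_sup_zpowers_two (x := x) (mem_normalizer_of_comm hc)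
    (by rw [hs2]; exact one_mem _)
  obtain ⟨c, hc', hcs⟩ : ∃ c ∈ A, c * s ≠ s * c := by
    by_contra hcon
    push Not at hcon
    exact hsA hcon
  obtain ⟨h1, h2, h3⟩ := key c hc' hcs
  have hs1 : s ≠ 1 := by
    rintro rfl
    exact hsA (one_mem _)
  have h4 := h.cent_unique hA' (mem_sup_left ⟨ha, mem_centralizer_singleton_iff.mpr hsa⟩)
    (fun x hx => by
      rcases (hmem x).mp hx with h4 | h4
      · exact hAa x h4.1
      · rcases hAa _ h4.1 with h5 | h5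
        · exact Or.inl ((mul_mem_cancel_left (hWQ hs)).mp h5)
        · rw [← mul_assoc, hsa, mul_assoc] at h5
          exact Or.inr ((mul_mem_cancel_left (hWQ hs)).mp h5))
    hs h1 hs1 h2 (ea_le_centralizer hA'.ea (mem_sup_right (mem_zpowers s)))
    (le_centralizer_iff.mp (sup_le
      (inf_le_left.trans (le_centralizer_iff.mp (zpowers_le.mpr h3)))
      (ea_le_centralizer_of_le (ea_w K) (zpowers_le.mpr hs) (zpowers_le.mpr h1))) (mem_zpowers _))
  rw [left_eq_mul] at h4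
  exact hs1 (by simpa using h4)

theorem w_eq_four (h : WData T Q K a) (hA : MaxEA 2 T A) (ha : a ∈ A)
    (hAa : ∀ x ∈ A, x ∈ Q ∨ a * x ∈ Q) {u w : G} (hu : u ∈ wOf K) (hw : w ∈ wOf K) (hu1 : u ≠ 1)
    (hau : a * u * a⁻¹ = u) (haw : a * w * a⁻¹ = w * u) : wOf K = four u w := by
  have hU : ∀ x ∈ wOf K, a * x * a⁻¹ = x → x = 1 ∨ x = u := by
    intro x hx hax
    by_cases hx1 : x = 1
    · exact Or.inl hx1
    · exact Or.inr (h.cent_unique hA ha hAa hx hu hx1 hu1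
        (h.cent_of_fix hA ha hAa hx (mul_inv_eq_iff_eq_mul.mp hax))
        (h.cent_of_fix hA ha hAa hu (mul_inv_eq_iff_eq_mul.mp hau)))
  refine le_antisymm (fun x hx => ?_) (four_le hu hw)
  have hx' := mem_normalizer_conj (normalizer_le_normalizer_w K h.ak) hx
  have hu2 := ea_sq (ea_w K) hu
  have hw2 := ea_sq (ea_w K) hw
  have hx2 := ea_sq (ea_w K) hx
  rw [mem_four hu2 hw2 (ea_comm (ea_w K) hu hw)]
  rcases hU (x * (a * x * a⁻¹)) (mul_mem hx hx') (by
    calc a * (x * (a * x * a⁻¹)) * a⁻¹ = (a * x * a⁻¹) * ((a * a) * x * (a * a)⁻¹) := by group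
      _ = _ := by rw [ea_sq hA.ea ha, ea_comm (ea_w K) hx hx']; group) with h1 | h1
  · have := eq_inv_of_mul_eq_one_right h1
    rw [inv_eq_of_sq hx2] at this
    exact (hU x hx this).elim Or.inl fun h2 => Or.inr (Or.inl h2)
  · have h2 : a * x * a⁻¹ = x * u := by rw [← h1, ← mul_assoc x x, hx2, one_mul]
    rcases hU (x * w) (mul_mem hx hw) (by
      rw [← conj_mul, h2, haw, mul_assoc x u, ← mul_assoc u w, ea_comm (ea_w K) hu hw,
        mul_assoc w, hu2, mul_one]) with h3 | h3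
    · refine Or.inr (Or.inr (Or.inl ?_))
      rw [eq_inv_of_mul_eq_one_left h3, inv_eq_of_sq hw2]
    · refine Or.inr (Or.inr (Or.inr ?_))
      rw [← h3, mul_assoc, hw2, mul_one]

end WData

end Cfsg.Lib.Local.JC
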