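import Cfsg.Agent.Local.JBasic

/-!
The subgroup `Ω₁(Z(J(T)))` and a `J(T)`-component `K`: it meets `W_K` in a group of order two,
and is generated by this group and the elements centralizing `K`.
-/

set_option autoImplicit false

namespace Cfsg.Lib.Local.JC

open Subgroup Cfsg.Lib.Trans Cfsg.Lib.Trans.TJ Cfsg.Lib.Solv
open scoped commutatorElement

variable {G : Type*} [Group G]

/-- The elements normalizing `P` that commute with `a` modulo `P`. -/
def modCent (P : Subgroup G) (a : G) : Subgroup G where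
  carrier := {x | x ∈ normalizer (P : Set G) ∧ ⁅x, a⁆ ∈ P}
  one_mem' := ⟨one_mem _, by simp⟩
  mul_mem' := by
    rintro x y ⟨hx, hx'⟩ ⟨hy, hy'⟩
    refine ⟨mul_mem hx hy, ?_⟩
    have : ⁅x * y, a⁆ = x * ⁅y, a⁆ * x⁻¹ * ⁅x, a⁆ := by simp only [commutatorElement_def]; group
    rw [this]
    exact P.mul_mem (mem_normalizer_conj hx hy') hx'
  inv_mem' := by
    rintro x ⟨hx, hx'⟩
    refine ⟨inv_mem hx, ?_⟩
    have : ⁅x⁻¹, a⁆ = x⁻¹ * ⁅x, a⁆⁻¹ * x := by simp only [commutatorElement_def]; group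
    rw [this]
    exact mem_normalizer_conj' hx (P.inv_mem hx')

theorem mem_modCent {P : Subgroup G} {a x : G} :
    x ∈ modCent P a ↔ x ∈ normalizer (P : Set G) ∧ ⁅x, a⁆ ∈ P := Iff.rfl

theorem commutator_mem_left {P : Subgroup G} {a x : G} (ha : a ∈ normalizer (P : Set G))
    (hx : x ∈ P) : ⁅x, a⁆ ∈ P := by
  have : ⁅x, a⁆ = x * (a * x⁻¹ * a⁻¹) := by simp only [commutatorElement_def]; group
  rw [this]
  exact P.mul_mem hx (mem_normalizer_conj ha (P.inv_mem hx))

theorem commutator_mem_right {P : Subgroup G} {a x : G} (ha : a ∈ normalizer (P : Set G))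
    (hx : x ∈ P) : ⁅a, x⁆ ∈ P := by
  rw [← commutatorElement_inv]
  exact P.inv_mem (commutator_mem_left ha hx)

theorem le_modCent {P : Subgroup G} {a : G} (ha : a ∈ normalizer (P : Set G)) :
    P ≤ modCent P a := fun _ hx => ⟨le_normalizer hx, commutator_mem_left ha hx⟩

variable [Finite G]

theorem Idx3.comm_not_mem {K : Subgroup G} (h : Idx3 K) {a k k' : G}
    (ha : a ∈ normalizer (K : Set G)) (hk : k ∈ K) (hka : ⁅k, a⁆ ∉ pCoreOf 2 K) (hk' : k' ∈ K)
    (hkP : k' ∉ pCoreOf 2 K) : ⁅k', a⁆ ∉ pCoreOf 2 K := fun h1 =>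
  hka (h.le_of_mem' (le_modCent (normalizer_le_normalizer_pCoreOf K ha)) hk' hkP
    ⟨le_normalizer_pCoreOf K hk', h1⟩ hk).2

/-- An element normalizing a four-group and fixing an involution `u` of it. -/
theorem conj_four {W : Subgroup G} (hW : IsElementaryAbelian 2 W) (h4 : Nat.card W = 4) {u w x : G}
    (hu : u ∈ W) (hw : w ∈ W) (hu1 : u ≠ 1) (hw1 : w ≠ 1) (huw : u ≠ w)
    (hx : x ∈ normalizer (W : Set G)) (hxu : x * u * x⁻¹ = u) :
    x ∈ centralizer (W : Set G) ∨ (x * w * x⁻¹ = u * w ∧ x ∉ centralizer (W : Set G)) := by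
  rcases (mem_iff_of_card hW h4 hu hw hu1 hw1 huw).mp (mem_normalizer_conj hx hw) with
    h | h | h | h
  · exact absurd (by simpa using h) hw1
  · rw [← hxu] at h
    exact absurd (by simpa using h) huw.symm
  · left
    refine mem_centralizer_of_conj_eq fun t ht => ?_
    rcases (mem_iff_of_card hW h4 hu hw hu1 hw1 huw).mp ht with rfl | rfl | rfl | rfl
    · simp
    · exact hxu
    · exact h
    · rw [← conj_mul, hxu, h]
  · refine Or.inr ⟨h, fun h1 => ?_⟩
    rw [conj_eq_of_mem_centralizer h1 hw, right_eq_mul] at h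
    exact hu1 h

theorem jc_zero {T K : Subgroup G} (h : IsJComponent T K) (hT : IsPGroup 2 T) :
    ∃ u ∈ wOf K, u ≠ 1 ∧ u ∈ omegaCenterOf (J T) ∧ wOf K ≤ J T ∧
      (∀ x ∈ wOf K, x ∈ centralizer (J T : Set G) → x = 1 ∨ x = u) ∧
      ∀ z ∈ omegaCenterOf (J T), z ∈ centralizer (K : Set G) ∨ z * u ∈ centralizer (K : Set G) := by
  have hp := jc_pre h
  have h3 := hp.idx3
  obtain ⟨S, hS, hJS, e⟩ := jc_exists_syl h hT
  have hJ2 : IsPGroup 2 (J T) := hT.to_le (J_le T)
  have hHK : K ⊔ J T ≤ normalizer (K : Set G) := sup_le le_normalizer hp.J_le_normalizer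
  have hHW := hHK.trans (normalizer_le_normalizer_w K)
  have hPS : pCoreOf 2 K ≤ S := (pCoreOf_le_of_normal le_sup_left hHK).trans (pCoreOf_le_sylowIn hS)
  have hWS : wOf K ≤ S := (w_le_core K).trans hPS
  set C := (K ⊔ J T) ⊓ centralizer (wOf K : Set G) with hC
  have hHC : K ⊔ J T ≤ normalizer (C : Set G) :=
    PG.le_normalizer_inf le_normalizer (PG.le_normalizer_centralizer hHW)
  have hC2 : IsPGroup 2 C := by
    refine isPGroup_of_resOf_le (isPGroup_pCoreOf K) ?_
    rw [← h3.inf_centralizer_w hp.w_ne_bot]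
    refine le_inf ?_ ((resOf_le C).trans inf_le_right)
    have := resOf_mono (p := 2) (inf_le_left : C ≤ K ⊔ J T)
    rwa [resOf_sup_of_isPGroup hJ2 hp.J_le_normalizer, h3.res] at this
  have hCS : C ≤ S := hS.le_of_normal hC2 inf_le_left hHC
  obtain ⟨A, hA, a, ha, k, hk, hka⟩ := hp.exists_maxEA
  have hAS : MaxEA 2 S A := (maxEA_congr e).mpr hA
  have haK : a ∈ normalizer (K : Set G) := hp.J_le_normalizer (hA.le_J ha)
  have haC : a ∉ centralizer (wOf K : Set G) := fun h1 => hka (by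
    rw [← h3.inf_centralizer_w hp.w_ne_bot]
    exact ⟨commutator_mem_left haK hk, commutator_mem_right
      (PG.le_normalizer_centralizer (le_normalizer_w K) hk) h1⟩)
  obtain ⟨u, ⟨hu, huJ⟩, hu1⟩ := (Subgroup.bot_or_exists_ne_one _).resolve_left
    (PG.inf_centralizer_ne_bot hJ2 (ea_isPGroup (ea_w K)) (le_sup_right.trans hHW) hp.w_ne_bot)
  set k' := ⁅k, a⁆ with hk'def
  have hk' : k' ∈ K := commutator_mem_left haK hk
  set w := k' * u * k'⁻¹ with hwdef
  have hw : w ∈ wOf K := mem_normalizer_conj (le_normalizer_w K hk') hu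
  have hw1 : w ≠ 1 := fun h1 => hu1 (by simpa [hwdef] using h1)
  have huw : u ≠ w := fun h1 => hu1 (h3.fpf_w hu hk' hka (mul_inv_eq_iff_eq_mul.mp h1.symm))
  have hact : ∀ x ∈ J T, x ∈ centralizer (wOf K : Set G) ∨
      (x * w * x⁻¹ = u * w ∧ x ∉ centralizer (wOf K : Set G)) := fun x hx =>
    conj_four (ea_w K) hp.card hu hw hu1 hw1 huw (hHW (mem_sup_right hx))
      (by rw [huJ x hx, mul_inv_cancel_right])
  have haw : a * w * a⁻¹ = u * w := ((hact a (hA.le_J ha)).resolve_left haC).1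
  have hu2 := ea_sq (ea_w K) hu
  have hhalf : Half (A ⊓ centralizer (wOf K : Set G)) A := by
    refine ⟨inf_le_left, fun x hx y hy hxB hyB => ⟨A.mul_mem hx hy, ?_⟩⟩
    have h1 := ((hact x (hA.le_J hx)).resolve_left fun h1 => hxB ⟨hx, h1⟩).1
    have h2 := ((hact y (hA.le_J hy)).resolve_left fun h1 => hyB ⟨hy, h1⟩).1
    refine (hact _ (hA.le_J (A.mul_mem hx hy))).resolve_right fun h4 => hu1 ?_
    have h5 : x * y * w * (x * y)⁻¹ = w := by
      calc x * y * w * (x * y)⁻¹ = x * (y * w * y⁻¹) * x⁻¹ := by group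
        _ = (x * u * x⁻¹) * (x * w * x⁻¹) := by rw [h2]; group
        _ = w := by
          rw [h1, huJ x (hA.le_J hx), mul_inv_cancel_right, ← mul_assoc, hu2, one_mul]
    have := h4.1
    rwa [h5, right_eq_mul] at this
  have hwB : w ∉ A ⊓ centralizer (wOf K : Set G) := fun h1 => by
    rw [ea_comm hA.ea ha h1.1, mul_inv_cancel_right, right_eq_mul] at haw
    exact hu1 haw
  have hcw : ∀ b ∈ A ⊓ centralizer (wOf K : Set G), w * b = b * w := fun b hb => hb.2 w hw
  have hA' := repl hAS hhalf (hWS hw) (ea_sq (ea_w K) hw) hcw hwB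
  have huA : u ∈ A := hAS.mem_of_mem_centralizer (hWS hu) (centralizer_le hA.le_J huJ)
    (by rwa [pow_two])
  have hA'C : (A ⊓ centralizer (wOf K : Set G)) ⊔ zpowers w ≤ C := by
    refine sup_le (inf_le_inf_right _ (hA.le_J.trans le_sup_right)) (zpowers_le.mpr ?_)
    exact ⟨mem_sup_left (w_le K hw), ea_le_centralizer (ea_w K) hw⟩
  have hu0 : u ∈ omegaCenterOf (J T) := mem_oc.mpr ⟨hA.le_J huA, huJ, hu2⟩
  refine ⟨u, hu, hu1, hu0, ?_, fun x hx hxJ => ?_, fun z hz => ?_⟩
  · rw [← four_eq_of_card (ea_w K) hp.card hu hw hu1 hw1 huw]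
    exact four_le (hA.le_J huA) (e ▸ hA'.le_J (mem_sup_right (mem_zpowers w)))
  · have h1 : a * x * a⁻¹ = x := by rw [hxJ a (hA.le_J ha), mul_inv_cancel_right]
    rcases (mem_iff_of_card (ea_w K) hp.card hu hw hu1 hw1 huw).mp hx with h2 | h2 | h2 | h2
    · exact Or.inl h2
    · exact Or.inr h2
    · rw [h2, haw, mul_eq_right] at h1
      exact absurd h1 hu1
    · rw [h2, ← conj_mul, haw, huJ a (hA.le_J ha), mul_inv_cancel_right, mul_right_inj,
        mul_eq_right] at h1
      exact absurd h1 hu1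
  · have hJC : J C ≤ J T := e ▸ J_le_J_of_maxEA_le hA' hA'C hCS
    have hA'' := hA'.of_le hA'C hCS
    have hN1 : K ⊔ J T ≤ normalizer (omegaCenterOf (J C) : Set G) :=
      (hHC.trans (normalizer_le_normalizer_J C)).trans (normalizer_le_normalizer_oc _)
    have hz1 : z ∈ omegaCenterOf (J C) :=
      mem_oc.mpr ⟨hA''.le_J (oc_J_le hA' (e ▸ hz)), centralizer_le hJC (oc_le_centralizer _ hz),
        oc_sq hz⟩
    have hcomm : ∀ y ∈ omegaCenterOf (J C), ⁅a, y⁆ ∈ wOf K := by
      intro y hy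
      rcases (mem_sup_zpowers_two (mem_normalizer_of_comm hcw)
        (by rw [ea_sq (ea_w K) hw]; exact one_mem _)).mp (oc_J_le hA'' hy) with h1 | h1
      · rw [commutatorElement_eq_one_iff_mul_comm.mpr (ea_comm hA.ea ha h1.1)]
        exact one_mem _
      · have h2 := ea_comm hA.ea ha h1.1
        have : ⁅a, y⁆ = (a * w * a⁻¹)⁻¹ * w := by
          calc ⁅a, y⁆ = (a * w * a⁻¹)⁻¹ * (a * (w * y)) * a⁻¹ * y⁻¹ := by
                simp only [commutatorElement_def]; group
            _ = _ := by rw [h2]; group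
        rw [this]
        exact mul_mem (inv_mem (mem_normalizer_conj (hHW (mem_sup_right (hA.le_J ha))) hw)) hw
    have haW : a ∈ normalizer (wOf K : Set G) := hHW (mem_sup_right (hA.le_J ha))
    have hkW : k ∈ normalizer (wOf K : Set G) := le_normalizer_w K hk
    have hm1 : a ∈ modCent (wOf K) z := ⟨haW, hcomm z hz1⟩
    have hm2 : k * a * k⁻¹ ∈ modCent (wOf K) z := by
      refine ⟨mul_mem (mul_mem hkW haW) (inv_mem hkW), ?_⟩
      have : ⁅k * a * k⁻¹, z⁆ = k * ⁅a, k⁻¹ * z * k⁆ * k⁻¹ := by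
        simp only [commutatorElement_def]; group
      rw [this]
      exact mem_normalizer_conj hkW (hcomm _ (mem_normalizer_conj' (hN1 (mem_sup_left hk)) hz1))
    have ht : ⁅k', z⁆ ∈ wOf K := (mul_mem hm2 (inv_mem hm1)).2
    have hX : K ≤ J T ⊔ cj k' (J T) := by
      have hPJ : pCoreOf 2 K ≤ normalizer (J T : Set G) := e ▸ hPS.trans (le_normalizer_J S)
      refine h3.le_of_mem (PG.le_normalizer_sup hPJ ?_) (commutator_mem_left haK hk')
        (h3.comm_not_mem haK hk hka hk' hka) ?_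
      · rw [← cj_normalizer, ← cj_eq_of_mem_normalizer (le_normalizer_pCoreOf K hk')]
        exact cj_mono _ hPJ
      · exact mul_mem (mem_sup_right (conj_mem_cj.mpr (hA.le_J ha)))
          (mem_sup_left (inv_mem (hA.le_J ha)))
    have hfin : ∀ y ∈ omegaCenterOf (J T), y ∈ cj k' (omegaCenterOf (J T)) →
        y ∈ centralizer (K : Set G) := by
      intro y hy hy'
      rw [cj_oc] at hy'
      refine le_centralizer_iff.mp (hX.trans (sup_le ?_ ?_)) (mem_zpowers y)
      · exact le_centralizer_iff.mp (zpowers_le.mpr (oc_le_centralizer _ hy))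
      · exact le_centralizer_iff.mp (zpowers_le.mpr (oc_le_centralizer _ hy'))
    have hzk : k' * z * k'⁻¹ ∈ cj k' (omegaCenterOf (J T)) := conj_mem_cj.mpr hz
    have hwk : w ∈ cj k' (omegaCenterOf (J T)) := conj_mem_cj.mpr hu0
    have ez : k' * z * k'⁻¹ = ⁅k', z⁆ * z := by simp only [commutatorElement_def]; group
    have huz : u * z = z * u := ea_comm (ea_oc _) hu0 hz
    rw [ez] at hzk
    rcases (mem_iff_of_card (ea_w K) hp.card hu hw hu1 hw1 huw).mp ht with h2 | h2 | h2 | h2 <;>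
      rw [h2] at hzk
    · exact Or.inl (hfin z hz (by rwa [one_mul] at hzk))
    · exact Or.inr (hfin _ (mul_mem hz hu0) (by rwa [← huz]))
    · exact Or.inl (hfin z hz ((mul_mem_cancel_left hwk).mp hzk))
    · refine Or.inr (hfin _ (mul_mem hz hu0) ?_)
      rw [ea_comm (ea_w K) hu hw, mul_assoc, huz] at hzk
      exact (mul_mem_cancel_left hwk).mp hzk

end Cfsg.Lib.Local.JC
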