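/- The case of the field with four elements: a subgroup of `GL₄(2)` containing a non-normal natural `SL₂(4)` whose
normaliser has odd index is `A₇`. -/
import Cfsg.Agent.Local.NatSylB
import Cfsg.Agent.S2553
import Cfsg.Agent.S5944
import Cfsg.Agent.CITCor.NatMod
import Cfsg.Agent.Class.SubquotRep
import Cfsg.Agent.Class.NegOne
import Cfsg.Agent.Solv.ElemAb

namespace Cfsg.Lib.NatSyl

open Cfsg.Lib.Chev.Core Matrix Subgroup
open scoped Pointwise

theorem injective_toPermHom {Y : Type*} [Group Y] {N : Subgroup Y} (h : N.normalCore = ⊥) :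
    Function.Injective (MulAction.toPermHom Y (Y ⧸ N)) := by
  rw [← MonoidHom.ker_eq_bot_iff, ← Subgroup.normalCore_eq_ker, h]

/-- A core-free subgroup of index `n + 1` acts faithfully on `n` points. -/
theorem exists_perm_of_index {Z : Type*} [Group Z] {K : Subgroup Z} (h3 : K.normalCore = ⊥) {n : ℕ}
    (h2 : K.index = n + 1) : ∃ f : K →* Equiv.Perm (Fin n), Function.Injective f := by
  have : Finite (Z ⧸ K) := Nat.finite_of_card_ne_zero (by rw [← index_eq_card, h2]; omega)
  let a : Z ⧸ K := ((1 : Z) : _ ⧸ _)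
  have h4 : MulAction.stabilizer Z a = K := MulAction.stabilizer_quotient _
  classical
  have h6 : ∀ g : K, (g : Z) • a = a := fun g => MulAction.mem_stabilizer_iff.1 (h4.symm ▸ g.2)
  have h5 : Nat.card {x : Z ⧸ K // x ≠ a} = n := by
    have := Fintype.ofFinite (Z ⧸ K)
    rw [Nat.card_eq_fintype_card, Fintype.card_subtype_compl, Fintype.card_subtype_eq,
      ← Nat.card_eq_fintype_card, ← index_eq_card, h2]
    rfl
  let e : {x : Z ⧸ K // x ≠ a} ≃ Fin n := Finite.equivFinOfCardEq h5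
  let f : K →* Equiv.Perm {x : Z ⧸ K // x ≠ a} :=
    { toFun := fun g => (MulAction.toPerm (g : Z)).subtypePerm fun x => by
        rw [MulAction.toPerm_apply, Ne, Ne, smul_eq_iff_eq_inv_smul, ← coe_inv, h6]
      map_one' := Equiv.ext fun x => Subtype.ext (one_smul Z x.1)
      map_mul' := fun g h => Equiv.ext fun x => Subtype.ext (mul_smul (g : Z) (h : Z) x.1) }
  have hf : Function.Injective f := by
    rw [injective_iff_map_eq_one]
    intro g hg
    refine Subtype.ext ((injective_iff_map_eq_one _).1 (injective_toPermHom h3) _ (Equiv.ext fun x => ?_))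
    by_cases hx : x = a
    · rw [hx]
      exact h6 g
    · exact congrArg Subtype.val (DFunLike.congr_fun hg ⟨x, hx⟩)
  exact ⟨e.permCongrHom.toMonoidHom.comp f, e.permCongrHom.injective.comp hf⟩

/-- A subgroup of order `2520` of `A₈` is `A₇`. -/
theorem nonempty_equiv_A7 {Y : Type*} [Group Y] (φ : Y →* alternatingGroup (Fin 8)) (hφ : Function.Injective φ)
    (hc : Nat.card Y = 2520) : Nonempty (Y ≃* alternatingGroup (Fin 7)) := by
  classical
  have h0 : Nat.card φ.range = 2520 := by rw [← hc]; exact (Nat.card_congr (MonoidHom.ofInjective hφ).toEquiv).symm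
  have h1 := φ.range.card_mul_index
  rw [Agent.S2553.card_A8, h0] at h1
  have h2 : φ.range.index = 8 := by omega
  have h3 : φ.range.normalCore = ⊥ := by
    refine (IsSimpleGroup.eq_bot_or_eq_top_of_normal _ inferInstance).resolve_right fun h => ?_
    have := φ.range.normalCore_le
    rw [h, top_le_iff] at this
    rw [this, index_top] at h2
    omega
  obtain ⟨f, hf⟩ := exists_perm_of_index h3 h2
  obtain ⟨e1⟩ := Class.nonempty_equiv_alternatingGroup f hf (by rw [h0]; rfl)
  exact ⟨(MonoidHom.ofInjective hφ).trans e1⟩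

theorem false_of_840 {Y : Type*} [Group Y] {N : Subgroup Y} (h : N.normalCore = ⊥) (hN : N.index = 7)
    (hc : Nat.card Y = 840) : False := by
  have : Finite (Y ⧸ N) := Nat.finite_of_card_ne_zero (by rw [← index_eq_card, hN]; omega)
  let e : (Y ⧸ N) ≃ Fin 7 := Finite.equivFinOfCardEq hN
  let f := e.permCongrHom.toMonoidHom.comp (MulAction.toPermHom Y (Y ⧸ N))
  have hf : Function.Injective f := e.permCongrHom.injective.comp (injective_toPermHom h)
  have h0 : Nat.card f.range = 840 := by rw [← hc]; exact (Nat.card_congr (MonoidHom.ofInjective hf).toEquiv).symm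
  have h1 := f.range.card_mul_index
  rw [h0, Nat.card_perm, Nat.card_eq_fintype_card (α := Fin 7), Fintype.card_fin,
    show Nat.factorial 7 = 5040 from rfl] at h1
  have h2 : f.range.index = 6 := by omega
  have := Agent.S5944.result 7 (by omega) f.range (fun h => by rw [h, index_top] at h2; omega)
    (fun h => by rw [h, alternatingGroup.index_eq_two] at h2; omega)
  omega

theorem arith_cases {r m : ℕ} (d8 : r * m ∣ 21) (h0 : ¬ 2 ∣ m) (h1 : m ≠ 1) (h3 : m ≠ 3) (h21 : r * m ≠ 21) :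
    r = 1 ∧ m = 7 := by
  have h3 := Nat.le_of_dvd (by norm_num) ((Dvd.intro_left _ rfl).trans d8)
  have h6 := Nat.le_of_dvd (by norm_num) ((Dvd.intro _ rfl).trans d8)
  interval_cases m <;> interval_cases r <;> omega

theorem hom_cases {F : Type*} [Field F] [Fintype F] (h4 : Fintype.card F = 4) (h2 : (2 : F) = 0) (σ : F →+* F) :
    (∀ c, σ c = c) ∨ ∀ c, σ c = c ^ 2 := by
  have hq : ∀ c : F, c ≠ 0 → c ≠ 1 → c ^ 2 + c + 1 = 0 := fun c h0 h1 => by
    have := FiniteField.pow_card c
    rw [h4] at this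
    have h3 : c * (c - 1) * (c ^ 2 + c + 1) = 0 := by linear_combination this
    simpa [h0, sub_eq_zero, h1] using h3
  have hr : ∀ c d : F, c ^ 2 + c + 1 = 0 → d ^ 2 + d + 1 = 0 → d = c ∨ d = c + 1 := fun c d hc hd => by
    have h3 : (d - c) * (d - (c + 1)) = 0 := by linear_combination hc + hd + (c ^ 2 - c ^ 2 - d * c - d - 1) * h2
    simpa [sub_eq_zero] using h3
  rw [or_iff_not_imp_left]
  intro hσ c
  by_cases h0 : c = 0
  · simp [h0]
  by_cases h1 : c = 1
  · simp [h1]
  have hc := hq c h0 h1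
  have hs : σ c ^ 2 + σ c + 1 = 0 := by simpa using congrArg σ hc
  rcases hr c _ hc hs with h | h
  · refine absurd (fun d => ?_) hσ
    by_cases d0 : d = 0
    · simp [d0]
    by_cases d1 : d = 1
    · simp [d1]
    rcases hr c d hc (hq d d0 d1) with rfl | rfl
    · exact h
    · rw [map_add, map_one, h]
  · rw [h]
    linear_combination (c + 1) * h2 - hc

variable {F : Type*} [Field F] {Γ : Type*} [Group Γ] [DistribMulAction Γ (Fin 2 → F)]
variable {θ : SpecialLinearGroup (Fin 2) F →* Γ}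
variable [Finite Γ] [Fintype F] {p : ℕ} [hp : Fact p.Prime] [CharP F p] {T : Sylow p Γ}

theorem Cfg.card_Q (H : Cfg θ p T) : Nat.card (Q Γ (line F)) = Fintype.card F := by
  rw [← Nat.card_eq_fintype_card]
  refine (Nat.card_eq_of_bijective (fun c : F => (⟨_, H.sl2U_mem c⟩ : Q Γ (line F))) ⟨fun a b h => ?_, ?_⟩).symm
  · have := congrArg (fun s : SpecialLinearGroup (Fin 2) F => s 0 1) (H.injective (congrArg Subtype.val h))
    simpa [sl2U] using this
  · rintro ⟨a, ha⟩
    obtain ⟨c, rfl⟩ := H.eq_of_mem_Q ha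
    exact ⟨c, rfl⟩

theorem Cfg.card_eq_eight (H : Cfg θ p T) (h4 : Fintype.card F = 4) (h2 : (2 : F) = 0) {a : Γ} (haT : a ∈ T)
    (ha : a ∉ Q Γ (line F)) : Nat.card T = 8 := by
  obtain ⟨u, hu, hu1, huT⟩ := H.exists_fixed
  have hle : Q Γ (line F) ≤ T := fun x hx => by
    obtain ⟨c, rfl⟩ := H.eq_of_mem_Q hx
    exact H.mem c
  have key : ∀ t ∈ T, (∀ c : F, t • (c • u) = c • u) → t ∈ Q Γ (line F) := fun t ht h => by
    obtain ⟨c, rfl⟩ := H.eq_sl2U ht fun w hw => by
      obtain ⟨c, rfl⟩ := eq_smul_of_line hu hu1 hw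
      exact h c
    exact H.sl2U_mem c
  have frob : ∀ t ∈ T, t ∉ Q Γ (line F) → ∀ c : F, t • (c • u) = c ^ 2 • u := fun t ht h c => by
    obtain ⟨σ, hσ⟩ := H.semilinear (H.le ht)
    rcases hom_cases h4 h2 σ with h1 | h1
    · exact absurd (key t ht fun c => by rw [hσ, h1, huT t ht]) h
    · rw [hσ, h1, huT t ht]
  have h1 : ((Q Γ (line F)).subgroupOf T).index = 2 := by
    rw [index_eq_two_iff]
    refine ⟨⟨a, haT⟩, fun b => ?_⟩
    by_cases hb : (b : Γ) ∈ Q Γ (line F)
    · exact Or.inr ⟨hb, fun h => ha ((mul_mem_cancel_left hb).1 h)⟩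
    · refine Or.inl ⟨key ((b : Γ) * a) (mul_mem b.2 haT) fun c => ?_, hb⟩
      rw [mul_smul, frob a haT ha, frob b b.2 hb, ← pow_mul, ← show Fintype.card F = 2 * 2 from h4,
        FiniteField.pow_card]
  have h3 := ((Q Γ (line F)).subgroupOf T).card_mul_index
  rw [h1, Nat.card_congr (subgroupOfEquivOfLe hle).toEquiv, H.card_Q, h4] at h3
  exact h3.symm

theorem Cfg.normal_of_le (H : Cfg θ p T) (h : θ.range ≤ (normalizer (θ.range : Set Γ)).normalCore) :
    θ.range.Normal := by
  set N := normalizer (θ.range : Set Γ)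
  refine normal_of_conj fun g c => ?_
  have h1 : ∀ c, g * θ (sl2U c) * g⁻¹ ∈ N := fun c => h ⟨sl2U c, rfl⟩ g
  obtain ⟨n, hn⟩ := exists_conj_le (T.subtype H.le)
    (P := (Q Γ (g • line F)).subgroupOf N) (H.isPGroup_Q p _).comap_subtype
  have h2 : ((n : Γ) * g) • line F = line F := H.smul_line fun c => by
    have : (n : Γ) * (g * θ (sl2U c) * g⁻¹) * (n : Γ)⁻¹ ∈ T := hn ⟨_, h1 c⟩ (conj_mem_Q (H.sl2U_mem c) g)
    simpa [mul_assoc] using this
  have h3 := conj_mem_Q (H.sl2U_mem c) ((n : Γ) * g)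
  rw [h2] at h3
  obtain ⟨d, hd⟩ := H.eq_of_mem_Q h3
  refine (mem_normalizer_iff.1 n.2 _).2 ⟨sl2U d, ?_⟩
  rw [← hd]
  group

theorem exists_hom_A8 (H : NatAct θ) (h4 : Fintype.card F = 4) (h2 : (2 : F) = 0) :
    ∃ φ : Γ →* alternatingGroup (Fin 8), Function.Injective φ := by
  have : Solv.ElemAb 2 (Multiplicative (Fin 2 → F)) := ⟨mul_comm, fun a => by
    refine Multiplicative.toAdd.injective (funext fun i => ?_)
    simp [h2]⟩
  obtain ⟨e0⟩ := Solv.Vec.nonempty_autEquivGL (p := 2) (V := Multiplicative (Fin 2 → F)) (n := 4) (by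
    rw [Nat.card_congr Multiplicative.toAdd, Nat.card_fun, Nat.card_eq_fintype_card, h4]
    simp)
  obtain ⟨e1⟩ := Agent.S2553.nonempty_psl_equiv 3
  obtain ⟨e2⟩ := Agent.S0256.result (ZMod.card 2)
  let f : Γ →* MulAut (Multiplicative (Fin 2 → F)) :=
    { toFun := fun g => AddEquiv.toMultiplicative (DistribMulAction.toAddEquiv _ g)
      map_one' := MulEquiv.ext fun w => one_smul Γ (Multiplicative.toAdd w)
      map_mul' := fun g h => MulEquiv.ext fun w => mul_smul g h (Multiplicative.toAdd w) }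
  have hf : Function.Injective f := by
    rw [injective_iff_map_eq_one]
    exact fun g hg => H.faith g fun w => DFunLike.congr_fun hg (Multiplicative.ofAdd w)
  exact ⟨(e0.trans (e1.symm.trans e2)).toMonoidHom.comp f, (e0.trans (e1.symm.trans e2)).injective.comp hf⟩

theorem NatAct.normal_or (H : NatAct θ) (hind : ¬ p ∣ (normalizer (θ.range : Set Γ)).index) :
    θ.range.Normal ∨ (Fintype.card F = 4 ∧ Nonempty (Γ ≃* alternatingGroup (Fin 7))) := by
  obtain ⟨T, hT1, hT2⟩ := H.exists_sylow p hind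
  have C : Cfg θ p T := ⟨H, hT1, hT2⟩
  rw [or_iff_not_imp_left]
  intro hn
  obtain ⟨h4, h2, a, haT, ha⟩ := C.normal_or.resolve_left hn
  refine ⟨h4, ?_⟩
  obtain rfl : p = 2 := (Nat.prime_dvd_prime_iff_eq hp.out Nat.prime_two).1
    ((CharP.cast_eq_zero_iff F p 2).1 (by exact_mod_cast h2))
  obtain ⟨φ, hφ⟩ := exists_hom_A8 H h4 h2
  have h8 := C.card_eq_eight h4 h2 haT ha
  have hS : Nat.card (SpecialLinearGroup (Fin 2) F) = 60 := Class.card_SL_fin_two h4
  have hS' : Nat.card θ.range = 60 := by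
    rw [← hS]; exact (Nat.card_congr (MonoidHom.ofInjective H.injective).toEquiv).symm
  set N := normalizer (θ.range : Set Γ) with hN
  have d1 : 60 ∣ Nat.card N := hS' ▸ card_dvd_of_le le_normalizer
  have d2 : 8 ∣ Nat.card N := h8 ▸ card_dvd_of_le hT1
  obtain ⟨r, hr⟩ : 120 ∣ Nat.card N := Nat.lcm_dvd d1 d2
  have d3 := N.card_mul_index
  have d4 := (T : Subgroup Γ).card_mul_index
  have d5 : Nat.card Γ ∣ 20160 := Agent.S2553.card_dvd φ hφ
  have d6 := T.not_dvd_index
  have d7 : (T : Subgroup Γ).index ∣ 315 := by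
    have : (T : Subgroup Γ).index ∣ 2 ^ 6 * 315 := (Dvd.intro_left _ d4).trans d5
    exact (Nat.Coprime.pow_right 6 ((Nat.Prime.coprime_iff_not_dvd Nat.prime_two).2 d6).symm).dvd_of_dvd_mul_left this
  rw [h8] at d4
  have d8 : r * N.index ∣ 21 := by
    have : 120 * (r * N.index) ∣ 120 * 21 := by
      rw [← mul_assoc, ← hr, d3, ← d4]
      exact Nat.mul_dvd_mul_left 8 d7
    exact Nat.dvd_of_mul_dvd_mul_left (by norm_num) this
  have hm1 : N.index ≠ 1 := fun h => hn (normalizer_eq_top_iff.1 (index_eq_one.1 h))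
  have hsimple := (CITCor.simple_SL2 h2 h4.ge).1
  have hK : N.normalCore.comap θ = ⊥ := by
    refine (IsSimpleGroup.eq_bot_or_eq_top_of_normal _ inferInstance).resolve_right fun h => hn ?_
    refine C.normal_of_le ?_
    rintro _ ⟨s, rfl⟩
    have : s ∈ N.normalCore.comap θ := h ▸ mem_top s
    exact this
  have hK' : ∀ z ∈ N.normalCore, z ∈ θ.range → z = 1 := by
    rintro _ hz ⟨s, rfl⟩
    have : s ∈ N.normalCore.comap θ := hz
    rw [hK, mem_bot] at this
    rw [this, map_one]
  have hm3 : N.index ≠ 3 := fun h => by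
    have : Finite (Γ ⧸ N) := inferInstance
    have h6 : Function.Injective ((MulAction.toPermHom Γ (Γ ⧸ N)).comp θ) := by
      rw [← MonoidHom.ker_eq_bot_iff, ← MonoidHom.comap_ker, ← normalCore_eq_ker, hK]
    have := Nat.card_le_card_of_injective _ h6
    rw [hS, Nat.card_perm, ← index_eq_card, h] at this
    exact absurd this (by decide)
  refine nonempty_equiv_A7 φ hφ ?_
  by_contra hc
  have hr21 : r * N.index ≠ 21 := fun h => hc (by rw [← d3, hr, mul_assoc, h]; rfl)
  obtain ⟨rfl, h7⟩ := arith_cases d8 hind hm1 hm3 hr21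
  refine false_of_840 ?_ h7 (by rw [← d3, hr, h7])
  rw [eq_bot_iff]
  intro z hz
  have hzN : z ∈ N := N.normalCore_le hz
  have hi : (θ.range.subgroupOf N).index = 2 := by
    have := (θ.range.subgroupOf N).card_mul_index
    rw [Nat.card_congr (subgroupOfEquivOfLe le_normalizer).toEquiv, hS', hr] at this
    omega
  have hz2 : z * z = 1 := hK' _ (mul_mem hz hz) (mul_self_mem_of_index_two hi ⟨z, hzN⟩)
  obtain ⟨k, hk⟩ := H.scalar (z := z) fun s => by
    have h1 : z * θ s * z⁻¹ * (θ s)⁻¹ ∈ θ.range :=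
      mul_mem ((mem_normalizer_iff.1 hzN _).1 ⟨s, rfl⟩) (inv_mem ⟨s, rfl⟩)
    have h3 : z * θ s * z⁻¹ * (θ s)⁻¹ ∈ N.normalCore := by
      have := mul_mem hz ((inferInstance : N.normalCore.Normal).conj_mem _ (inv_mem hz) (θ s))
      simpa [mul_assoc] using this
    have := hK' _ h3 h1
    rwa [mul_inv_eq_one, mul_inv_eq_iff_eq_mul] at this
  have hk2 : k * k = 1 := by
    have h1 : (z * z) • (![1, 0] : Fin 2 → F) = ![1, 0] := by rw [hz2, one_smul]
    rw [mul_smul, hk, hk] at h1
    simpa using congrFun h1 0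
  have hk1 : k = 1 := by
    have : (k - 1) ^ 2 = 0 := by linear_combination hk2 + (1 - k) * h2
    exact sub_eq_zero.1 (pow_eq_zero_iff two_ne_zero |>.1 this)
  exact H.faith z fun w => by rw [hk, hk1, one_smul]

end Cfsg.Lib.NatSyl
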