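import Cfsg.Agent.Local.PCoreOf
import Cfsg.Agent.Solv.MinNormal

/-!
# Wielandt: a Sylow subgroup of a join of subnormal subgroups
-/

set_option autoImplicit false
set_option linter.unusedSectionVars false

namespace Cfsg.Lib.Local.MSS

open Subgroup Cfsg Cfsg.Lib.Solv Cfsg.Lib.Trans
open Cfsg.Lib.Local (resOf)
open scoped Pointwise commutatorElement

universe u

section
variable {G : Type*} [Group G] [Finite G] {p : ℕ} [hp : Fact p.Prime]

theorem map_inf_of_isSylowIn {G' : Type*} [Group G'] (f : G →* G') {S A : Subgroup G}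
    (hS : IsPGroup p S) (h : IsSylowIn p (S ⊓ A) A) : (S ⊓ A).map f = S.map f ⊓ A.map f :=
  ((h.map f).eq_inf (hS.map f) (map_mono inf_le_left)).symm

theorem eq_bot_of_isSubnormal_of_coprime (h : pPrimeCore p G = ⊥) {X : Subgroup G}
    (hX : X.IsSubnormal) (hc : (Nat.card X).Coprime p) : X = ⊥ :=
  le_bot_iff.1 (h ▸ le_pPrimeCore_of_isSubnormal hX hc)

/-- If `O_{p'}(G) = 1`, `K` is normal and `A` is subnormal with `A ∩ K = 1`, then `O^p(A)`
centralizes `K`. -/
theorem resOf_le_centralizer_of_inf_eq_bot (h : pPrimeCore p G = ⊥) {A K : Subgroup G} [K.Normal]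
    (hA : A.IsSubnormal) (hAK : A ⊓ K = ⊥) : resOf p A ≤ centralizer (K : Set G) := by
  rw [resOf_le_iff]
  intro a ha hc
  have hX : zpowers a ≤ A := zpowers_le.2 ha
  have hn : zpowers a ≤ normalizer (K : Set G) := by rw [normalizer_eq_top]; exact le_top
  have e : (K ⊔ zpowers a) ⊓ A = zpowers a := by
    rw [sup_inf_assoc_of_le_normalizer' hn hX, inf_comm, hAK, bot_sup_eq]
  have hs : SubnormalIn (zpowers a) (K ⊔ zpowers a) := by
    have := (SubnormalIn.top_iff.2 hA).inf_left (K ⊔ zpowers a)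
    rwa [e, inf_top_eq] at this
  set H := K ⊔ zpowers a with hH
  set Y := (pPrimeCore p H).map H.subtype with hY
  have h1 : zpowers a ≤ Y := by
    have h2 : (zpowers a).subgroupOf H ≤ pPrimeCore p H :=
      le_pPrimeCore_of_isSubnormal hs.2 (by
        rw [card_subgroupOf_of_le hs.le, Nat.card_zpowers]; exact hc)
    have := map_mono (f := H.subtype) h2
    rwa [map_subgroupOf_eq_of_le hs.le] at this
  have hHY : H ≤ normalizer (Y : Set G) := le_normalizer_map_subtype _
  have h3 : K ⊓ Y = ⊥ := by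
    refine eq_bot_of_isSubnormal_of_coprime h ?_
      (Nat.Coprime.coprime_dvd_left (card_dvd_of_le inf_le_right) (coprime_card_map_pPrimeCore p H))
    exact (SubnormalIn.of_le_normalizer inf_le_left
      (le_normalizer_inf Subgroup.le_normalizer (le_sup_left.trans hHY))).isSubnormal
      (Normal.isSubnormal inferInstance)
  have h4 : ⁅K, zpowers a⁆ = ⊥ := by
    rw [eq_bot_iff, ← h3]
    exact le_inf (commutator_le_left_of_le_normalizer hn) ((commutator_mono le_rfl h1).trans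
      (commutator_le_right_of_le_normalizer (le_sup_left.trans hHY)))
  exact commutator_eq_bot_iff_le_centralizer'.1 h4 (mem_zpowers a)

theorem resOf_le_centralizer_of_inf_eq_bot' (h : pPrimeCore p G = ⊥) {A B N M : Subgroup G}
    [N.Normal] [M.Normal] (hA : A.IsSubnormal) (hAN : A ≤ N) (hBM : B ≤ M) (hAM : A ⊓ M = ⊥) :
    resOf p A ≤ centralizer (B : Set G) := by
  have h1 : resOf p A ≤ centralizer ((N ⊓ M : Subgroup G) : Set G) :=
    resOf_le_centralizer_of_inf_eq_bot h hA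
      (le_bot_iff.1 (hAM ▸ inf_le_inf_left _ inf_le_right))
  rw [resOf_le_iff]
  intro a ha hc b hb
  have haC := h1 (mem_resOf ha hc)
  have : (centralizer ((N ⊓ M : Subgroup G) : Set G)).Normal := normal_centralizer
  have hbC : b * a * b⁻¹ ∈ centralizer ((N ⊓ M : Subgroup G) : Set G) :=
    Normal.conj_mem inferInstance a haC b
  set k := a⁻¹ * (b * a * b⁻¹) with hk
  have hkK : k ∈ N ⊓ M := by
    refine ⟨N.mul_mem (N.inv_mem (hAN ha)) (Normal.conj_mem inferInstance a (hAN ha) b), ?_⟩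
    have e : k = (a⁻¹ * b * a⁻¹⁻¹) * b⁻¹ := by rw [hk]; group
    rw [SetLike.mem_coe, e]
    exact M.mul_mem (Normal.conj_mem inferInstance b (hBM hb) _) (M.inv_mem (hBM hb))
  have hkC : k ∈ centralizer ((N ⊓ M : Subgroup G) : Set G) := mul_mem (inv_mem haC) hbC
  have hak : Commute a k := (haC k hkK).symm
  have e1 : b * a * b⁻¹ = a * k := by rw [hk]; group
  have e2 : k ^ orderOf a = 1 := by
    have e3 : (b * a * b⁻¹) ^ orderOf a = 1 := by rw [conj_pow, pow_orderOf_eq_one]; group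
    rwa [e1, hak.mul_pow, pow_orderOf_eq_one, one_mul] at e3
  have h2 : zpowers k = ⊥ := by
    refine eq_bot_of_isSubnormal_of_coprime h ?_ ?_
    · exact (SubnormalIn.of_le_normalizer (zpowers_le.2 hkK)
        ((le_centralizer_iff.1 (zpowers_le.2 hkC)).trans (centralizer_le_normalizer _))).isSubnormal
        (Normal.isSubnormal inferInstance)
    · rw [Nat.card_zpowers]
      exact Nat.Coprime.coprime_dvd_left (orderOf_dvd_of_pow_eq_one e2) hc
  rw [zpowers_eq_bot] at h2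
  rw [h2, mul_one] at e1
  exact mul_inv_eq_iff_eq_mul.1 e1

end

theorem sylow_join_aux {p : ℕ} [hp : Fact p.Prime] (n : ℕ) :
    ∀ (G : Type u) [Group G] [Finite G], Nat.card G = n → ∀ S A B : Subgroup G,
      IsSylowIn p S ⊤ → A.IsSubnormal → B.IsSubnormal → A ⊔ B = ⊤ → S ≤ (S ⊓ A) ⊔ (S ⊓ B) := by
  induction n using Nat.strong_induction_on with
  | _ n ih =>
  intro G _ _ hn S A₀ B₀ hS hA₀ hB₀ hAB₀
  have ih1 : ∀ A B : Subgroup G, A.IsSubnormal → B.IsSubnormal → A ⊔ B ≠ ⊤ →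
      S ⊓ (A ⊔ B) ≤ (S ⊓ A) ⊔ (S ⊓ B) := by
    intro A B hA hB hne
    set H := A ⊔ B with hH
    have hHs : SubnormalIn H ⊤ := SubnormalIn.top_iff.2 (isSubnormal_sup hA hB)
    have h1 := ih _ (hn ▸ card_lt_of_ne_top hne) H rfl ((S ⊓ H).subgroupOf H) (A.subgroupOf H)
      (B.subgroupOf H) (isSylowIn_inf_of_subnormalIn hS hHs).subgroupOf_top
      (SubnormalIn.of_isSubnormal hA le_sup_left).2 (SubnormalIn.of_isSubnormal hB le_sup_right).2
      (by rw [← subgroupOf_sup le_sup_left le_sup_right, subgroupOf_self])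
    have h2 := map_mono (f := H.subtype) h1
    rw [Subgroup.map_sup, ← comap_subtype, ← comap_subtype, ← comap_subtype, ← comap_inf,
      ← comap_inf, comap_subtype, comap_subtype, comap_subtype, subgroupOf_map_subtype,
      subgroupOf_map_subtype, subgroupOf_map_subtype] at h2
    refine le_trans (le_inf le_rfl inf_le_right) (h2.trans (sup_le_sup ?_ ?_))
    · exact inf_le_left.trans (inf_le_inf_right _ inf_le_left)
    · exact inf_le_left.trans (inf_le_inf_right _ inf_le_left)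
  have ih2 : ∀ A B D : Subgroup G, A.IsSubnormal → B.IsSubnormal → A ⊔ B = ⊤ → D.Normal →
      D ≠ ⊥ → S ⊓ D ≤ (S ⊓ A) ⊔ (S ⊓ B) → S ≤ (S ⊓ A) ⊔ (S ⊓ B) := by
    intro A B D hA hB hAB hD hD0 h
    let f := QuotientGroup.mk' D
    have hf : Function.Surjective f := QuotientGroup.mk'_surjective D
    have hS' : IsSylowIn p (S.map f) ⊤ := by
      have := hS.map f
      rwa [map_top_of_surjective f hf] at this
    have h1 := ih _ (hn ▸ card_quotient_lt hD0) (G ⧸ D) rfl (S.map f) (A.map f) (B.map f) hS'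
      (hA.map hf) (hB.map hf) (by rw [← Subgroup.map_sup, hAB, map_top_of_surjective f hf])
    rw [← map_inf_of_isSylowIn f hS.isPGroup
      (isSylowIn_inf_of_subnormalIn hS (SubnormalIn.top_iff.2 hA)),
      ← map_inf_of_isSylowIn f hS.isPGroup
      (isSylowIn_inf_of_subnormalIn hS (SubnormalIn.top_iff.2 hB)), ← Subgroup.map_sup,
      Subgroup.map_le_map_iff, QuotientGroup.ker_mk'] at h1
    have h2 : S ≤ (D ⊔ ((S ⊓ A) ⊔ (S ⊓ B))) ⊓ S := le_inf (by rwa [sup_comm]) le_rfl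
    rw [sup_inf_assoc_of_le_normalizer' (by rw [normalizer_eq_top]; exact le_top)
      (sup_le inf_le_left inf_le_left)] at h2
    exact h2.trans (sup_le (by rwa [inf_comm]) le_rfl)
  set R := (S ⊓ A₀) ⊔ (S ⊓ B₀) with hR
  let X : Set (Subgroup G) := {X | X.IsSubnormal ∧ S ⊓ X ≤ R}
  obtain ⟨A, hA₀A, hA⟩ := (Set.toFinite X).exists_le_maximal (a := A₀) ⟨hA₀, le_sup_left⟩
  obtain ⟨B, hB₀B, hB⟩ := (Set.toFinite X).exists_le_maximal (a := B₀) ⟨hB₀, le_sup_right⟩
  have hAB : A ⊔ B = ⊤ := top_le_iff.1 (hAB₀ ▸ sup_le_sup hA₀A hB₀B)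
  refine le_trans ?_ (sup_le hA.1.2 hB.1.2)
  by_cases hAt : A = ⊤
  · rw [hAt, inf_top_eq]; exact le_sup_left
  by_cases hBt : B = ⊤
  · rw [hBt, inf_top_eq]; exact le_sup_right
  have key : ∀ A B N : Subgroup G, Maximal (· ∈ X) A → B ∈ X → A ≤ N → N < ⊤ → N.Normal →
      B ⊓ N ≤ A := by
    intro A B N hA hB hAN hN hNn
    have h1 : (B ⊓ N).IsSubnormal := hB.1.inf hNn.isSubnormal
    have h2 : A ⊔ (B ⊓ N) ∈ X := by
      refine ⟨isSubnormal_sup hA.1.1 h1, (ih1 _ _ hA.1.1 h1 ?_).trans (sup_le hA.1.2 ?_)⟩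
      · exact ne_top_of_le_ne_top hN.ne (sup_le hAN inf_le_right)
      · exact (inf_le_inf_left _ inf_le_left).trans hB.2
    exact le_sup_right.trans (hA.2 h2 le_sup_left)
  obtain ⟨N, hAN, hN, hNn⟩ := (SubnormalIn.top_iff.2 hA.1.1).exists_le_lt_normal hAt
  obtain ⟨M, hBM, hM, hMn⟩ := (SubnormalIn.top_iff.2 hB.1.1).exists_le_lt_normal hBt
  have hNn' : N.Normal := normalizer_eq_top_iff.1 (top_le_iff.1 hNn)
  have hMn' : M.Normal := normalizer_eq_top_iff.1 (top_le_iff.1 hMn)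
  have e1 : A ⊓ B = B ⊓ N :=
    le_antisymm (le_inf inf_le_right (inf_le_left.trans hAN))
      (le_inf (key A B N hA hB.1 hAN hN hNn') inf_le_left)
  have e2 : A ⊓ B = A ⊓ M :=
    le_antisymm (inf_le_inf_left _ hBM) (le_inf inf_le_left (key B A M hB hA.1 hBM hM hMn'))
  have normal_of : ∀ D : Subgroup G, A ≤ normalizer (D : Set G) → B ≤ normalizer (D : Set G) →
      D.Normal := fun D h1 h2 => normalizer_eq_top_iff.1 (top_le_iff.1 (hAB ▸ sup_le h1 h2))
  by_cases hD : A ⊓ B = ⊥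
  swap
  · refine ih2 A B (A ⊓ B) hA.1.1 hB.1.1 hAB (normal_of _ ?_ ?_) hD
      ((inf_le_inf_left _ inf_le_left).trans le_sup_left)
    · rw [e2]; exact le_normalizer_inf Subgroup.le_normalizer (le_top.trans hMn)
    · rw [e1]; exact le_normalizer_inf Subgroup.le_normalizer (le_top.trans hNn)
  by_cases hO : pPrimeCore p G = ⊥
  swap
  · refine ih2 A B _ hA.1.1 hB.1.1 hAB inferInstance hO ?_
    rw [inf_eq_bot_of_isPGroup_of_coprime hS.isPGroup (coprime_card_pPrimeCore p G)]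
    exact bot_le
  by_cases hA1 : resOf p A = ⊥
  swap
  · refine ih2 A B _ hA.1.1 hB.1.1 hAB (normal_of _ (self_le_normalizer_resOf A) ?_) hA1
      ((inf_le_inf_left _ (resOf_le A)).trans le_sup_left)
    exact (le_centralizer_iff.1 (resOf_le_centralizer_of_inf_eq_bot' hO hA.1.1 hAN hBM
      (e2 ▸ hD))).trans (centralizer_le_normalizer _)
  by_cases hB1 : resOf p B = ⊥
  swap
  · refine ih2 A B _ hA.1.1 hB.1.1 hAB (normal_of _ ?_ (self_le_normalizer_resOf B)) hB1
      ((inf_le_inf_left _ (resOf_le B)).trans le_sup_right)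
    exact (le_centralizer_iff.1 (resOf_le_centralizer_of_inf_eq_bot' hO hB.1.1 hBM hAN
      (e1 ▸ hD))).trans (centralizer_le_normalizer _)
  have h1 : pCore p G ≤ S := pCoreOf_top (p := p) (G := G) ▸ pCoreOf_le_of_isSylowIn hS
  rw [inf_eq_right.2 ((le_pCore_of_isSubnormal hA.1.1 (resOf_eq_bot_iff.1 hA1)).trans h1),
    inf_eq_right.2 ((le_pCore_of_isSubnormal hB.1.1 (resOf_eq_bot_iff.1 hB1)).trans h1), hAB]
  exact le_top

/-- Wielandt: `S ∩ ⟨A, B⟩ = ⟨S ∩ A, S ∩ B⟩`. -/
theorem sylow_inf_sup {G : Type*} [Group G] [Finite G] {p : ℕ} [hp : Fact p.Prime]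
    {S A B H : Subgroup G} (hS : IsSylowIn p S H) (hA : SubnormalIn A H) (hB : SubnormalIn B H) :
    S ⊓ (A ⊔ B) = (S ⊓ A) ⊔ (S ⊓ B) := by
  refine le_antisymm ?_
    (sup_le (inf_le_inf_left _ le_sup_left) (inf_le_inf_left _ le_sup_right))
  set K := A ⊔ B with hK
  have hKs : SubnormalIn K H := hA.sup hB
  have h1 := sylow_join_aux (p := p) _ K rfl ((S ⊓ K).subgroupOf K) (A.subgroupOf K)
    (B.subgroupOf K) (isSylowIn_inf_of_subnormalIn hS hKs).subgroupOf_top
    (hA.mono le_sup_left hKs.le).2 (hB.mono le_sup_right hKs.le).2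
    (by rw [← subgroupOf_sup le_sup_left le_sup_right, subgroupOf_self])
  have h2 := map_mono (f := K.subtype) h1
  rw [Subgroup.map_sup, ← comap_subtype, ← comap_subtype, ← comap_subtype, ← comap_inf,
    ← comap_inf, comap_subtype, comap_subtype, comap_subtype, subgroupOf_map_subtype,
    subgroupOf_map_subtype, subgroupOf_map_subtype] at h2
  refine le_trans (le_inf le_rfl inf_le_right) (h2.trans (sup_le_sup ?_ ?_))
  · exact inf_le_left.trans (inf_le_inf_right _ inf_le_left)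
  · exact inf_le_left.trans (inf_le_inf_right _ inf_le_left)

/-- `O^{p'}(⟨A, B⟩ ∩ D) = ⟨O^{p'}(A ∩ D), O^{p'}(B ∩ D)⟩` if `D` contains a Sylow subgroup. -/
theorem pElementClosure_sup_inf {G : Type*} [Group G] [Finite G] {p : ℕ} [hp : Fact p.Prime]
    {T A B D H : Subgroup G} (hT : IsSylowIn p T H) (hA : SubnormalIn A H) (hB : SubnormalIn B H)
    (hD : T ≤ D) :
    pElementClosure p ((A ⊔ B) ⊓ D : Subgroup G) =
      pElementClosure p (A ⊓ D : Subgroup G) ⊔ pElementClosure p (B ⊓ D : Subgroup G) := by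
  refine le_antisymm ?_ (sup_le (pElementClosure_mono (inf_le_inf_right _ le_sup_left))
    (pElementClosure_mono (inf_le_inf_right _ le_sup_right)))
  rw [pElementClosure_le_iff]
  intro Q hQ hQp
  obtain ⟨S, hS, hQS⟩ := exists_isSylowIn_ge hQp
    (hQ.trans (inf_le_inf_right D (hA.sup hB).le))
  have hS' : IsSylowIn p S H :=
    hS.trans inf_le_left (hT.not_dvd_relIndex_of_le (le_inf hT.le hD))
  have h1 : Q ≤ S ⊓ (A ⊔ B) := le_inf hQS (hQ.trans inf_le_left)
  rw [sylow_inf_sup hS' hA hB] at h1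
  refine h1.trans (sup_le_sup ?_ ?_)
  · exact le_pElementClosure (le_inf inf_le_right (inf_le_left.trans (hS.le.trans inf_le_right)))
      (hS.isPGroup.to_le inf_le_left)
  · exact le_pElementClosure (le_inf inf_le_right (inf_le_left.trans (hS.le.trans inf_le_right)))
      (hS.isPGroup.to_le inf_le_left)

end Cfsg.Lib.Local.MSS
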