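import Mathlib.GroupTheory.OrderOfElement
import Mathlib.Algebra.Group.Action.Defs
import Mathlib.Algebra.Group.Subgroup.Basic
import Mathlib.GroupTheory.Subgroup.Centralizer
import Mathlib.Tactic.Group

/-!
Transvections on an elementary abelian 2-group `V` acted on by a group `H` that has a normal
subgroup `F` of odd order: a transvection `a` not centralizing `F` has exactly three conjugates
under `F`, `[F, a]` has order three and is central in `F`, and two such configurations either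
coincide or centralize each other.  This is the case `p = 2` of Glauberman's theorem on the
failure of the Thompson factorization in solvable groups.
-/

set_option autoImplicit false

namespace Cfsg.Lib.Local.Tv

variable {H V : Type*} [Group H] [CommGroup V] [MulDistribMulAction H V]

/-- The involution `a` acts on `V` as a transvection with centre `u`. -/
structure IsTv (a : H) (u : V) : Prop where
  sq : a * a = 1
  ne : u ≠ 1
  act : ∀ v : V, a • v = v ∨ a • v = v * u
  ex : ∃ v : V, a • v ≠ v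

/-- The standing hypotheses on the action of `H` on `V` and the normal subgroup `F`. -/
structure Hyp (V : Type*) [CommGroup V] [MulDistribMulAction H V] (F : Subgroup H) : Prop where
  expo : ∀ v : V, v * v = 1
  normal : F.Normal
  odd : ∀ f ∈ F, Odd (orderOf f)
  ker_comm : ∀ c : H, (∀ v : V, c • v = v) → ∀ a : H, a * a = 1 → c * a = a * c
  ker_odd : ∀ c : H, (∀ v : V, c • v = v) → Odd (orderOf c)

theorem eq_one_of_odd_of_sq {x : H} (h : Odd (orderOf x)) (h2 : x * x = 1) : x = 1 := by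
  obtain ⟨k, hk⟩ := h
  have := pow_orderOf_eq_one x
  rw [hk, pow_succ, pow_mul, pow_two, h2, one_pow, one_mul] at this
  exact this

theorem exists_eq_sq_pow_of_odd {x : H} (h : Odd (orderOf x)) : ∃ k : ℕ, x = (x * x) ^ k := by
  obtain ⟨k, hk⟩ := h
  refine ⟨k + 1, ?_⟩
  have := pow_orderOf_eq_one x
  rw [← pow_two, ← pow_mul, show 2 * (k + 1) = (2 * k + 1) + 1 by ring, pow_succ, ← hk, this,
    one_mul]

theorem pow_smul_of_fix {x : H} {v : V} (h : x • v = v) (k : ℕ) : x ^ k • v = v := by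
  induction k with
  | zero => simp
  | succ k ih => rw [pow_succ, mul_smul, h, ih]

theorem smul_of_sq_smul {x : H} (h : Odd (orderOf x)) {v : V} (h2 : x • x • v = v) :
    x • v = v := by
  obtain ⟨k, hk⟩ := exists_eq_sq_pow_of_odd h
  rw [hk]
  exact pow_smul_of_fix (by rw [mul_smul, h2]) k

namespace IsTv

variable {a b c : H} {u w : V}

theorem inv_eq (h : IsTv a u) : a⁻¹ = a := inv_eq_of_mul_eq_one_right h.sq

theorem smul_smul (h : IsTv a u) (v : V) : a • a • v = v := by
  rw [← mul_smul, h.sq, one_smul]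

theorem exists_eq (h : IsTv a u) : ∃ v : V, a • v = v * u := by
  obtain ⟨v, hv⟩ := h.ex
  exact ⟨v, (h.act v).resolve_left hv⟩

theorem fix (hV : ∀ v : V, v * v = 1) (h : IsTv a u) : a • u = u := by
  obtain ⟨v, hv⟩ := h.exists_eq
  have h1 := h.smul_smul v
  rw [hv, smul_mul', hv, mul_assoc, mul_eq_left] at h1
  rw [eq_inv_of_mul_eq_one_right h1]
  exact inv_eq_of_mul_eq_one_right (hV u)

theorem ne_one (h : IsTv a u) : a ≠ 1 := by
  rintro rfl
  obtain ⟨v, hv⟩ := h.ex
  exact hv (one_smul _ v)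

theorem unique (h : IsTv a u) (h' : IsTv a w) : u = w := by
  obtain ⟨v, hv⟩ := h.exists_eq
  rcases h'.act v with h1 | h1
  · rw [h1, left_eq_mul] at hv
    exact absurd hv h.ne
  · rw [h1] at hv
    exact (mul_left_cancel hv).symm

theorem conj (h : IsTv a u) (g : H) : IsTv (g * a * g⁻¹) (g • u) where
  sq := by
    calc g * a * g⁻¹ * (g * a * g⁻¹) = g * (a * a) * g⁻¹ := by group
      _ = 1 := by rw [h.sq]; group
  ne := fun h1 => h.ne (by rw [← inv_smul_smul g u, h1, smul_one])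
  act := fun v => by
    rcases h.act (g⁻¹ • v) with h1 | h1
    · left
      rw [mul_smul, mul_smul, h1, smul_inv_smul]
    · right
      rw [mul_smul, mul_smul, h1, smul_mul', smul_inv_smul]
  ex := by
    obtain ⟨v, hv⟩ := h.ex
    refine ⟨g • v, fun h1 => hv ?_⟩
    rw [mul_smul, mul_smul, inv_smul_smul] at h1
    exact smul_left_cancel g h1

theorem smul_centre_of_comm (h : IsTv a u) {g : H} (hg : g * a * g⁻¹ = a) : g • u = u :=
  (hg ▸ h.conj g).unique h

end IsTv

namespace Hyp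

variable {F : Subgroup H} {a b c : H} {u w t : V}

theorem mul_cancel_left (hy : Hyp V F) (v x : V) : v * (v * x) = x := by
  rw [← mul_assoc, hy.expo, one_mul]

theorem mul_cancel_right (hy : Hyp V F) (v x : V) : x * v * v = x := by
  rw [mul_assoc, hy.expo, mul_one]

theorem eq_of_mul_eq_one (hy : Hyp V F) {v x : V} (h : v * x = 1) : v = x := by
  rw [← hy.mul_cancel_right x v, h, one_mul]

/-- An involution times an involution acting in the same way. -/
theorem eq_of_ker (hy : Hyp V F) (ha : a * a = 1) (hb : b * b = 1)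
    (h : ∀ v : V, (a * b) • v = v) : a = b := by
  have h1 := hy.ker_comm _ h a ha
  have h2 : a * b * (a * b) = 1 := by
    rw [← mul_assoc, h1, ← mul_assoc, ha, one_mul, hb]
  have h3 := eq_one_of_odd_of_sq (hy.ker_odd _ h) h2
  rw [eq_inv_of_mul_eq_one_left h3]
  exact inv_eq_of_mul_eq_one_right hb

/-- If two involutions commute in their action then they commute. -/
theorem comm_of_ker (hy : Hyp V F) (ha : a * a = 1) (hb : b * b = 1)
    (h : ∀ v : V, a • b • v = b • a • v) : a * b = b * a := by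
  have hk : ∀ v : V, (a * (b * a * b)) • v = v := fun v => by
    rw [mul_smul, mul_smul, mul_smul, ← h, ← mul_smul b b, hb, one_smul, ← mul_smul, ha, one_smul]
  have h2 : b * a * b * (b * a * b) = 1 := by
    calc b * a * b * (b * a * b) = b * a * (b * b) * a * b := by group
      _ = b * (a * a) * b := by rw [hb]; group
      _ = 1 := by rw [ha, mul_one, hb]
  have h3 := hy.eq_of_ker ha h2 hk
  calc a * b = b * a * b * b := by rw [← h3]
    _ = b * a := by rw [mul_assoc, hb, mul_one]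

/-- Two transvections with product of odd order, one fixing the centre of the other, are equal. -/
theorem eq_of_fix (hy : Hyp V F) (ha : IsTv a u) (hb : IsTv b w) (ho : Odd (orderOf (a * b)))
    (h : a • w = w) : a = b := by
  have hau := ha.fix hy.expo
  have hbw := hb.fix hy.expo
  have hxw : (a * b) • w = w := by rw [mul_smul, hbw, h]
  have hxu : (a * b) • u = u ∨ (a * b) • u = u * w := by
    rcases hb.act u with h1 | h1
    · left
      rw [mul_smul, h1, hau]
    · right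
      rw [mul_smul, h1, smul_mul', hau, h]
  have hx : ∀ v : V, (a * b) • v = v ∨ (a * b) • v = v * u ∨ (a * b) • v = v * w ∨
      (a * b) • v = v * u * w := fun v => by
    rcases hb.act v with h1 | h1 <;> rcases ha.act v with h2 | h2 <;>
      simp [mul_smul, h1, h2, smul_mul', h]
  have hx2 : ∀ v : V, (a * b) • (a * b) • v = v ∨ (a * b) • (a * b) • v = v * w := fun v => by
    rcases hx v with h1 | h1 | h1 | h1
    · left
      rw [h1, h1]
    · rw [h1, smul_mul', h1]
      rcases hxu with h2 | h2 <;> rw [h2]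
      · left
        exact hy.mul_cancel_right u v
      · right
        rw [← mul_assoc, hy.mul_cancel_right]
    · left
      rw [h1, smul_mul', h1, hxw, hy.mul_cancel_right]
    · rw [h1, smul_mul', smul_mul', h1, hxw]
      rcases hxu with h2 | h2 <;> rw [h2]
      · left
        rw [mul_right_comm (v * u) w u, hy.mul_cancel_right, hy.mul_cancel_right]
      · right
        rw [← mul_assoc, hy.mul_cancel_right, mul_right_comm (v * u) w u, hy.mul_cancel_right]
  have hodd2 : Odd (orderOf (a * b * (a * b))) := by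
    rw [← pow_two]
    exact ho.of_dvd_nat (orderOf_pow_dvd 2)
  refine hy.eq_of_ker ha.sq hb.sq fun v => smul_of_sq_smul ho ?_
  rw [← mul_smul]
  refine smul_of_sq_smul hodd2 ?_
  rw [mul_smul (a * b) (a * b) v]
  rcases hx2 v with h1 | h1
  · rw [h1, mul_smul, h1]
  · rw [h1, mul_smul, smul_mul', smul_mul', h1, hxw, hxw, hy.mul_cancel_right]

theorem smul_centre_of_ne (hy : Hyp V F) (ha : IsTv a u) (hb : IsTv b w)
    (ho : Odd (orderOf (a * b))) (hne : a ≠ b) : a • w = w * u :=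
  (ha.act w).resolve_left fun h => hne (hy.eq_of_fix ha hb ho h)

theorem mul_mem_of_conj (hy : Hyp V F) (ha : a * a = 1) {f g : H} (hf : f ∈ F) (hg : g ∈ F) :
    f * a * f⁻¹ * (g * a * g⁻¹) ∈ F := by
  have h1 : f * a * f⁻¹ * (g * a * g⁻¹) = f * (a * (f⁻¹ * g) * a⁻¹) * g⁻¹ := by
    rw [inv_eq_of_mul_eq_one_right ha]
    group
  rw [h1]
  exact F.mul_mem (F.mul_mem hf (hy.normal.conj_mem _ (F.mul_mem (F.inv_mem hf) hg) a))
    (F.inv_mem hg)

/-- Three distinct conjugates under `F` of a transvection. -/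
theorem conj_eq_of_ne (hy : Hyp V F) (ha : IsTv a u) {f g k : H} (hf : f ∈ F) (hg : g ∈ F)
    (hk : k ∈ F) (h1 : f * a * f⁻¹ ≠ g * a * g⁻¹) (h2 : f * a * f⁻¹ ≠ k * a * k⁻¹)
    (h3 : k * a * k⁻¹ ≠ g * a * g⁻¹) :
    f * a * f⁻¹ = (k * a * k⁻¹) * (g * a * g⁻¹) * (k * a * k⁻¹)⁻¹ := by
  have tf := ha.conj f
  have tg := ha.conj g
  have tk := ha.conj k
  have e1 := hy.smul_centre_of_ne tf tg (hy.odd _ (hy.mul_mem_of_conj ha.sq hf hg)) h1
  have e2 := hy.smul_centre_of_ne tf tk (hy.odd _ (hy.mul_mem_of_conj ha.sq hf hk)) h2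
  have e3 := hy.smul_centre_of_ne tk tg (hy.odd _ (hy.mul_mem_of_conj ha.sq hk hg)) h3
  have t := tg.conj (k * a * k⁻¹)
  rw [e3] at t
  refine hy.eq_of_fix tf t ?_ ?_
  · have hm : k * a * k⁻¹ * g * a⁻¹ ∈ F := by
      have : k * a * k⁻¹ * g * a⁻¹ = k * (a * (k⁻¹ * g) * a⁻¹) := by group
      rw [this]
      exact F.mul_mem hk (hy.normal.conj_mem _ (F.mul_mem (F.inv_mem hk) hg) a)
    have := hy.mul_mem_of_conj ha.sq hf hm
    have e : k * a * k⁻¹ * g * a⁻¹ * a * (k * a * k⁻¹ * g * a⁻¹)⁻¹ =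
        k * a * k⁻¹ * (g * a * g⁻¹) * (k * a * k⁻¹)⁻¹ := by group
    rw [e] at this
    exact hy.odd _ this
  · rw [smul_mul', e1, e2, mul_mul_mul_comm, hy.expo, mul_one]

end Hyp

/-- The configuration spanned by a transvection `a` that does not centralize `F`:
`[F, a] = ⟨y⟩` has order three, and `a`, `a y`, `a y⁻¹` are transvections with centres
`u`, `w`, `u w`. -/
structure Tri (F : Subgroup H) (a y : H) (u w : V) : Prop where
  ta : IsTv a u
  tb : IsTv (a * y) w
  mem : y ∈ F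
  cube : y * y * y = 1
  ne : y ≠ 1
  inv : a * y * a⁻¹ = y⁻¹
  cls : ∀ f ∈ F, f * a * f⁻¹ = a ∨ f * a * f⁻¹ = a * y ∨ f * a * f⁻¹ = a * y⁻¹
  aw : a • w = w * u
  bu : (a * y) • u = u * w

theorem Hyp.exists_tri {F : Subgroup H} {a : H} {u : V} (hy : Hyp V F) (ha : IsTv a u)
    (hn : ∃ f ∈ F, f * a ≠ a * f) : ∃ (y : H) (w : V), Tri F a y u w := by
  obtain ⟨f, hf, hne⟩ := hn
  have hai := ha.inv_eq
  set b := f * a * f⁻¹ with hb
  have tb : IsTv b (f • u) := ha.conj f
  have hab : a ≠ b := by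
    intro h
    apply hne
    rw [hb, eq_mul_inv_iff_mul_eq] at h
    exact h.symm
  have e1 : (1 : H) * a * 1⁻¹ = a := by group
  have hy1 : a * b ∈ F := by
    have := hy.mul_mem_of_conj ha.sq F.one_mem hf
    rwa [e1] at this
  have hy2 : b * a ∈ F := by
    have := hy.mul_mem_of_conj ha.sq hf F.one_mem
    rwa [e1] at this
  have hay : a * (a * b) = b := by rw [← mul_assoc, ha.sq, one_mul]
  have hinv : (a * b)⁻¹ = b * a := by rw [mul_inv_rev, hai, tb.inv_eq]
  have hne1 : a * b ≠ 1 := fun h => hab (by rw [← hay, h, mul_one])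
  have hf' : a * f * a⁻¹ ∈ F := hy.normal.conj_mem f hf a
  have hc : a * f * a⁻¹ * a * (a * f * a⁻¹)⁻¹ = a * b * a := by
    calc a * f * a⁻¹ * a * (a * f * a⁻¹)⁻¹ = a * f * a * f⁻¹ * a⁻¹ := by group
      _ = a * b * a := by rw [hai, hb]; group
  have hca : a * b * a ≠ a := fun h => hne1 (mul_eq_right.mp h)
  have hcb : a * b * a ≠ b := fun h => by
    apply hne1
    refine eq_one_of_odd_of_sq (hy.odd _ hy1) ?_
    rw [← mul_assoc, h, tb.sq]
  have key : ∀ g ∈ F, g * a * g⁻¹ ≠ a → g * a * g⁻¹ ≠ b → g * a * g⁻¹ = a * b * a := by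
    intro g hg h1 h2
    have := hy.conj_eq_of_ne ha hg hf F.one_mem h2 (by rwa [e1]) (by rwa [e1])
    rwa [e1, hai] at this
  have hcube : a * b * (a * b) * (a * b) = 1 := by
    have := hy.conj_eq_of_ne ha F.one_mem hf' hf (by rw [e1, hc]; exact hca.symm)
      (by rwa [e1]) (by rw [hc]; exact hcb.symm)
    rw [e1, hc, ← hb, tb.inv_eq] at this
    calc a * b * (a * b) * (a * b) = a * (b * (a * b * a) * b) := by group
      _ = 1 := by rw [← this, ha.sq]
  refine ⟨a * b, f • u, ha, by rwa [hay], hy1, hcube, hne1, by rw [hay, hinv, hai], ?_, ?_, ?_⟩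
  · intro g hg
    by_cases h1 : g * a * g⁻¹ = a
    · exact Or.inl h1
    by_cases h2 : g * a * g⁻¹ = b
    · exact Or.inr (Or.inl (by rwa [hay]))
    · exact Or.inr (Or.inr (by rw [key g hg h1 h2, hinv, mul_assoc]))
  · exact hy.smul_centre_of_ne ha tb (hy.odd _ hy1) hab
  · rw [hay]
    exact hy.smul_centre_of_ne tb ha (hy.odd _ hy2) hab.symm

/-- Membership in the four-group `{1, u, w, u w}`. -/
def InW (u w v : V) : Prop := v = 1 ∨ v = u ∨ v = w ∨ v = u * w

theorem InW.mul {u w s t : V} (hV : ∀ v : V, v * v = 1) (hs : InW u w s) (ht : InW u w t) :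
    InW u w (s * t) := by
  have h1 : ∀ x y : V, x * (x * y) = y := fun x y => by rw [← mul_assoc, hV, one_mul]
  have h2 : ∀ x y : V, x * y * x = y := fun x y => by rw [mul_comm, h1]
  have h3 : ∀ x y : V, x * y * y = x := fun x y => by rw [mul_assoc, hV, mul_one]
  have h4 : ∀ x y : V, y * (x * y) = x := fun x y => by rw [mul_comm, h3]
  have h5 : w * u = u * w := mul_comm w u
  unfold InW
  rcases hs with hs | hs | hs | hs <;> rcases ht with ht | ht | ht | ht <;> rw [hs, ht] <;>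
    simp only [one_mul, mul_one, hV, h1, h2, h3, h4, h5, true_or, or_true]

theorem InW.smul_of_fix {u w t : V} {g : H} (ht : InW u w t) (hu : g • u = u) (hw : g • w = w) :
    g • t = t := by
  rcases ht with rfl | rfl | rfl | rfl
  · exact smul_one g
  · exact hu
  · exact hw
  · rw [smul_mul', hu, hw]

namespace Tri

variable {F : Subgroup H} {a y a' y' : H} {u w u' w' : V}

theorem inv_eq_sq (h : Tri F a y u w) : y⁻¹ = y * y :=
  inv_eq_of_mul_eq_one_left h.cube

theorem ay (h : Tri F a y u w) : a * y = y⁻¹ * a := by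
  rw [← h.inv, inv_mul_cancel_right]

theorem ya (h : Tri F a y u w) : y * a = a * y⁻¹ := by
  rw [← h.inv, ← mul_assoc, ← mul_assoc, h.ta.sq, one_mul, h.ta.inv_eq]

theorem inv_ne (h : Tri F a y u w) : y⁻¹ ≠ y := fun h1 => by
  apply h.ne
  have h2 := h.inv_eq_sq
  rw [h1, left_eq_mul] at h2
  exact h2

theorem conj_y (h : Tri F a y u w) : y * a * y⁻¹ = a * y := by
  rw [h.ya, mul_assoc, ← mul_inv_rev, ← h.inv_eq_sq, inv_inv]

theorem conj_y_inv (h : Tri F a y u w) : y⁻¹ * a * y⁻¹⁻¹ = a * y⁻¹ := by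
  rw [← h.ay, inv_inv, mul_assoc, ← h.inv_eq_sq]

theorem tc (h : Tri F a y u w) : IsTv (a * y⁻¹) (w * u) := by
  have := h.tb.conj a
  rwa [h.aw, mul_assoc, h.inv] at this

theorem u_ne_w (hy : Hyp V F) (h : Tri F a y u w) : u ≠ w := fun h1 => by
  have h2 := h.aw
  rw [← h1, h.ta.fix hy.expo, left_eq_mul] at h2
  exact h.ta.ne h2

theorem uw_ne (hy : Hyp V F) (h : Tri F a y u w) : u * w ≠ 1 := fun h1 =>
  h.u_ne_w hy (hy.eq_of_mul_eq_one h1)

theorem y_smul (h : Tri F a y u w) (v : V) : y • v = a • (a * y) • v := by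
  rw [← mul_smul, ← mul_assoc, h.ta.sq, one_mul]

theorem yu (hy : Hyp V F) (h : Tri F a y u w) : y • u = w := by
  rw [h.y_smul, h.bu, smul_mul', h.ta.fix hy.expo, h.aw, mul_comm w u, hy.mul_cancel_left]

theorem yw (hy : Hyp V F) (h : Tri F a y u w) : y • w = w * u := by
  rw [h.y_smul, h.tb.fix hy.expo, h.aw]

theorem yuw (hy : Hyp V F) (h : Tri F a y u w) : y • (u * w) = u := by
  rw [smul_mul', h.yu hy, h.yw hy, hy.mul_cancel_left]

theorem symm (hy : Hyp V F) (h : Tri F a y u w) : Tri F a y⁻¹ u (w * u) where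
  ta := h.ta
  tb := h.tc
  mem := F.inv_mem h.mem
  cube := by rw [← mul_inv_rev, ← mul_inv_rev, ← mul_assoc, h.cube, inv_one]
  ne := fun h1 => h.ne (inv_eq_one.mp h1)
  inv := by rw [← h.inv, ← mul_assoc, ← mul_assoc, h.ta.sq, one_mul, mul_assoc, ← mul_inv_rev,
    h.ta.sq, inv_one, mul_one, h.inv, inv_inv]
  cls := fun f hf => by
    rw [inv_inv]
    rcases h.cls f hf with h1 | h1 | h1
    · exact Or.inl h1
    · exact Or.inr (Or.inr h1)
    · exact Or.inr (Or.inl h1)
  aw := by rw [smul_mul', h.aw, h.ta.fix hy.expo]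
  bu := by
    have h1 : y⁻¹ • u = u * w := by rw [inv_smul_eq_iff, h.yuw hy]
    rw [mul_smul, h1, smul_mul', h.aw, h.ta.fix hy.expo]

theorem conj_y_eq (h : Tri F a y u w) {f : H} (hf : f ∈ F) :
    f * y * f⁻¹ = y ∨ f * y * f⁻¹ = y⁻¹ := by
  have h1 : f * y * f⁻¹ = (f * a * f⁻¹) * ((f * y) * a * (f * y)⁻¹) := by
    have : f * y * a * (f * y)⁻¹ = f * (y * a * y⁻¹) * f⁻¹ := by group
    rw [this, h.conj_y]
    calc f * y * f⁻¹ = f * (a * a) * y * f⁻¹ := by rw [h.ta.sq, mul_one]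
      _ = _ := by group
  have h2 : f * y * f⁻¹ ≠ 1 := fun h2 => h.ne (by simpa using h2)
  have e : ∀ s t : H, a * s * (a * t) = (a * s * a⁻¹) * t := fun s t => by
    rw [h.ta.inv_eq]; group
  have e1 : a * y⁻¹ * a⁻¹ = y := by rw [← h.ya, mul_inv_cancel_right]
  have e0 : ∀ t : H, a * (a * t) = t := fun t => by rw [← mul_assoc, h.ta.sq, one_mul]
  have e2 : a * y * a = y⁻¹ := by rw [← h.inv, h.ta.inv_eq]
  have e3 : a * y⁻¹ * a = y := by nth_rewrite 2 [← e1]; rw [h.ta.inv_eq]
  have e4 : y⁻¹ * y⁻¹ = y := by rw [← mul_inv_rev, ← h.inv_eq_sq, inv_inv]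
  rw [h1] at h2 ⊢
  rcases h.cls f hf with h3 | h3 | h3 <;>
    rcases h.cls (f * y) (F.mul_mem hf h.mem) with h4 | h4 | h4 <;> rw [h3, h4] at h2 ⊢
  · exact absurd h.ta.sq h2
  · exact Or.inl (e0 y)
  · exact Or.inr (e0 _)
  · exact Or.inr e2
  · exact absurd h.tb.sq h2
  · left
    rw [e, h.inv, e4]
  · exact Or.inl e3
  · right
    rw [e, e1, h.inv_eq_sq]
  · exact absurd h.tc.sq h2

/-- `F` centralizes `[F, a]`. -/
theorem comm (hy : Hyp V F) (h : Tri F a y u w) {f : H} (hf : f ∈ F) : f * y = y * f := by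
  rcases h.conj_y_eq hf with h1 | h1
  · exact mul_inv_eq_iff_eq_mul.mp h1
  · exfalso
    have h2 : Commute (f * f) y := by
      change f * f * y = y * (f * f)
      calc f * f * y = f * (f * y * f⁻¹) * f := by group
        _ = f * y⁻¹ * f := by rw [h1]
        _ = (f * y * f⁻¹)⁻¹ * (f * f) := by group
        _ = y * (f * f) := by rw [h1, inv_inv]
    obtain ⟨k, hk⟩ := exists_eq_sq_pow_of_odd (hy.odd f hf)
    have h3 : f * y = y * f := by
      rw [hk]
      exact h2.pow_left k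
    rw [h3, mul_inv_cancel_right] at h1
    exact h.inv_ne h1.symm

theorem inW_smul_y (hy : Hyp V F) (h : Tri F a y u w) {t : V} (ht : InW u w t) :
    InW u w (y • t) := by
  rcases ht with rfl | rfl | rfl | rfl
  · exact Or.inl (smul_one y)
  · exact Or.inr (Or.inr (Or.inl (h.yu hy)))
  · exact Or.inr (Or.inr (Or.inr ((h.yw hy).trans (mul_comm _ _))))
  · exact Or.inr (Or.inl (h.yuw hy))

theorem y_act (hy : Hyp V F) (h : Tri F a y u w) (v : V) : ∃ t, InW u w t ∧ y • v = v * t := by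
  rw [h.y_smul]
  rcases h.tb.act v with h1 | h1 <;> rcases h.ta.act v with h2 | h2 <;> rw [h1]
  · exact ⟨1, Or.inl rfl, by rw [h2, mul_one]⟩
  · exact ⟨u, Or.inr (Or.inl rfl), h2⟩
  · exact ⟨u * w, Or.inr (Or.inr (Or.inr rfl)), by rw [smul_mul', h2, h.aw, mul_comm w u]⟩
  · refine ⟨w, Or.inr (Or.inr (Or.inl rfl)), ?_⟩
    rw [smul_mul', h2, h.aw, mul_mul_mul_comm, hy.expo, mul_one]

theorem inW_iff (hy : Hyp V F) (h : Tri F a y u w) {t : V} :
    InW u w t ↔ ∃ v : V, y • v = v * t := by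
  constructor
  · rintro (rfl | rfl | rfl | rfl)
    · exact ⟨1, by simp⟩
    · exact ⟨w, h.yw hy⟩
    · exact ⟨u * t, by rw [h.yuw hy, hy.mul_cancel_right]⟩
    · exact ⟨u, by rw [h.yu hy, hy.mul_cancel_left]⟩
  · rintro ⟨v, hv⟩
    obtain ⟨s, hs, hs'⟩ := h.y_act hy v
    rw [hv] at hs'
    rwa [mul_left_cancel hs']

theorem inW_smul_of_comm (hy : Hyp V F) (h : Tri F a y u w) {g : H} (hg : g * y = y * g) {t : V}
    (ht : InW u w t) : InW u w (g • t) := by
  obtain ⟨v, hv⟩ := (h.inW_iff hy).mp ht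
  exact (h.inW_iff hy).mpr ⟨g • v, by rw [← mul_smul, ← hg, mul_smul, hv, smul_mul']⟩

theorem eq_one_of_fix (hy : Hyp V F) (h : Tri F a y u w) {t : V} (ht : InW u w t)
    (hf : y • t = t) : t = 1 := by
  rcases ht with rfl | rfl | rfl | rfl
  · rfl
  · exact absurd (hf.symm.trans (h.yu hy)) (h.u_ne_w hy)
  · rw [h.yw hy, mul_eq_left] at hf
    exact absurd hf h.ta.ne
  · rw [h.yuw hy, left_eq_mul] at hf
    exact absurd hf h.tb.ne

theorem fix_of_comm (hy : Hyp V F) (h' : Tri F a' y' u' w') {t : V} (ht : y' • t = t) :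
    a' • t = t := by
  rw [h'.y_smul] at ht
  have h1 : (a' * y') • t = a' • t := by
    have := congrArg (fun x => a' • x) ht
    simpa only [h'.ta.smul_smul] using this
  refine (h'.ta.act t).resolve_right fun h2 => ?_
  rw [h2] at h1
  rcases h'.tb.act t with h3 | h3 <;> rw [h3] at h1
  · exact h'.ta.ne (left_eq_mul.mp h1)
  · exact h'.u_ne_w hy (mul_left_cancel h1).symm

theorem case_one (hy : Hyp V F) (h : Tri F a y u w) (h' : Tri F a' y' u' w')
    (hc : y' * a * y'⁻¹ = a) : y' • u = u ∧ y' • w = w := by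
  refine ⟨h.ta.smul_centre_of_comm hc, h.tb.smul_centre_of_comm ?_⟩
  calc y' * (a * y) * y'⁻¹ = (y' * a * y'⁻¹) * (y' * y) * y'⁻¹ := by group
    _ = a * y := by rw [hc, h.comm hy h'.mem]; group

theorem case_two_aux (hy : Hyp V F) (h : Tri F a y u w) (h' : Tri F a' y' u' w') {z d : H}
    (hz : y' = y * z) (hzF : z ∈ F) (hk : ∀ v : V, z • v = v) (hz3 : z * z * z = 1)
    (hd : IsTv d u') (hdy : d * y * d⁻¹ = y⁻¹) : a' = d := by
  have hfd := hd.fix hy.expo
  have hfa := h'.ta.fix hy.expo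
  have hcomm : d * a' = a' * d := by
    refine hy.comm_of_ker hd.sq h'.ta.sq fun v => ?_
    rcases hd.act v with h1 | h1 <;> rcases h'.ta.act v with h2 | h2 <;>
      simp only [h1, h2, smul_mul', hfd, hfa]
  have hza := hy.ker_comm z hk a' h'.ta.sq
  have hzd := hy.ker_comm z hk d hd.sq
  have hzy := h.comm hy hzF
  have e1 : a' * y * a'⁻¹ = y⁻¹ * z := by
    have h1 := h'.inv
    rw [hz] at h1
    have h2 : a' * (y * z) * a'⁻¹ = a' * y * a'⁻¹ * z := by
      calc a' * (y * z) * a'⁻¹ = a' * y * a'⁻¹ * (a' * z) * a'⁻¹ := by group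
        _ = _ := by rw [← hza]; group
    rw [h2, ← hzy] at h1
    have h3 : z⁻¹ * z⁻¹ = z := by
      rw [← mul_inv_rev]
      exact inv_eq_of_mul_eq_one_right hz3
    calc a' * y * a'⁻¹ = (z * y)⁻¹ * z⁻¹ := by rw [← h1]; group
      _ = y⁻¹ * (z⁻¹ * z⁻¹) := by group
      _ = _ := by rw [h3]
  have e2 : d * (a' * y * a'⁻¹) * d⁻¹ = y * z := by
    rw [e1]
    calc d * (y⁻¹ * z) * d⁻¹ = (d * y * d⁻¹)⁻¹ * (d * z) * d⁻¹ := by group
      _ = y * z := by rw [hdy, ← hzd]; group
  have e3 : a' * (d * y * d⁻¹) * a'⁻¹ = z⁻¹ * y := by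
    rw [hdy]
    calc a' * y⁻¹ * a'⁻¹ = (a' * y * a'⁻¹)⁻¹ := by group
      _ = _ := by rw [e1]; group
  have e4 : y * z = z⁻¹ * y := by
    rw [← e2, ← e3]
    calc d * (a' * y * a'⁻¹) * d⁻¹ = (d * a') * y * (d * a')⁻¹ := by group
      _ = _ := by rw [hcomm]; group
  have hz1 : z = 1 := by
    rw [← hzy, mul_left_inj] at e4
    refine eq_one_of_odd_of_sq (hy.odd z hzF) ?_
    nth_rewrite 2 [e4]
    exact mul_inv_cancel z
  subst hz1
  rw [mul_one] at hz e2
  subst hz
  have hs : (d * a') * y' = y' * (d * a') := by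
    rw [← mul_inv_eq_iff_eq_mul]
    nth_rewrite 2 [← e2]
    group
  refine (hy.eq_of_ker hd.sq h'.ta.sq fun v => ?_).symm
  have hact : ∀ v : V, (d * a') • v = v ∨ (d * a') • v = v * u' := fun v => by
    rcases hd.act v with h1 | h1 <;> rcases h'.ta.act v with h2 | h2 <;>
      simp only [mul_smul, h1, h2, smul_mul', hfd, hy.mul_cancel_right, true_or, or_true]
  refine (hact v).resolve_right fun h1 => ?_
  have h2 : (d * a') • y' • v = y' • v * w' := by
    rw [← mul_smul, hs, mul_smul, h1, smul_mul', h'.yu hy]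
  rcases hact (y' • v) with h3 | h3 <;> rw [h3] at h2
  · exact h'.tb.ne (left_eq_mul.mp h2)
  · exact h'.u_ne_w hy (mul_left_cancel h2)

theorem case_two (hy : Hyp V F) (h : Tri F a y u w) (h' : Tri F a' y' u' w')
    (hc : y' * a * y'⁻¹ = a * y) : a' = a ∨ a' = a * y ∨ a' = a * y⁻¹ := by
  have hyy : y' * y = y * y' := h.comm hy h'.mem
  have h1 : y' • u = w := (hc ▸ h.ta.conj y').unique h.tb
  have h2 : InW u' w' (u * w) :=
    (h'.inW_iff hy).mpr ⟨u, by rw [h1, hy.mul_cancel_left]⟩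
  have h3 : InW u' w' u := h.yuw hy ▸ h'.inW_smul_of_comm hy hyy.symm h2
  have h4 : InW u' w' w := h.yu hy ▸ h'.inW_smul_of_comm hy hyy.symm h3
  have hne := h.u_ne_w hy
  have h5 : InW u w u' ∧ InW u w w' := by
    have e1 : ∀ x y : V, x * (x * y) = y := hy.mul_cancel_left
    have e3 : ∀ x y : V, x * y * y = x := fun x y => hy.mul_cancel_right y x
    have e2 : ∀ x y : V, x * y * x = y := fun x y => by rw [mul_comm, e1]
    have e4 : ∀ x y : V, y * (x * y) = x := fun x y => by rw [mul_comm, e3]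
    have e5 : w' * u' = u' * w' := mul_comm _ _
    unfold InW
    rcases h3 with h3 | h3 | h3 | h3
    · exact absurd h3 h.ta.ne
    all_goals
      rcases h4 with h4 | h4 | h4 | h4
      · exact absurd h4 h.tb.ne
      all_goals first
        | exact absurd (h3.trans h4.symm) hne
        | (rw [h3, h4]; simp only [e1, e2, e3, e4, e5, true_or, or_true, and_self])
  have h6 : ∀ t, InW u' w' t → InW u w t := by
    rintro t (rfl | rfl | rfl | rfl)
    · exact Or.inl rfl
    · exact h5.1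
    · exact h5.2
    · exact h5.1.mul hy.expo h5.2
  set z := y⁻¹ * y' with hzdef
  have hzF : z ∈ F := F.mul_mem (F.inv_mem h.mem) h'.mem
  have hz : y' = y * z := by rw [hzdef, mul_inv_cancel_left]
  have hza : z * a * z⁻¹ = a := by
    calc z * a * z⁻¹ = y⁻¹ * (y' * a * y'⁻¹) * y := by rw [hzdef]; group
      _ = y⁻¹ * (y * a * y⁻¹) * y := by rw [hc, h.conj_y]
      _ = a := by group
  have hzu : z • u = u := h.ta.smul_centre_of_comm hza
  have hzw : z • w = w := by
    refine h.tb.smul_centre_of_comm ?_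
    calc z * (a * y) * z⁻¹ = (z * a * z⁻¹) * (z * y) * z⁻¹ := by group
      _ = a * y := by rw [hza, h.comm hy hzF]; group
  have hk : ∀ v : V, z • v = v := fun v => by
    obtain ⟨t, ht, hv⟩ := h'.y_act hy v
    obtain ⟨s, hs, hv'⟩ := (h.symm hy).y_act hy (v * t)
    have hs' : InW u w s := by
      rcases hs with hs | hs | hs | hs <;> rw [hs]
      · exact Or.inl rfl
      · exact Or.inr (Or.inl rfl)
      · exact Or.inr (Or.inr (Or.inr (mul_comm _ _)))
      · exact Or.inr (Or.inr (Or.inl (by rw [mul_comm w u, hy.mul_cancel_left])))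
    have h7 : z • v = v * (t * s) := by rw [hzdef, mul_smul, hv, hv', mul_assoc]
    refine smul_of_sq_smul (hy.odd z hzF) ?_
    rw [h7, smul_mul', h7, ((h6 t ht).mul hy.expo hs').smul_of_fix hzu hzw, hy.mul_cancel_right]
  have hz3 : z * z * z = 1 := by
    have hc : Commute y⁻¹ y' := (Commute.symm hyy).inv_left
    have e1 : y⁻¹ ^ 3 = 1 := by rw [inv_pow, pow_succ, pow_two, h.cube, inv_one]
    have e2 : y' ^ 3 = 1 := by rw [pow_succ, pow_two, h'.cube]
    rw [← pow_two, ← pow_succ, hzdef, hc.mul_pow, e1, e2, one_mul]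
  rcases h5.1 with h7 | h7 | h7 | h7
  · exact absurd h7 h'.ta.ne
  · exact Or.inl (case_two_aux hy h h' hz hzF hk hz3 (h7 ▸ h.ta) h.inv)
  · refine Or.inr (Or.inl (case_two_aux hy h h' hz hzF hk hz3 (h7 ▸ h.tb) ?_))
    rw [← h.inv]
    group
  · refine Or.inr (Or.inr (case_two_aux hy h h' hz hzF hk hz3 (by rw [h7, mul_comm]; exact h.tc) ?_))
    rw [← h.inv]
    nth_rewrite 1 [h.inv]
    nth_rewrite 1 [h.inv]
    group

/-- Two configurations either have the same transvections or centralize each other. -/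
theorem dichotomy (hy : Hyp V F) (h : Tri F a y u w) (h' : Tri F a' y' u' w') :
    (a' = a ∨ a' = a * y ∨ a' = a * y⁻¹) ∨
      (a' * a = a * a' ∧ a' * y = y * a' ∧ y' * a = a * y' ∧ y' • u = u ∧ y' • w = w) := by
  rcases h.cls y' h'.mem with hc | hc | hc
  · right
    obtain ⟨h1, h2⟩ := case_one hy h h' hc
    have hya : y * a' * y⁻¹ = a' := by
      obtain ⟨t, ht, hv⟩ := h.y_act hy u'
      have hf := ht.smul_of_fix h1 h2
      rcases h'.cls y h.mem with h3 | h3 | h3
      · exact h3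
      · exfalso
        have h4 : y • u' = w' := (h3 ▸ h'.ta.conj y).unique h'.tb
        have h5 : t = u' * w' := by rw [← h4, hv, hy.mul_cancel_left]
        rw [h5] at hf
        exact h'.uw_ne hy (h'.eq_one_of_fix hy (Or.inr (Or.inr (Or.inr rfl))) hf)
      · exfalso
        have h4 : y • u' = w' * u' := (h3 ▸ h'.ta.conj y).unique h'.tc
        rw [hv, mul_comm w' u'] at h4
        rw [mul_left_cancel h4] at hf
        exact h'.tb.ne (h'.eq_one_of_fix hy (Or.inr (Or.inr (Or.inl rfl))) hf)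
    obtain ⟨h3, -⟩ := case_one hy h' h hya
    have h4 := h.fix_of_comm hy h3
    have h5 := h'.fix_of_comm hy h1
    refine ⟨hy.comm_of_ker h'.ta.sq h.ta.sq fun v => ?_, (mul_inv_eq_iff_eq_mul.mp hya).symm,
      mul_inv_eq_iff_eq_mul.mp hc, h1, h2⟩
    rcases h.ta.act v with h6 | h6 <;> rcases h'.ta.act v with h7 | h7 <;>
      simp only [h6, h7, smul_mul', h4, h5, mul_right_comm]
  · exact Or.inl (case_two hy h h' hc)
  · left
    rcases case_two hy (h.symm hy) h' hc with h1 | h1 | h1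
    · exact Or.inl h1
    · exact Or.inr (Or.inr h1)
    · exact Or.inr (Or.inl (by rwa [inv_inv] at h1))

/-- If `a'` is one of the three transvections of the configuration of `a`, then `⟨y'⟩ = ⟨y⟩`. -/
theorem y_eq_of_mem (hy : Hyp V F) (h : Tri F a y u w) (h' : Tri F a' y' u' w')
    (ha : a' = a ∨ a' = a * y ∨ a' = a * y⁻¹) : y' = y ∨ y' = y⁻¹ := by
  have h1 : y' = a' * (y' * a' * y'⁻¹) := by rw [h'.conj_y, ← mul_assoc, h'.ta.sq, one_mul]
  have hyy : y' * y = y * y' := h.comm hy h'.mem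
  obtain ⟨s, hs, hs1, hs2⟩ : ∃ s, a' = a * s ∧ y' * s * y'⁻¹ = s ∧ a * s * a⁻¹ = s⁻¹ := by
    rcases ha with ha | ha | ha
    · exact ⟨1, by rw [ha, mul_one], by group, by group⟩
    · exact ⟨y, ha, by rw [hyy]; group, h.inv⟩
    · refine ⟨y⁻¹, ha, ?_, (h.symm hy).inv⟩
      calc y' * y⁻¹ * y'⁻¹ = (y' * y * y'⁻¹)⁻¹ := by group
        _ = y⁻¹ := by rw [hyy]; group
  have h2 : y' = s⁻¹ * (a * (y' * a * y'⁻¹)) * s := by
    calc y' = a * s * (y' * (a * s) * y'⁻¹) := by rw [← hs, ← h1]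
      _ = (a * s * a⁻¹) * (a * (y' * a * y'⁻¹)) * (y' * s * y'⁻¹) := by group
      _ = _ := by rw [hs1, hs2]
  have h3 : s * y' * s⁻¹ = y' := by
    rw [← mul_inv_eq_iff_eq_mul.mp hs1]
    group
  have h4 : y' = a * (y' * a * y'⁻¹) := by
    calc y' = s * y' * s⁻¹ := h3.symm
      _ = s * (s⁻¹ * (a * (y' * a * y'⁻¹)) * s) * s⁻¹ := by rw [← h2]
      _ = _ := by group
  rcases h.cls y' h'.mem with h5 | h5 | h5 <;> rw [h5] at h4
  · exact absurd (h4.trans h.ta.sq) h'.ne
  · exact Or.inl (by rw [h4, ← mul_assoc, h.ta.sq, one_mul])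
  · exact Or.inr (by rw [h4, ← mul_assoc, h.ta.sq, one_mul])

end Tri

end Cfsg.Lib.Local.Tv
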