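import Cfsg.Agent.Local.TvBasic
import Mathlib.Order.Preorder.Finite
import Mathlib.Data.Set.Finite.Basic

/-!
An elementary abelian 2-group `E` acting on a group `F` of odd order: an element `b` of `E` not
centralizing `F` inverts a nontrivial element of `F` whose centralizer in `E` is a hyperplane.
With an action on `V` as in `Hyp`, some vector has a hyperplane of `E` avoiding `b` as stabilizer.
-/

set_option autoImplicit false

namespace Cfsg.Lib.Local.Tv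

variable {H V : Type*} [Group H] [CommGroup V] [MulDistribMulAction H V]

theorem four_group {F : Subgroup H} (odd : ∀ f ∈ F, Odd (orderOf f)) {b c y : H}
    (hc : c * c = 1) (hbc : b * c = c * b) (hcF : ∀ f ∈ F, c * f * c⁻¹ ∈ F)
    (hy : y ∈ F) (hy1 : y ≠ 1) (hby : b * y * b⁻¹ = y⁻¹) :
    ∃ z ∈ F, z ≠ 1 ∧ b * z * b⁻¹ = z⁻¹ ∧ (c * z * c⁻¹ = z ∨ c * z * c⁻¹ = z⁻¹) := by
  have hci : c⁻¹ = c := inv_eq_of_mul_eq_one_right hc
  set x := y⁻¹ * (c * y * c⁻¹) with hx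
  have hxF : x ∈ F := F.mul_mem (F.inv_mem hy) (hcF y hy)
  obtain ⟨k, hk⟩ := exists_eq_sq_pow_of_odd (odd x hxF)
  set r := x ^ k with hr
  have hrr : r * r = x := by rw [hr, ← Commute.mul_pow (Commute.refl x), ← hk]
  have h1 : b * (c * y * c⁻¹) * b⁻¹ = (c * y * c⁻¹)⁻¹ := by
    calc b * (c * y * c⁻¹) * b⁻¹ = (b * c) * y * (b * c)⁻¹ := by group
      _ = c * (b * y * b⁻¹) * c⁻¹ := by rw [hbc]; group
      _ = _ := by rw [hby]; group
  have h2 : (b * y) * x * (b * y)⁻¹ = x⁻¹ := by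
    calc (b * y) * x * (b * y)⁻¹ = (b * (c * y * c⁻¹) * b⁻¹) * (b * y * b⁻¹)⁻¹ := by
          rw [hx]; group
      _ = x⁻¹ := by rw [h1, hby, hx]; group
  have h3 : c * x * c⁻¹ = x⁻¹ := by
    calc c * x * c⁻¹ = (c * y * c⁻¹)⁻¹ * ((c * c) * y * (c * c)⁻¹) := by rw [hx]; group
      _ = x⁻¹ := by rw [hc, hx]; group
  have h4 : (b * y) * r * (b * y)⁻¹ = r⁻¹ := by rw [hr, ← conj_pow, h2, inv_pow]
  have h5 : c * r * c⁻¹ = r⁻¹ := by rw [hr, ← conj_pow, h3, inv_pow]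
  by_cases hi : y * r = 1
  · refine ⟨y, hy, hy1, hby, Or.inr ?_⟩
    have : r = y⁻¹ := eq_inv_of_mul_eq_one_right hi
    rw [this, hx, mul_right_inj] at hrr
    exact hrr.symm
  · refine ⟨y * r, F.mul_mem hy (F.pow_mem hxF k), hi, ?_, Or.inl ?_⟩
    · calc b * (y * r) * b⁻¹ = ((b * y) * r * (b * y)⁻¹) * (b * y * b⁻¹) := by group
        _ = _ := by rw [h4, hby]; group
    · calc c * (y * r) * c⁻¹ = y * x * (c * r * c⁻¹) := by rw [hx]; group
        _ = _ := by rw [h5, ← hrr]; group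

theorem comm_of_expo {E : Subgroup H} (hE : ∀ c ∈ E, c * c = 1) {b c : H} (hb : b ∈ E)
    (hc : c ∈ E) : b * c = c * b := by
  have h := hE _ (E.mul_mem hb hc)
  calc b * c = (b * c)⁻¹ := (inv_eq_of_mul_eq_one_right h).symm
    _ = c * b := by
      rw [mul_inv_rev, inv_eq_of_mul_eq_one_right (hE b hb), inv_eq_of_mul_eq_one_right (hE c hc)]

theorem exists_hyper [Finite H] {F E : Subgroup H} (hF : F.Normal)
    (odd : ∀ f ∈ F, Odd (orderOf f)) (hE : ∀ c ∈ E, c * c = 1) {b : H} (hb : b ∈ E)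
    (hn : ∃ f ∈ F, f * b ≠ b * f) :
    ∃ y ∈ F, y ≠ 1 ∧ b * y * b⁻¹ = y⁻¹ ∧ ∀ c ∈ E, c * y = y * c ∨ b * c * y = y * (b * c) := by
  have hbi : b⁻¹ = b := inv_eq_of_mul_eq_one_right (hE b hb)
  have hne : {y : H | y ∈ F ∧ y ≠ 1 ∧ b * y * b⁻¹ = y⁻¹}.Nonempty := by
    obtain ⟨f, hf, hfb⟩ := hn
    refine ⟨b * f * b⁻¹ * f⁻¹, F.mul_mem (hF.conj_mem f hf b) (F.inv_mem hf), fun h => hfb ?_, ?_⟩
    · rw [mul_inv_eq_one, mul_inv_eq_iff_eq_mul] at h
      exact h.symm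
    · calc b * (b * f * b⁻¹ * f⁻¹) * b⁻¹ = (b * b) * f * b⁻¹ * f⁻¹ * b⁻¹ := by group
        _ = f * b⁻¹ * f⁻¹ * b⁻¹ := by rw [hE b hb, one_mul]
        _ = _ := by nth_rewrite 1 [hbi]; group
  obtain ⟨y, ⟨hyF, hy1, hby⟩, hmax⟩ :=
    (Set.toFinite _).exists_maximalFor (fun y : H => {c | c ∈ E ∧ c * y = y * c}) _ hne
  refine ⟨y, hyF, hy1, hby, fun c hc => ?_⟩
  let F0 : Subgroup H := F ⊓ Subgroup.centralizer {c | c ∈ E ∧ c * y = y * c}
  have hyF0 : y ∈ F0 := ⟨hyF, fun d hd => hd.2⟩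
  obtain ⟨z, hz, hz1, hbz, hcz⟩ := four_group (F := F0) (fun f hf => odd f hf.1) (hE c hc)
    (comm_of_expo hE hb hc) (fun f hf => ⟨hF.conj_mem f hf.1 c, fun d hd => by
      have e1 := comm_of_expo hE hd.1 hc
      have e2 : d * f = f * d := hf.2 d hd
      calc d * (c * f * c⁻¹) = (d * c) * f * c⁻¹ := by group
        _ = c * (d * f) * c⁻¹ := by rw [e1]; group
        _ = c * f * c⁻¹ * (c * d) * c⁻¹ := by rw [e2]; group
        _ = _ := by rw [← e1]; group⟩) hyF0 hy1 hby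
  have hle := hmax (j := z) ⟨hz.1, hz1, hbz⟩ (fun d hd => ⟨hd.1, hz.2 d hd⟩)
  rcases hcz with h | h
  · exact Or.inl (hle ⟨hc, mul_inv_eq_iff_eq_mul.mp h⟩).2
  · refine Or.inr (hle ⟨E.mul_mem hb hc, mul_inv_eq_iff_eq_mul.mp ?_⟩).2
    calc b * c * z * (b * c)⁻¹ = b * (c * z * c⁻¹) * b⁻¹ := by group
      _ = (b * z * b⁻¹)⁻¹ := by rw [h]; group
      _ = z := by rw [hbz, inv_inv]

/-- Some vector not fixed by `b` is fixed by a hyperplane of `E`. -/
theorem Hyp.exists_fix [Finite H] [Finite V] {F E : Subgroup H} (hy : Hyp V F)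
    (hE : ∀ c ∈ E, c * c = 1) {b : H} (hb : b ∈ E) (hn : ∃ f ∈ F, f * b ≠ b * f) :
    ∃ v : V, b • v ≠ v ∧ ∀ c ∈ E, c • v = v ∨ (b * c) • v = v := by
  obtain ⟨y, hyF, hy1, hby, hall⟩ := exists_hyper hy.normal hy.odd hE hb hn
  have hyo := hy.odd y hyF
  have hW : ∀ {g : H} {t : V}, g * y = y * g → (∃ x : V, y • x = x * t) →
      ∃ x : V, y • x = x * g • t := by
    rintro g t hg ⟨x, hx⟩
    exact ⟨g • x, by rw [← mul_smul, ← hg, mul_smul, hx, smul_mul']⟩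
  have hne : {t : V | t ≠ 1 ∧ ∃ x : V, y • x = x * t}.Nonempty := by
    by_contra hcon
    have hk : ∀ x : V, y • x = x := fun x => by
      by_contra hx
      exact hcon ⟨x⁻¹ * y • x, fun h => hx (inv_mul_eq_one.mp h).symm, x, by
        rw [mul_inv_cancel_left]⟩
    have := hy.ker_comm y hk b (hE b hb)
    rw [← this, mul_inv_cancel_right] at hby
    exact hy1 (eq_one_of_odd_of_sq hyo (by nth_rewrite 2 [hby]; exact mul_inv_cancel y))
  obtain ⟨t, ⟨ht1, ht⟩, hmax⟩ := (Set.toFinite _).exists_maximalFor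
    (fun t : V => {c | c ∈ E ∧ c * y = y * c ∧ c • t = t}) _ hne
  have hfix : ∀ c ∈ E, c * y = y * c → c • t = t := by
    intro c hc hcy
    by_contra hct
    have h1 : t * c • t ≠ 1 := fun h => hct (hy.eq_of_mul_eq_one h).symm
    obtain ⟨x, hx⟩ := ht
    obtain ⟨x', hx'⟩ := hW hcy ⟨x, hx⟩
    have h2 := hmax (j := t * c • t) ⟨h1, x * x', by rw [smul_mul', hx, hx', mul_mul_mul_comm]⟩
      (fun d hd => ⟨hd.1, hd.2.1, by
        rw [smul_mul', ← mul_smul, comm_of_expo hE hd.1 hc, mul_smul, hd.2.2]⟩)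
    exact hct (h2 ⟨hc, hcy, by rw [smul_mul', ← mul_smul, hE c hc, one_smul, mul_comm]⟩).2.2
  have hfix' : ∀ c ∈ E, c * y = y * c → c • y • t = y • t := fun c hc hcy => by
    rw [← mul_smul, hcy, mul_smul, hfix c hc hcy]
  by_cases h1 : b • t = t
  · refine ⟨y • t, fun h2 => ?_, fun c hc => (hall c hc).imp (hfix' c hc)
      (hfix' _ (E.mul_mem hb hc))⟩
    have h3 : y • y • t = t := by
      have e : y * b * y = b := by
        calc y * b * y = y * (b * y * b⁻¹) * b := by group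
          _ = b := by rw [hby]; group
      rw [← h2, ← mul_smul, ← mul_smul, e, h1]
    have h4 := smul_of_sq_smul hyo h3
    obtain ⟨x, hx⟩ := ht
    have h5 : y • x = x := smul_of_sq_smul hyo (by rw [hx, smul_mul', hx, h4, hy.mul_cancel_right])
    rw [h5, left_eq_mul] at hx
    exact ht1 hx
  · exact ⟨t, h1, fun c hc => (hall c hc).imp (hfix c hc) (hfix _ (E.mul_mem hb hc))⟩

end Cfsg.Lib.Local.Tv
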